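import Cfsg.Agent.HSType.Words

/-!
# The Sylow 2-subgroups of the Higman-Sims group in coordinates

A homocyclic group of rank three and exponent four extended by a dihedral group of order eight.
-/

set_option autoImplicit false
set_option maxRecDepth 100000

namespace Cfsg.Lib.HSType

section Embedding

open Cfsg.Lib.HSLocal Cfsg.Lib.PermCert

variable {X : Type*} [Group X]

theorem wvx_pW (im : ℕ → X) (w : List ℕ) : ∀ n, wvx im (pW w n) = wvx im w ^ n
  | 0 => by rw [pW, pow_zero, wvx_nil]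
  | n + 1 => by rw [pW, wvx_append, wvx_pW im w n, pow_succ']

theorem pow_val {C : X} (h : C ^ 4 = 1) (i j : ZMod 4) : C ^ (i + j).val = C ^ i.val * C ^ j.val := by
  rw [← pow_add, ZMod.val_add, ← pow_eq_pow_mod _ h]

/-- The vectors in a group with three commuting elements of exponent four. -/
def vecVal (C A B : X) (v : E4) : X := C ^ v.1.val * A ^ v.2.1.val * B ^ v.2.2.val

/-- The dihedral part in a group. -/
def dVal (W S : X) (d : D8) : X := W ^ d.1.val * bif d.2 then S else 1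

theorem exists_hom {C A B W S : X} (hC : C ^ 4 = 1) (hA : A ^ 4 = 1) (hB : B ^ 4 = 1) (hW : W ^ 4 = 1)
    (hS : S * S = 1) (hCA : C * A = A * C) (hCB : C * B = B * C) (hAB : A * B = B * A)
    (hWC : W * C = C ^ 3 * W) (hWA : W * A = C * A ^ 2 * B ^ 3 * W) (hWB : W * B = A ^ 3 * W)
    (hSC : S * C = C ^ 3 * S) (hSA : S * A = B * S) (hSB : S * B = A * S) (hSW : S * W = W ^ 3 * S) :
    ∃ φ : Mdl →* X, ∀ q, φ q = vecVal C A B q.v * dVal W S q.d := by
  set P := vecVal C A B with hP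
  have hCA' : Commute C A := hCA
  have hCB' : Commute C B := hCB
  have hAB' : Commute A B := hAB
  have hadd : ∀ v w, P (v + w) = P v * P w := fun v w => by
    show C ^ (v.1 + w.1).val * A ^ (v.2.1 + w.2.1).val * B ^ (v.2.2 + w.2.2).val = _
    rw [pow_val hC, pow_val hA, pow_val hB]
    simp only [hP, vecVal]
    have e1 : Commute (A ^ v.2.1.val) (C ^ w.1.val) := (hCA'.pow_pow _ _).symm
    have e2 : Commute (B ^ v.2.2.val) (C ^ w.1.val) := (hCB'.pow_pow _ _).symm
    have e3 : Commute (B ^ v.2.2.val) (A ^ w.2.1.val) := (hAB'.pow_pow _ _).symm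
    generalize C ^ v.1.val = c1, C ^ w.1.val = c2, A ^ v.2.1.val = a1, A ^ w.2.1.val = a2,
      B ^ v.2.2.val = b1, B ^ w.2.2.val = b2 at *
    calc c1 * c2 * (a1 * a2) * (b1 * b2) = c1 * (c2 * a1) * (a2 * b1) * b2 := by group
      _ = c1 * (a1 * c2) * (b1 * a2) * b2 := by rw [e1.eq, e3.eq]
      _ = c1 * a1 * (c2 * b1) * a2 * b2 := by group
      _ = c1 * a1 * (b1 * c2) * a2 * b2 := by rw [e2.eq]
      _ = _ := by group
  have hP0 : P 0 = 1 := by
    show C ^ (0 : ZMod 4).val * A ^ (0 : ZMod 4).val * B ^ (0 : ZMod 4).val = 1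
    simp
  -- a homomorphism of the vectors is determined by the basis
  have hgen : ∀ (T : X) (f : E4 → E4), (∀ v w, f (v + w) = f v + f w) →
      T * P (1, 0, 0) = P (f (1, 0, 0)) * T → T * P (0, 1, 0) = P (f (0, 1, 0)) * T →
      T * P (0, 0, 1) = P (f (0, 0, 1)) * T → ∀ v, T * P v = P (f v) * T := by
    intro T f hf h1 h2 h3
    have hf0 : f 0 = 0 := by
      have h := hf 0 0
      rw [add_zero] at h
      exact left_eq_add.1 h
    have hstep : ∀ v w, T * P v = P (f v) * T → T * P w = P (f w) * T → T * P (v + w) = P (f (v + w)) * T :=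
      fun v w hv hw => by rw [hadd, ← mul_assoc, hv, mul_assoc, hw, hf, hadd, mul_assoc]
    have hn : ∀ (v : E4), T * P v = P (f v) * T → ∀ n : ℕ, T * P (n • v) = P (f (n • v)) * T := by
      intro v hv n
      induction n with
      | zero => rw [zero_smul, hf0, hP0, mul_one, one_mul]
      | succ n ih => rw [succ_nsmul]; exact hstep _ _ ih hv
    have hdec : ∀ v : E4, v = v.1.val • (1, 0, 0) + (v.2.1.val • (0, 1, 0) + v.2.2.val • (0, 0, 1)) := by
      decide +kernel
    intro v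
    rw [hdec v]
    exact hstep _ _ (hn _ h1 _) (hstep _ _ (hn _ h2 _) (hn _ h3 _))
  have hbc : P (1, 0, 0) = C ∧ P (0, 1, 0) = A ∧ P (0, 0, 1) = B := by
    simp [hP, vecVal, show (1 : ZMod 4).val = 1 from rfl]
  have hv3 : (3 : ZMod 4).val = 3 ∧ (2 : ZMod 4).val = 2 ∧ (1 : ZMod 4).val = 1 := ⟨rfl, rfl, rfl⟩
  have hWv : ∀ v, W * P v = P (actW 1 v) * W := by
    refine hgen W (actW 1) (fun v w => act_add (1, false) v w) ?_ ?_ ?_
    · rw [hbc.1, show actW 1 (1, 0, 0) = (3, 0, 0) from rfl, hWC]; simp [hP, vecVal, hv3.1]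
    · rw [hbc.2.1, show actW 1 (0, 1, 0) = (1, 2, 3) from rfl, hWA]; simp [hP, vecVal, hv3.1, hv3.2.1, hv3.2.2]
    · rw [hbc.2.2, show actW 1 (0, 0, 1) = (0, 3, 0) from rfl, hWB]; simp [hP, vecVal, hv3.1]
  have hSv : ∀ v, S * P v = P (actS v) * S := by
    refine hgen S actS (fun v w => act_add (0, true) v w) ?_ ?_ ?_
    · rw [hbc.1, show actS (1, 0, 0) = (3, 0, 0) from rfl, hSC]; simp [hP, vecVal, hv3.1]
    · rw [hbc.2.1, show actS (0, 1, 0) = (0, 0, 1) from rfl, hbc.2.2, hSA]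
    · rw [hbc.2.2, show actS (0, 0, 1) = (0, 1, 0) from rfl, hbc.2.1, hSB]
  have hiter : ∀ (n : ℕ) (v : E4), W ^ n * P v = P ((actW 1)^[n] v) * W ^ n := by
    intro n
    induction n with
    | zero => intro v; simp
    | succ n ih =>
      intro v
      rw [pow_succ, mul_assoc, hWv, ← mul_assoc, ih, mul_assoc, ← pow_succ, Function.iterate_succ_apply]
  have hactd : ∀ (d : D8) (v : E4), (actW 1)^[d.1.val] (bif d.2 then actS v else v) = act d v := by decide +kernel
  have hdv : ∀ d v, dVal W S d * P v = P (act d v) * dVal W S d := fun d v => by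
    rw [← hactd d v]
    obtain ⟨m, e⟩ := d
    cases e
    · simp only [dVal, cond_false, mul_one]; exact hiter _ _
    · simp only [dVal, cond_true]
      rw [mul_assoc, hSv, ← mul_assoc, hiter, mul_assoc]
  have hSW' : ∀ n : ℕ, S * W ^ n = W ^ (3 * n) * S := by
    intro n
    induction n with
    | zero => simp
    | succ n ih => rw [pow_succ, ← mul_assoc, ih, mul_assoc, hSW, ← mul_assoc, ← pow_add, Nat.mul_succ]
  have hmod : ∀ a b : ℕ, a % 4 = b % 4 → W ^ a = W ^ b := fun a b h => by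
    rw [pow_eq_pow_mod a hW, h, ← pow_eq_pow_mod b hW]
  have hval : (∀ a b : ZMod 4, (a.val + 3 * b.val) % 4 = (a - b).val % 4) ∧
      ∀ a b : ZMod 4, (a.val + b.val) % 4 = (a + b).val % 4 := by decide +kernel
  have hdd : ∀ d d', dVal W S d * dVal W S d' = dVal W S (dmul d d') := by
    rintro ⟨a, e⟩ ⟨b, f⟩
    cases e <;> cases f <;> simp only [dVal, dmul, cond_true, cond_false, Bool.xor_false, Bool.xor_true,
      Bool.not_false, Bool.not_true, mul_one]
    · rw [← pow_add]; exact hmod _ _ (hval.2 a b)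
    · rw [← mul_assoc, ← pow_add]; exact congrArg (· * S) (hmod _ _ (hval.2 a b))
    · rw [mul_assoc, hSW', ← mul_assoc, ← pow_add]; exact congrArg (· * S) (hmod _ _ (hval.1 a b))
    · rw [mul_assoc, ← mul_assoc S, hSW', mul_assoc, hS, mul_one, ← pow_add]; exact hmod _ _ (hval.1 a b)
  refine ⟨MonoidHom.mk' (fun q => P q.v * dVal W S q.d) fun p q => ?_, fun q => rfl⟩
  show P (p.v + act p.d q.v) * dVal W S (dmul p.d q.d) = _
  rw [hadd, ← hdd]
  calc P p.v * P (act p.d q.v) * (dVal W S p.d * dVal W S q.d)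
      = P p.v * (P (act p.d q.v) * dVal W S p.d) * dVal W S q.d := by group
    _ = P p.v * (dVal W S p.d * P q.v) * dVal W S q.d := by rw [hdv]
    _ = _ := by group

theorem exists_embedding : ∃ φ : Mdl →* ↥Cfsg.Spor.HS, Function.Injective φ := by
  obtain ⟨c1, c2, c3, c4, c5, c6, c7, c8, c9, c10, c11, c12, c13, c14, c15⟩ := rel_checks
  have s1 := eqW_sound c1
  have s2 := eqW_sound c2
  have s3 := eqW_sound c3
  have s4 := eqW_sound c4
  have s5 := eqW_sound c5
  have s6 := eqW_sound c6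
  have s7 := eqW_sound c7
  have s8 := eqW_sound c8
  have s9 := eqW_sound c9
  have s10 := eqW_sound c10
  have s11 := eqW_sound c11
  have s12 := eqW_sound c12
  have s13 := eqW_sound c13
  have s14 := eqW_sound c14
  have s15 := eqW_sound c15
  simp only [wvx_append, wvx_pW, wvx_nil] at s1 s2 s3 s4 s5 s6 s7 s8 s9 s10 s11 s12 s13 s14 s15
  rw [pow_two] at s5
  obtain ⟨φ, hφ⟩ := exists_hom s1 s2 s3 s4 s5 s6 s7 s8 s9 s10 s11 s12 s13 s14 s15
  have he : ∀ q, φ q = wvx imG (eW q) := fun q => by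
    rw [hφ, eW]
    simp only [wvx_append, wvx_pW, vecVal, dVal]
    obtain ⟨v, m, e⟩ := q
    cases e <;> simp only [cond_true, cond_false, wvx_nil] <;> group
  have hsmall : ∀ q, ∀ l ∈ eW q, l < 11 := fun q => all_lt (words_small q)
  have hmem : ∀ q, φ q ∈ grpG := fun q => he q ▸ wvx_mem (hsmall q)
  obtain ⟨e⟩ := exists_spor
  refine ⟨e.symm.toMonoidHom.comp (φ.codRestrict grpG hmem), ?_⟩
  refine e.symm.injective.comp ((injective_iff_map_eq_one _).2 fun q hq => ?_)
  by_contra hne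
  obtain ⟨x, hx, hxx⟩ := List.any_eq_true.1 (words_ne q hne)
  rw [List.mem_range] at hx
  refine (bne_iff_ne.1 hxx) ?_
  have h1 : wvx imG (eW q) = 1 := by rw [← he]; exact congrArg Subtype.val hq
  rw [← evalG (fun l hl => (hsmall q l hl).trans (by norm_num)) ⟨x, hx⟩, h1, inv_one, Equiv.Perm.one_apply]

end Embedding

universe u

/-- A Sylow 2-subgroup with the given structure. -/
structure Typed (G : Type u) [Group G] where
  /-- the Sylow subgroup -/
  S : Sylow 2 G
  /-- the coordinates -/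
  e : Mdl ≃* ↥(S : Subgroup G)

/-- A group with Sylow 2-subgroups like those of the Higman-Sims group carries the model. -/
theorem exists_typed {G : Type u} [Group G] [Finite G] (S : Sylow 2 G) (P : Sylow 2 ↥Cfsg.Spor.HS)
    (hS : Nonempty (↥(S : Subgroup G) ≃* ↥(P : Subgroup ↥Cfsg.Spor.HS))) : ∃ c : Typed G, c.S = S := by
  haveI : Fact (Nat.Prime 2) := ⟨Nat.prime_two⟩
  obtain ⟨φ, hφ⟩ := exists_embedding
  obtain ⟨e⟩ := Cfsg.Lib.HSLocal.exists_spor
  haveI : Finite ↥Cfsg.Spor.HS := Finite.of_equiv _ e.symm.toEquiv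
  have hp : IsPGroup 2 φ.range := IsPGroup.of_card (n := 9) (by
    rw [← Nat.card_congr (MonoidHom.ofInjective hφ).toEquiv, Mdl.card]; norm_num)
  obtain ⟨R, hR⟩ := hp.exists_le_sylow
  have hcard : Nat.card ↥(R : Subgroup ↥Cfsg.Spor.HS) = 512 := by
    rw [R.card_eq_multiplicity, Nat.card_congr e.toEquiv, Cfsg.Lib.HSLocal.card_grpG,
      show (44352000 : ℕ) = 2 ^ 9 * 86625 by norm_num, Nat.factorization_mul (by norm_num) (by norm_num)]
    rw [Finsupp.add_apply, Nat.Prime.factorization_pow Nat.prime_two, Finsupp.single_eq_same,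
      Nat.factorization_eq_zero_of_not_dvd (show ¬ 2 ∣ 86625 by norm_num)]
    norm_num
  have heq : φ.range = (R : Subgroup ↥Cfsg.Spor.HS) := Subgroup.eq_of_le_of_card_ge hR (by
    rw [hcard, ← Nat.card_congr (MonoidHom.ofInjective hφ).toEquiv, Mdl.card])
  obtain ⟨f⟩ := hS
  exact ⟨⟨S, ((MonoidHom.ofInjective hφ).trans (MulEquiv.subgroupCongr heq)).trans
    ((Sylow.equiv R P).trans f.symm)⟩, rfl⟩

end Cfsg.Lib.HSType
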