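import Cfsg.Agent.HSType.Homocyclic
import Cfsg.Agent.HSType.Model
import Cfsg.Agent.GTwoType.Fusion

/-!
# A Sylow 2-subgroup of the type of the Higman-Sims group inside a group
-/

set_option autoImplicit false
set_option linter.unusedSectionVars false
set_option linter.style.haveILetI false

namespace Cfsg.Lib.HSType

open Subgroup Mdl

universe u

namespace Typed

variable {G : Type u} [Group G] [Finite G] (c : Typed G)

/-- The model inside the group. -/
def ι : Mdl →* G := (c.S : Subgroup G).subtype.comp c.e.toMonoidHom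

theorem ι_inj : Function.Injective c.ι := Subtype.val_injective.comp c.e.injective

theorem ι_mem (q : Mdl) : c.ι q ∈ (c.S : Subgroup G) := (c.e q).2

theorem exists_ι {g : G} (hg : g ∈ (c.S : Subgroup G)) : ∃ q, c.ι q = g :=
  ⟨c.e.symm ⟨g, hg⟩, congrArg Subtype.val (c.e.apply_symm_apply ⟨g, hg⟩)⟩

theorem ι_ne {q : Mdl} (h : q ≠ 1) : c.ι q ≠ 1 := fun e => h (c.ι_inj (e.trans (map_one _).symm))

theorem ι_comm {p q : Mdl} (h : p * q = q * p) : Commute (c.ι p) (c.ι q) := by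
  rw [commute_iff_eq, ← map_mul, ← map_mul, h]

theorem conj_ι {g w q : Mdl} (h : g * w * g⁻¹ = q) : IsConj (c.ι w) (c.ι q) :=
  isConj_iff.2 ⟨c.ι g, by rw [← map_inv, ← map_mul, ← map_mul, h]⟩

theorem order_ι {q : Mdl} (h : q * q = 1) (h1 : q ≠ 1) : orderOf (c.ι q) = 2 :=
  orderOf_eq_prime (by rw [pow_two, ← map_mul, h, map_one]) (c.ι_ne h1)

theorem inv_pre {q : Mdl} (h : orderOf (c.ι q) = 2) : q * q = 1 ∧ q ≠ 1 := by
  refine ⟨c.ι_inj ?_, fun e => ?_⟩
  · have := pow_orderOf_eq_one (c.ι q)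
    rw [h] at this
    rwa [map_mul, map_one, ← pow_two]
  · rw [e, map_one, orderOf_one] at h
    norm_num at h

/-- The central involution of the Sylow subgroup. -/
abbrev T : G := c.ι t0

theorem orderOf_T : orderOf c.T = 2 := c.order_ι t0_facts.1 t0_facts.2

theorem S_le : (c.S : Subgroup G) ≤ centralizer ({c.T} : Set G) := fun s hs => by
  obtain ⟨q, rfl⟩ := c.exists_ι hs
  exact mem_centralizer_singleton_iff.2 (c.ι_comm (t0_central q)).eq

theorem exists_conj_cent {y : G} (hy : IsConj y c.T) :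
    ∃ g : G, g * y * g⁻¹ = c.T ∧ ∀ q ∈ (c.S : Subgroup G), Commute q y → g * q * g⁻¹ ∈ (c.S : Subgroup G) := by
  obtain ⟨g, hg⟩ := isConj_iff.1 hy
  set X : Subgroup G := (((c.S : Subgroup G) ⊓ centralizer ({y} : Set G))).map (MulAut.conj g).toMonoidHom
  have hX : X ≤ centralizer ({c.T} : Set G) := by
    rintro _ ⟨q, hq, rfl⟩
    rw [← hg]
    exact mem_centralizer_singleton_iff.2
      ((show Commute q y from mem_centralizer_singleton_iff.1 hq.2).map (MulAut.conj g).toMonoidHom).eq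
  obtain ⟨k, hk, hkS⟩ := Cfsg.Lib.TwoFusion.exists_sylow_conj c.S c.S_le
    ((c.S.2.to_le inf_le_left).map (MulAut.conj g).toMonoidHom) hX
  refine ⟨k * g, ?_, fun q hq hc => ?_⟩
  · have h := mem_centralizer_singleton_iff.1 hk
    calc k * g * y * (k * g)⁻¹ = k * (g * y * g⁻¹) * k⁻¹ := by group
      _ = _ := by rw [hg, h, mul_inv_cancel_right]
  · have h := hkS (g * q * g⁻¹) ⟨q, ⟨hq, mem_centralizer_singleton_iff.2 hc.eq⟩, rfl⟩
    simpa [mul_assoc] using h

/-- `q'` is the image of `q` under conjugation by `g`. -/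
def Img (g : G) (q q' : Mdl) : Prop := c.ι q' = g * c.ι q * g⁻¹

namespace Img

variable {c : Typed G} {g : G} {p q p' q' : Mdl}

theorem mul (hp : c.Img g p p') (hq : c.Img g q q') : c.Img g (p * q) (p' * q') := by
  show c.ι (p' * q') = g * c.ι (p * q) * g⁻¹
  rw [map_mul, map_mul, hp, hq]; group

theorem one : c.Img g 1 1 := by
  show c.ι 1 = g * c.ι 1 * g⁻¹
  rw [map_one, mul_one, mul_inv_cancel]

theorem unique (hp : c.Img g p p') (hq : c.Img g p q') : p' = q' := c.ι_inj (hp.trans hq.symm)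

theorem eq (hp : c.Img g p p') (hq : c.Img g q q') (h : p = q) : p' = q' := unique hp (h ▸ hq)

theorem ne (hp : c.Img g p p') (hq : c.Img g q q') (h : p ≠ q) : p' ≠ q' := fun e =>
  h (c.ι_inj (mul_left_cancel (mul_right_cancel (hp.symm.trans ((congrArg c.ι e).trans hq)))))

theorem inv (hp : c.Img g p p') : c.Img g p⁻¹ p'⁻¹ := by
  show c.ι p'⁻¹ = g * c.ι p⁻¹ * g⁻¹
  rw [map_inv, map_inv, hp]; group

theorem conj (hp : c.Img g p p') : IsConj (c.ι p) (c.ι p') := isConj_iff.2 ⟨g, hp.symm⟩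

theorem sq (hp : c.Img g p p') (h : p * p = 1) : p' * p' = 1 := eq (hp.mul hp) one h

theorem ne_one (hp : c.Img g p p') (h : p ≠ 1) : p' ≠ 1 := ne hp one h

theorem comm (hp : c.Img g p p') (hq : c.Img g q q') (h : p * q = q * p) : p' * q' = q' * p' :=
  eq (hp.mul hq) (hq.mul hp) h

end Img

theorem exists_img {g : G} {y : G} (hgS : ∀ q ∈ (c.S : Subgroup G), Commute q y → g * q * g⁻¹ ∈ (c.S : Subgroup G))
    {q : Mdl} (h : Commute (c.ι q) y) : ∃ q', c.Img g q q' := c.exists_ι (hgS _ (c.ι_mem q) h)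

/-- A conjugation moving an involution to the centre, as a map of the model on the centraliser. -/
theorem exists_move {x : Mdl} (hx : IsConj (c.ι x) c.T) :
    ∃ g : G, c.Img g x t0 ∧ ∀ q : Mdl, q * x = x * q → ∃ q', c.Img g q q' := by
  obtain ⟨g, hg, hgS⟩ := c.exists_conj_cent hx
  exact ⟨g, hg.symm, fun q h => c.exists_img hgS (c.ι_comm h)⟩

/-- The homocyclic subgroup is preserved. -/
theorem img_AM {g : G} (hA : ∀ a ∈ AM, ∃ a', c.Img g a a') {q q' : Mdl} (hq : q ∈ AM) (hi : c.Img g q q') :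
    q' ∈ AM := by
  set φ : Mdl →* G := (MulAut.conj g).toMonoidHom.comp c.ι with hφ
  have hinj : Function.Injective φ := (MulAut.conj g).injective.comp c.ι_inj
  have hmap : ((AM.map φ).comap c.ι).map c.ι = AM.map φ := Subgroup.map_comap_eq_self (by
    rintro _ ⟨a, ha, rfl⟩
    obtain ⟨a', ha'⟩ := hA a ha
    exact ⟨a', ha'⟩)
  have hB : (AM.map φ).comap c.ι = AM := eq_AM
    (by rw [← card_map_of_injective c.ι_inj, hmap, card_map_of_injective hinj, card_AM])
    (by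
      rintro p ⟨a, ha, hp⟩ r ⟨b, hb, hr⟩
      exact Img.comm (c := c) (g := g) hp.symm hr.symm (AM_comm ha hb))
  rw [← hB]
  exact ⟨q, hq, hi.symm⟩

/-- The vectors of order two are preserved. -/
theorem img_InV {g : G} (hA : ∀ a ∈ AM, ∃ a', c.Img g a a') {q q' : Mdl} (hq : InV q = true)
    (hi : c.Img g q q') : InV q' = true :=
  (InV_iff q').2 ⟨c.img_AM hA ((InV_iff q).1 hq).1 hi, hi.sq ((InV_iff q).1 hq).2⟩

/-- A class is fused to the central involution. -/
def Tc (n : ℕ) : Prop := IsConj (c.ι (rep n)) c.T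

theorem conj_cls {w : Mdl} (h : w * w = 1) (h1 : w ≠ 1) : IsConj (c.ι (rep (cls w))) (c.ι w) := by
  obtain ⟨g, hg⟩ := (cls_spec h h1).2
  exact c.conj_ι hg

theorem tc_iff {w : Mdl} (h : w * w = 1) (h1 : w ≠ 1) : c.Tc (cls w) ↔ IsConj (c.ι w) c.T :=
  ⟨fun ht => (c.conj_cls h h1).symm.trans ht, fun ht => (c.conj_cls h h1).trans ht⟩

theorem tc_eight : c.Tc 8 := IsConj.refl _

theorem tc_of_img {g : G} {p p' : Mdl} (hi : c.Img g p p') (h : p * p = 1) (h1 : p ≠ 1) :
    c.Tc (cls p) ↔ c.Tc (cls p') := by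
  rw [c.tc_iff h h1, c.tc_iff (hi.sq h) (hi.ne_one h1)]
  exact ⟨hi.conj.symm.trans, hi.conj.trans⟩

/-- **A pair fuses.** -/
theorem pair {x y : Mdl} (hx : x * x = 1) (hx1 : x ≠ 1) (hy : y * y = 1) (hy1 : y ≠ 1) (hyx : y ≠ x)
    (hxy : x * y = y * x) (hT : c.Tc (cls x)) : c.Tc (cls y) ↔ c.Tc (cls (x * y)) := by
  obtain ⟨g, hgx, hgq⟩ := c.exists_move ((c.tc_iff hx hx1).1 hT)
  obtain ⟨p, hp⟩ := hgq y hxy.symm
  have hxy2 : x * y * (x * y) = 1 := by
    rw [show x * y * (x * y) = x * (y * x) * y by group, ← hxy, ← mul_assoc x x, hx, one_mul, hy]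
  have hxy1 : x * y ≠ 1 := fun e => hyx (by rw [← one_mul y, ← hx, mul_assoc, e, mul_one])
  obtain ⟨hc, -, -⟩ := cls_mul_t0 (hp.sq hy) (hp.ne_one hy1) (hp.ne hgx hyx)
  rw [c.tc_of_img hp hy hy1, c.tc_of_img (hgx.mul hp) hxy2 hxy1, hc]

end Typed

end Cfsg.Lib.HSType
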