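import Cfsg.Agent.HSType.CentLocal

/-!
# The normal 2-complement of the local subgroup
-/

set_option autoImplicit false
set_option linter.unusedSectionVars false
set_option linter.style.haveILetI false
set_option maxRecDepth 100000
set_option maxHeartbeats 400000

namespace Cfsg.Lib.HSType

open Subgroup Mdl

universe u

/-- The Sylow subgroup of the local subgroup in the model. -/
def Qm : Subgroup Mdl := centralizer ({gc} : Set Mdl) ⊓ centralizer ({v6} : Set Mdl)

theorem mem_Qm {q : Mdl} : q ∈ Qm ↔ q * gc = gc * q ∧ q * v6 = v6 * q := by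
  rw [Qm, mem_inf, mem_centralizer_singleton_iff, mem_centralizer_singleton_iff]

theorem Qm_card : Nat.card Qm = 128 := by
  classical
  rw [Nat.card_congr (Equiv.subtypeEquivRight fun q : Mdl => mem_Qm (q := q)), Nat.card_eq_fintype_card,
    Fintype.card_subtype]
  exact local_witness.2.2.2.2.2.2.2.2.2.2.2.2.2.2.2.2.2.2.2.2.1

theorem dmul_two : ∀ d e : D8, (d = (0, false) ∨ d = (2, false)) → (e = (0, false) ∨ e = (2, false)) →
    (if dmul d e = (0, false) then (0 : ZMod 2) else 1) =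
      (if d = (0, false) then (0 : ZMod 2) else 1) + (if e = (0, false) then (0 : ZMod 2) else 1) := by decide +kernel

/-- The outer index as a homomorphism. -/
def outerHom : Qm →* Multiplicative (ZMod 2) :=
  MonoidHom.mk' (fun q => outerIx (q : Mdl)) fun p q => by
    obtain ⟨hp, hp'⟩ := mem_Qm.1 p.2
    obtain ⟨hq, hq'⟩ := mem_Qm.1 q.2
    exact congrArg Multiplicative.ofAdd
      (dmul_two _ _ (outerIx_check _ hp hp') (outerIx_check _ hq hq'))

theorem outerHom_inner {q : Qm} (h : (q : Mdl).d = (0, false)) : outerHom q = 1 := by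
  show outerIx (q : Mdl) = 1
  rw [outerIx, if_pos h]; rfl

theorem outerHom_outer {q : Qm} (h : (q : Mdl).d ≠ (0, false)) : outerHom q = Multiplicative.ofAdd (1 : ZMod 2) := by
  show outerIx (q : Mdl) = _
  rw [outerIx, if_neg h]

theorem mult_two_sq : ∀ m : Multiplicative (ZMod 2), m ^ 2 = 1 := by decide

/-- A normal odd subgroup of a normal subgroup lies in the core. -/
theorem core_of_normal {G : Type*} [Group G] [Finite G] {H M1 : Subgroup G} (hle : M1 ≤ H)
    (hn : ∀ g ∈ H, ∀ u ∈ M1, g * u * g⁻¹ ∈ M1) (N : Subgroup M1) [N.Normal] (ho : Odd (Nat.card N)) :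
    N.map M1.subtype ≤ Cfsg.Lib.AltEightType.core H := by
  have h1 : N.map M1.subtype ≤ Cfsg.Lib.AltEightType.core M1 := by
    refine Cfsg.Lib.AltEightType.le_core (map_subtype_le _) ?_ ?_
    · rintro h hh _ ⟨u, hu, rfl⟩
      exact ⟨⟨h, hh⟩ * u * ⟨h, hh⟩⁻¹, Normal.conj_mem inferInstance u hu _, rfl⟩
    · rwa [card_map_of_injective M1.subtype_injective]
  refine h1.trans (Cfsg.Lib.AltEightType.le_core ((Cfsg.Lib.AltEightType.core_le M1).trans hle) ?_
    (Cfsg.Lib.AltEightType.odd_core M1))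
  intro g hg u hu
  refine Cfsg.Lib.AltEightType.le_core
    (U := (Cfsg.Lib.AltEightType.core M1).map (MulAut.conj g).toMonoidHom) ?_ ?_ ?_ ⟨u, hu, rfl⟩
  · rintro _ ⟨w, hw, rfl⟩
    exact hn g hg w (Cfsg.Lib.AltEightType.core_le M1 hw)
  · rintro w hw _ ⟨v, hv, rfl⟩
    have hw' : g⁻¹ * w * g ∈ M1 := by simpa using hn g⁻¹ (inv_mem hg) w hw
    refine ⟨g⁻¹ * w * g * v * (g⁻¹ * w * g)⁻¹, (mem_normalizer_iff.1
      (Cfsg.Lib.AltEightType.core_normalized hw') v).1 hv, ?_⟩
    show g * (g⁻¹ * w * g * v * (g⁻¹ * w * g)⁻¹) * g⁻¹ = w * (g * v * g⁻¹) * w⁻¹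
    group
  · rw [card_map_of_injective (MulEquiv.injective _)]
    exact Cfsg.Lib.AltEightType.odd_core M1

namespace Typed

variable {G : Type u} [Group G] [Finite G] (c : Typed G)

/-- The Sylow subgroup of the local subgroup. -/
def emb : Qm →* ↥c.M0 where
  toFun q := ⟨c.ι q, ι_mem_M0 (mem_Qm.1 q.2).1 (mem_Qm.1 q.2).2⟩
  map_one' := Subtype.ext (map_one c.ι)
  map_mul' _ _ := Subtype.ext (map_mul c.ι _ _)

theorem emb_inj : Function.Injective c.emb := fun p q h =>
  Subtype.ext (c.ι_inj (congrArg (fun y : ↥c.M0 => (y : G)) h))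

theorem card_range_emb : Nat.card c.emb.range = 128 := by
  rw [← Nat.card_congr (MonoidHom.ofInjective c.emb_inj).toEquiv, Qm_card]

/-- The Sylow subgroup of the local subgroup. -/
theorem emb_sylow : ∃ P : Sylow 2 ↥c.M0, (P : Subgroup ↥c.M0) = c.emb.range := by
  haveI : Fact (Nat.Prime 2) := ⟨Nat.prime_two⟩
  obtain ⟨P, hP⟩ := (IsPGroup.of_card (p := 2) (n := 7) c.card_range_emb).exists_le_sylow
  refine ⟨P, (Subgroup.eq_of_le_of_card_ge hP ?_).symm⟩
  rw [c.card_range_emb, ← card_map_of_injective (K := (P : Subgroup ↥c.M0)) c.M0.subtype_injective]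
  exact M0_card (P.2.map _) (map_subtype_le _)

variable {c}

/-- **The transfer onto the outer index.** -/
theorem exists_index_two : ∃ τ : ↥c.M0 →* Multiplicative (ZMod 2),
    τ (c.emb ⟨i2, mem_Qm.2 ⟨local_witness.2.2.2.2.2.2.1, local_witness.2.2.2.2.2.2.2.1⟩⟩) ≠ 1 ∧
      ∀ q : Qm, (q : Mdl).d = (0, false) → τ (c.emb q) = 1 := by
  obtain ⟨-, -, -, -, hd, h2, hc, h6, -⟩ := local_witness
  set φ : ↥c.emb.range →* Multiplicative (ZMod 2) :=
    outerHom.comp (MonoidHom.ofInjective c.emb_inj).symm.toMonoidHom with hφ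
  have hval : ∀ {y : ↥c.M0} (h : y ∈ c.emb.range) (q : Qm), y = c.emb q → φ ⟨y, h⟩ = outerHom q := by
    intro y h q e
    show outerHom ((MonoidHom.ofInjective c.emb_inj).symm ⟨y, h⟩) = _
    congr 1
    rw [MulEquiv.symm_apply_eq]
    exact Subtype.ext e
  refine ⟨MonoidHom.transfer φ, ?_, ?_⟩
  · set g : ↥c.emb.range := ⟨c.emb ⟨i2, mem_Qm.2 ⟨hc, h6⟩⟩, ⟨_, rfl⟩⟩ with hg
    have hφg : φ g = Multiplicative.ofAdd (1 : ZMod 2) := (hval g.2 _ rfl).trans (outerHom_outer hd)
    have hg2 : g ^ 2 = 1 := Subtype.ext (Subtype.ext (by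
      show (c.ι i2) ^ 2 = 1
      rw [pow_two, ← map_mul, h2, map_one]))
    have key := Cfsg.Lib.TwoFusion.transfer_eq_pow_of_image φ g fun k a h => by
      obtain ⟨q, hq⟩ := id h
      rcases Nat.even_or_odd' k with ⟨j, rfl | rfl⟩
      · have e : g ^ (2 * j) = 1 := by rw [pow_mul, hg2, one_pow]
        rw [e, map_one]
        have h1 : a⁻¹ * (g : ↥c.M0) ^ (2 * j) * a = c.emb 1 := by
          rw [← SubgroupClass.coe_pow, e, map_one, OneMemClass.coe_one, mul_one, inv_mul_cancel]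
        rw [hval h 1 h1, map_one]
      · have e : g ^ (2 * j + 1) = g := by rw [pow_succ, pow_mul, hg2, one_pow, one_mul]
        have h1 : a⁻¹ * (g : ↥c.M0) * a = c.emb q := by rw [hq, ← SubgroupClass.coe_pow, e]
        rw [e, hval h q hq.symm, hφg, outerHom_outer]
        refine outer_image_local (c := c) (x := ((a⁻¹ : ↥c.M0) : G)) (a⁻¹).2 ?_
        show c.ι (q : Mdl) = (a⁻¹ : G) * c.ι i2 * (a⁻¹ : G)⁻¹
        rw [inv_inv]
        exact (congrArg Subtype.val h1).symm
    rw [key, hφg]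
    have hodd : ¬ 2 ∣ c.emb.range.index := by
      obtain ⟨P, hP⟩ := c.emb_sylow
      haveI : Fact (Nat.Prime 2) := ⟨Nat.prime_two⟩
      rw [← hP]
      exact P.not_dvd_index
    intro e
    refine hodd ((show orderOf (Multiplicative.ofAdd (1 : ZMod 2)) = 2 from ?_) ▸ orderOf_dvd_of_pow_eq_one e)
    refine orderOf_eq_prime (p := 2) (hp := ⟨Nat.prime_two⟩) (by decide) (by decide)
  · have good : ∀ q : Qm, (q : Mdl).d = (0, false) → Va ((q : Mdl) * q) = true →
        MonoidHom.transfer φ (c.emb q) = 1 := fun a ha hv => by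
      set g : ↥c.emb.range := ⟨c.emb a, ⟨_, rfl⟩⟩ with hg
      have hφg : φ g = 1 := (hval g.2 a rfl).trans (outerHom_inner ha)
      have key := Cfsg.Lib.TwoFusion.transfer_eq_pow_of_image φ g fun k x h => by
        obtain ⟨q, hq⟩ := id h
        rw [hval h q hq.symm, map_pow, hφg, one_pow, outerHom_inner]
        obtain ⟨hqc, hq6⟩ := mem_Qm.1 q.2
        refine inner_image (c := c) (x := ((x⁻¹ : ↥c.M0) : G)) (x⁻¹).2 ha hv k hqc hq6 ?_
        show c.ι (q : Mdl) = (x⁻¹ : G) * c.ι ((a : Mdl) ^ k) * (x⁻¹ : G)⁻¹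
        rw [inv_inv, map_pow]
        exact congrArg Subtype.val hq
      rw [key, hφg, one_pow]
    intro q hq
    obtain ⟨hVa, -, -, hgen⟩ := Va_facts
    have hga : (⟨(0, 1, 0), (0, false)⟩ : Mdl) = ga := rfl
    obtain ⟨hga1, hga2, -⟩ := v7_check.2.2.1 ga rfl
    rcases hgen q hq with h | h
    · exact good q hq h
    · set b : Qm := ⟨ga, mem_Qm.2 ⟨hga1, hga2⟩⟩ with hb
      have hb1 := good b rfl (show Va (ga * ga) = true by rw [local_witness.2.2.2.2.2.2.2.2.2.2.2.2.2.2.2.2.1]; exact hVa)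
      have hbq : ((b * q : Qm) : Mdl).d = (0, false) := by
        show dmul ga.d (q : Mdl).d = (0, false)
        rw [hq]; rfl
      have h2 := good (b * q) hbq h
      rwa [map_mul, map_mul, hb1, one_mul] at h2

/-- **The local subgroup has a normal 2-complement.** -/
theorem M0_complement :
    ∀ x ∈ c.M0, x ^ 128 ∈ Cfsg.Lib.AltEightType.core c.M0 := by
  haveI : Fact (Nat.Prime 2) := ⟨Nat.prime_two⟩
  obtain ⟨τ, hτ2, hτA⟩ := exists_index_two (c := c)
  obtain ⟨P0, hP0⟩ := c.emb_sylow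
  set M1 : Subgroup G := τ.ker.map c.M0.subtype with hM1
  have hM1le : M1 ≤ c.M0 := map_subtype_le _
  set A : Subgroup G := AM.map c.ι with hA
  have hAM1 : A ≤ M1 := by
    rintro _ ⟨q, hq, rfl⟩
    obtain ⟨e, e6, -⟩ := v7_check.2.2.1 q hq
    exact ⟨c.emb ⟨q, mem_Qm.2 ⟨e, e6⟩⟩, hτA _ hq, rfl⟩
  have hbound : ∀ X : Subgroup G, IsPGroup 2 X → X ≤ M1 → Nat.card X ≤ 64 := by
    intro X hX hXM
    by_contra hlt
    rw [not_le] at hlt
    have h128 : Nat.card X = 128 := by
      refine le_antisymm (M0_card hX (hXM.trans hM1le)) ?_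
      obtain ⟨j, hj⟩ := IsPGroup.iff_card.1 hX
      rw [hj] at hlt ⊢
      by_contra h
      rw [show (128 : ℕ) = 2 ^ 7 from rfl, not_le, Nat.pow_lt_pow_iff_right (by norm_num)] at h
      have := Nat.pow_le_pow_right (show 0 < 2 by norm_num) (show j ≤ 6 by omega)
      norm_num at this
      omega
    obtain ⟨T, hT⟩ := (hX.of_equiv (subgroupOfEquivOfLe (hXM.trans hM1le)).symm).exists_le_sylow
    have hTX : X.subgroupOf c.M0 = T := by
      refine Subgroup.eq_of_le_of_card_ge hT ?_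
      rw [Nat.card_congr (subgroupOfEquivOfLe (hXM.trans hM1le)).toEquiv, h128,
        ← Nat.card_congr (Sylow.equiv P0 T).toEquiv, hP0, c.card_range_emb]
    obtain ⟨m, hm⟩ := MulAction.exists_smul_eq ↥c.M0 P0 T
    have hmem : m * c.emb ⟨i2, mem_Qm.2 ⟨local_witness.2.2.2.2.2.2.1, local_witness.2.2.2.2.2.2.2.1⟩⟩ * m⁻¹ ∈
        X.subgroupOf c.M0 := by
      rw [hTX, ← hm, Sylow.coe_subgroup_smul, hP0]
      exact ⟨_, ⟨_, rfl⟩, rfl⟩
    obtain ⟨y, hy, e⟩ := hXM hmem
    rw [show y = m * c.emb _ * m⁻¹ from Subtype.ext e, SetLike.mem_coe, MonoidHom.mem_ker, map_mul, map_mul,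
      map_inv, mul_inv_eq_one] at hy
    exact hτ2 (mul_eq_left.1 hy)
  have hAcard : Nat.card A = 64 := by rw [hA, card_map_of_injective c.ι_inj, card_AM]
  have hAp : IsPGroup 2 A := IsPGroup.of_card (n := 6) hAcard
  obtain ⟨P, hP⟩ := (hAp.of_equiv (subgroupOfEquivOfLe hAM1).symm).exists_le_sylow
  have hPA : (P : Subgroup M1) = A.subgroupOf M1 := by
    refine (Subgroup.eq_of_le_of_card_ge hP ?_).symm
    rw [Nat.card_congr (subgroupOfEquivOfLe hAM1).toEquiv, hAcard,
      ← card_map_of_injective (K := (P : Subgroup M1)) M1.subtype_injective]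
    exact hbound _ (P.2.map _) (map_subtype_le _)
  have hnc : normalizer ((P : Subgroup M1) : Set M1) ≤ centralizer ((P : Subgroup M1) : Set M1) := by
    intro g hg
    rw [mem_centralizer_iff]
    intro a ha
    rw [SetLike.mem_coe, hPA, mem_subgroupOf] at ha
    refine Subtype.ext (?_ : (a : G) * (g : G) = (g : G) * (a : G))
    have hmaps : ∀ {w : M1}, w ∈ normalizer ((P : Subgroup M1) : Set M1) → ∀ q ∈ AM,
        ∃ q', q' ∈ AM ∧ c.Img (w : G) q q' := fun {w} hw q hq => by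
      have h := (mem_normalizer_iff.1 hw ⟨c.ι q, hAM1 ⟨q, hq, rfl⟩⟩).1 (by
        rw [hPA, mem_subgroupOf]; exact ⟨q, hq, rfl⟩)
      rw [hPA, mem_subgroupOf] at h
      obtain ⟨q', hq', e⟩ := h
      exact ⟨q', hq', e⟩
    have hoddfix : ∀ w : M1, w ∈ normalizer ((P : Subgroup M1) : Set M1) → ∀ n : ℕ, w ^ n = 1 → Odd n →
        ∀ q ∈ AM, (w : G) * c.ι q * (w : G)⁻¹ = c.ι q := by
      intro w hw n hn ho
      have hn' : (w : G) ^ n = 1 := by rw [← SubgroupClass.coe_pow, hn]; rfl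
      obtain ⟨hwt, hw6, -⟩ := M0_img (hM1le w.2)
      have hwz : ∀ {z : Mdl}, (z = 1 ∨ z = t0 ∨ z = v6 ∨ z = t0 * v6) → c.Img (w : G) z z := fun {z} hz => by
        rcases hz with rfl | rfl | rfl | rfl
        exacts [Img.one, hwt, hw6, hwt.mul hw6]
      have hcomm : ∀ {z : Mdl}, c.Img (w : G) z z → Commute (w : G) (c.ι z) := fun {z} h =>
        mul_inv_eq_iff_eq_mul.1 h.symm
      have h7 : (w : G) * c.ι v7 * (w : G)⁻¹ = c.ι v7 := by
        obtain ⟨q, hqA, hq⟩ := hmaps hw v7 (show v7.d = (0, false) by decide +kernel)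
        obtain ⟨z, hz, hqz⟩ := Va_facts.2.2.1 q
          ((InV_iff q).2 ⟨hqA, hq.sq (by decide +kernel)⟩)
        have hzz : z * z = 1 := by
          rcases hz with rfl | rfl | rfl | rfl <;> decide +kernel
        rcases hqz with hqz | hqz <;> rw [hqz] at hq
        · exfalso
          have e : c.ι v7 = c.ι z := mul_left_cancel (mul_right_cancel
            ((show (w : G) * c.ι v7 * (w : G)⁻¹ = c.ι z from hq.symm).trans (hwz hz)))
          rcases hz with rfl | rfl | rfl | rfl <;> exact absurd (c.ι_inj e) (by decide +kernel)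
        · refine fix_of_odd hn' ho (w := c.ι z) ?_ (hcomm (hwz hz)) (by rw [← map_mul, hzz, map_one])
          rw [← map_mul]
          exact hq.symm
      have hV : ∀ {a : Mdl}, InV a = true → c.Img (w : G) a a := fun {a} ha => by
        obtain ⟨z, hz, rfl | rfl⟩ := Va_facts.2.2.1 a ha
        · exact hwz hz
        · exact (show c.Img (w : G) v7 v7 from h7.symm).mul (hwz hz)
      intro q hq
      obtain ⟨q', hq'A, hq'⟩ := hmaps hw q hq
      set e := q⁻¹ * q' with he
      have heA : e ∈ AM := mul_mem (inv_mem hq) hq'A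
      have hqq : InV (q * q) = true := by
        refine (InV_iff _).2 ⟨mul_mem hq hq, ?_⟩
        obtain ⟨v, d⟩ := q
        obtain rfl : d = (0, false) := hq
        exact AM_facts.2 v
      have hsq : q' * q' = q * q := Img.unique (hq'.mul hq') (hV hqq)
      have he2 : e * e = 1 := by
        calc e * e = q⁻¹ * (q' * q⁻¹) * q' := by rw [he]; group
          _ = q⁻¹ * (q⁻¹ * q') * q' := by rw [AM_comm hq'A (inv_mem hq)]
          _ = q⁻¹ * q⁻¹ * (q' * q') := by group
          _ = 1 := by rw [hsq]; group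
      refine fix_of_odd hn' ho (w := c.ι e) ?_ (hcomm (hV ((InV_iff e).2 ⟨heA, he2⟩)))
        (by rw [← map_mul, he2, map_one])
      rw [← map_mul, he, mul_inv_cancel_left]
      exact hq'.symm
    obtain ⟨q, hqA, eq⟩ := ha
    obtain ⟨i, n, hn, he⟩ := Nat.exists_eq_two_pow_mul_odd (orderOf_pos g).ne'
    have hodd := hoddfix _ (pow_mem hg (2 ^ i)) n (by rw [← pow_mul, ← he, pow_orderOf_eq_one]) hn q hqA
    have h2 : ((g ^ n : M1) : G) * c.ι q * ((g ^ n : M1) : G)⁻¹ = c.ι q := by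
      have hgn : g ^ n ∈ (P : Subgroup M1) := by
        have hsup := P.2.to_sup_of_normal_left' (K := zpowers (g ^ n))
          (fun ⟨y, hy⟩ => by
            obtain ⟨z, rfl⟩ := mem_zpowers_iff.1 hy
            refine ⟨i, Subtype.ext ?_⟩
            show ((g ^ n) ^ z) ^ 2 ^ i = 1
            rw [← zpow_natCast, ← zpow_mul, mul_comm z, zpow_mul, zpow_natCast, ← pow_mul, mul_comm n, ← he,
              pow_orderOf_eq_one, one_zpow])
          (zpowers_le.2 (pow_mem hg n))
        have := P.3 hsup le_sup_left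
        exact this.le (mem_sup_right (mem_zpowers _))
      rw [hPA, mem_subgroupOf] at hgn
      obtain ⟨r, hr, er⟩ := hgn
      rw [show ((g ^ n : M1) : G) = c.ι r from er.symm, ← map_mul, AM_comm hr hqA, map_mul, mul_inv_cancel_right]
    have c1 : Commute ((g : G) ^ 2 ^ i) (c.ι q) := by
      have := mul_inv_eq_iff_eq_mul.1 hodd
      rwa [SubgroupClass.coe_pow] at this
    have c2 : Commute ((g : G) ^ n) (c.ι q) := by
      have := mul_inv_eq_iff_eq_mul.1 h2
      rwa [SubgroupClass.coe_pow] at this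
    rw [← eq]
    have hg1 : Commute (g : G) (c.ι q) := by
      obtain ⟨u, v, huv⟩ : ∃ u v : ℤ, u * (2 ^ i : ℕ) + v * n = 1 :=
        Int.isCoprime_iff_gcd_eq_one.mpr (by
          rw [Int.gcd_natCast_natCast]
          exact ((Nat.coprime_two_left.2 hn).pow_left i).gcd_eq_one)
      have := ((c1.zpow_left u).mul_left (c2.zpow_left v))
      rwa [← zpow_natCast, ← zpow_natCast, ← zpow_mul, ← zpow_mul, ← zpow_add, mul_comm _ u, mul_comm _ v,
        huv, zpow_one] at this
    exact hg1.eq.symm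
  -- Burnside
  have hcomp := MonoidHom.ker_transferSylow_isComplement' P hnc
  set N := (MonoidHom.transferSylow P hnc).ker with hN
  have hNodd : Odd (Nat.card N) := by
    rw [← hcomp.index_eq_card]
    exact Nat.odd_iff.2 (Nat.two_dvd_ne_zero.1 P.not_dvd_index)
  haveI hNn : N.Normal := MonoidHom.normal_ker _
  have hcoreM1 : N.map M1.subtype ≤ Cfsg.Lib.AltEightType.core c.M0 :=
    core_of_normal hM1le (fun g hg u hu => by
      obtain ⟨y, hy, e⟩ := hu
      exact ⟨⟨g, hg⟩ * y * ⟨g, hg⟩⁻¹, (MonoidHom.normal_ker τ).conj_mem y hy _, by rw [← e]; rfl⟩) N hNodd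
  intro x hx
  have hx2 : (⟨x, hx⟩ : ↥c.M0) ^ 2 ∈ τ.ker := by
    rw [MonoidHom.mem_ker, map_pow]
    generalize τ ⟨x, hx⟩ = m
    exact mult_two_sq m
  have hxM1 : x ^ 2 ∈ M1 := ⟨_, hx2, rfl⟩
  have h := pow_index_mem N (⟨x ^ 2, hxM1⟩ : M1)
  rw [hcomp.symm.index_eq_card, hPA, Nat.card_congr (subgroupOfEquivOfLe hAM1).toEquiv, hAcard] at h
  have := hcoreM1 ⟨_, h, rfl⟩
  rwa [show (M1.subtype ((⟨x ^ 2, hxM1⟩ : M1) ^ 64)) = x ^ 128 by
    rw [map_pow]; show (x ^ 2) ^ 64 = _; rw [← pow_mul]] at this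

end Typed

end Cfsg.Lib.HSType
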