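import Cfsg.Agent.HSType.Homocyclic

/-!
# Facts of the model used inside the centraliser of the central involution
-/

set_option autoImplicit false
set_option maxRecDepth 100000

namespace Cfsg.Lib.HSType

open Mdl

/-- The large subgroup of the centraliser of the central involution. -/
def InR (q : Mdl) : Bool :=
  decide (q.v.2.1 + q.v.2.1 = 0 ∧ q.v.2.2 + q.v.2.2 = 0 ∧ q.d.2 = decide (q.d.1 = 1 ∨ q.d.1 = 3))

theorem InR_cls : ∀ q : Mdl, q * q = 1 → q ≠ 1 →
    (InR q = true ↔ cls q = 1 ∨ cls q = 2 ∨ cls q = 6 ∨ cls q = 7 ∨ cls q = 8) := by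
  intro q h h1
  have hw : (invN.all fun a => InR (dec a) == inN (clsN a) [1, 2, 6, 7, 8]) = true := by decide +kernel
  have h' := List.all_eq_true.1 hw _ (mem_invN h h1)
  rw [dec_code, beq_iff_eq, Bool.eq_iff_iff, inN_iff] at h'
  rw [h']
  simp [cls]

theorem center_facts : ∀ q : Mdl, q * gc = gc * q → q * ga = ga * q → q * gw = gw * q → q * gs = gs * q →
    q = 1 ∨ q = t0 := by decide +kernel

theorem vector_check : ((List.range 512).all fun q =>
    inN (mulN q q) [0, code t0] || !Nat.beq (mulN (mulN q q) (mulN q q)) 0 || invN.all fun u =>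
      !Nat.beq (mulN u q) (mulN q u) || inN u [code t0, mulN q q, mulN (code t0) (mulN q q)] ||
        Nat.blt (mulN q q) 64) = true := by decide +kernel

/-- A square commuting with a further involution is a vector. -/
theorem vector_facts {q u : Mdl} (h4 : q * q * (q * q) = 1) (h1 : q * q ≠ 1) (ht : q * q ≠ t0) (hu : u * u = 1)
    (hu1 : u ≠ 1) (hc : u * q = q * u) (hut : u ≠ t0) (huq : u ≠ q * q) (huq' : u ≠ t0 * (q * q)) :
    InV (q * q) = true := by
  have h := of_all vector_check q
  simp only [← code_mul, Bool.or_eq_true, inN_iff, List.mem_cons, List.not_mem_nil, or_false, Bool.not_eq_true',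
    ← Bool.not_eq_true, Nat.beq_eq] at h
  simp only [← code_one, code_inj] at h
  rcases h with ((h | h) | h) | h
  · exact absurd h h1
  · exact absurd h ht
  · exact absurd h4 h
  · have h' := List.all_eq_true.1 h _ (mem_invN hu hu1)
    simp only [← code_mul, Bool.or_eq_true, inN_iff, List.mem_cons, List.not_mem_nil, or_false, Bool.not_eq_true',
      ← Bool.not_eq_true, Nat.beq_eq, code_inj] at h'
    rcases h' with (h' | h' | h' | h') | h'
    · exact absurd hc h'
    · exact absurd h' hut
    · exact absurd h' huq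
    · exact absurd h' huq'
    · exact (InV_iff _).2 ⟨(AM_code _).2 (Nat.le_of_ble_eq_true h'), h4⟩

theorem seven_check : ((List.range 512).all fun q =>
    !inN (mulN q q) ((List.range 64).filter fun v => inN v invN && Nat.beq (clsN v) 7) || invN.all fun p =>
      !Nat.beq (mulN p q) (mulN (mulN q p) (code t0))) = true := by decide +kernel

/-- A square in the second class of vectors is not moved to the central coset. -/
theorem seven_facts {q p : Mdl} (h4 : q * q * (q * q) = 1) (hc7 : cls (q * q) = 7) (h1 : q * q ≠ 1)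
    (hp : p * p = 1) (hp1 : p ≠ 1) : p * q ≠ q * p * t0 := by
  have h := of_all seven_check q
  rw [Bool.or_eq_true, Bool.not_eq_true', ← Bool.not_eq_true, inN_iff, List.mem_filter, List.mem_range,
    Bool.and_eq_true, inN_iff, Nat.beq_eq, ← code_mul] at h
  have hV : InV (q * q) = true := cls_V h4 h1 (Or.inr (Or.inl hc7))
  rcases h with h | h
  · exact absurd ⟨(AM_code _).1 ((InV_iff _).1 hV).1, mem_invN h4 h1, hc7⟩ h
  · intro e
    have h' := List.all_eq_true.1 h _ (mem_invN hp hp1)
    simp only [← code_mul, e, Bool.not_eq_true', ← Bool.not_eq_true, Nat.beq_eq, not_true_eq_false] at h'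

theorem six_check : (invN.all fun p => !Nat.beq (mulN p (code v6)) (mulN (code v6) p) ||
    (List.range 512).all fun q => !Nat.beq (mulN q q) (code t0) || !Nat.beq (mulN q p) (mulN p q) ||
      !Nat.beq (mulN q (code v6)) (mulN (code v6) q) || inN (clsN p) [2, 4, 6, 7, 8]) = true := by decide +kernel

/-- An involution of the centraliser of the first vector commuting with a root of the centre is not outer. -/
theorem six_facts {p q : Mdl} (hp : p * p = 1) (hp1 : p ≠ 1) (hpv : p * v6 = v6 * p) (hq : q * q = t0)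
    (hqp : q * p = p * q) (hqv : q * v6 = v6 * q) :
    cls p = 2 ∨ cls p = 4 ∨ cls p = 6 ∨ cls p = 7 ∨ cls p = 8 := by
  have h := List.all_eq_true.1 six_check _ (mem_invN hp hp1)
  simp only [← code_mul, Bool.or_eq_true, Bool.not_eq_true', ← Bool.not_eq_true, Nat.beq_eq, code_inj] at h
  have h' := List.all_eq_true.1 (h.resolve_left (not_not.2 hpv)) _ (List.mem_range.2 (code_lt q))
  simp only [← code_mul, Bool.or_eq_true, Bool.not_eq_true', ← Bool.not_eq_true, Nat.beq_eq, code_inj, inN_iff,
    List.mem_cons, List.not_mem_nil, or_false] at h'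
  rcases h' with ((h' | h') | h') | h'
  · exact absurd hq h'
  · exact absurd hqp h'
  · exact absurd hqv h'
  · exact h'

/-- The codes of the elements of the centraliser of the first vector. -/
def sixN : List ℕ := (List.range 512).filter fun q => Nat.beq (mulN q (code v6)) (mulN (code v6) q)

theorem outer_check : (sixN.all fun q => inN (mulN q q) [0, code t0, code v6, mulN (code t0) (code v6)] ||
    sixN.all fun u => !inN u invN || !Nat.beq (mulN (mulN (mulN u q) u) q) 0) = true := by decide +kernel

/-- An inverted element of the centraliser of the first vector has a central square. -/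
theorem outer_facts {q u : Mdl} (hqv : q * v6 = v6 * q) (huv : u * v6 = v6 * u) (hu : u * u = 1) (hu1 : u ≠ 1)
    (h : u * q * u * q = 1) : q * q = 1 ∨ q * q = t0 ∨ q * q = v6 ∨ q * q = t0 * v6 := by
  have hm : ∀ {w : Mdl}, w * v6 = v6 * w → code w ∈ sixN := fun {w} hw => by
    rw [sixN, List.mem_filter, List.mem_range, ← code_mul, ← code_mul, Nat.beq_eq, code_inj]
    exact ⟨code_lt w, hw⟩
  have h' := List.all_eq_true.1 outer_check _ (hm hqv)
  simp only [← code_mul, Bool.or_eq_true, inN_iff, List.mem_cons, List.not_mem_nil, or_false, code_inj] at h'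
  rcases h' with (h' | h') | h'
  · exact Or.inl (code_inj.1 (h'.trans code_one.symm))
  · exact Or.inr h'
  · have h'' := List.all_eq_true.1 h' _ (hm huv)
    simp only [← code_mul, h, code_one, Bool.or_eq_true, Bool.not_eq_true', ← Bool.not_eq_true, inN_iff,
      Nat.beq_eq, not_true_eq_false, or_false] at h''
    exact absurd (mem_invN hu hu1) h''

theorem cent_witness :
    gc * i2 = i2 * gc ∧ gc * gc = t0 ∧ gc * v6 = v6 * gc ∧ gc * i1 = i1 * gc ∧ gc * j1 = j1 * gc ∧
    gc * v7 = v7 * gc ∧ v7 * i1 = i1 * v7 ∧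
    (let w : Mdl := ⟨0, (1, false)⟩; w * i2 = i2 * w ∧ w * w = i2 ∧ v6 * w = w * v6 * t0) ∧
    (let a : Mdl := ⟨(0, 1, 1), (0, false)⟩
     a * i0 = i0 * a ∧ i2 * i0 = i0 * i2 ∧ a * a = v6 ∧ i2 * a * i2 * a = 1) := by decide +kernel

theorem seven_mul : ∀ p : Mdl, InV p = true → p ≠ 1 → cls p = 7 →
    InV (v6 * p) = true ∧ v6 * p ≠ 1 ∧ cls (v6 * p) = 7 := by decide +kernel

end Cfsg.Lib.HSType
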