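import Cfsg.Agent.HSType.Classes

/-!
# The automorphism of the model exchanging two classes of outer involutions
-/

set_option autoImplicit false
set_option maxRecDepth 100000

namespace Cfsg.Lib.HSType

open Mdl

/-- The cocycle. -/
def shiftV (d : D8) : E4 := (bif xor (decide (d.1 = 1 ∨ d.1 = 3)) d.2 then 1 else 0, 0, 0)

theorem shiftV_cocycle : ∀ d e : D8, shiftV (dmul d e) = shiftV d + act d (shiftV e) := by decide +kernel

/-- The translation by the cocycle. -/
def swap (q : Mdl) : Mdl := ⟨q.v + shiftV q.d, q.d⟩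

theorem swap_hom (p q : Mdl) : swap (p * q) = swap p * swap q := by
  simp only [swap, mul_def, shiftV_cocycle, act_add]
  congr 1
  abel

/-- The automorphism. -/
noncomputable def swapEquiv : Mdl ≃* Mdl :=
  MulEquiv.ofBijective (MonoidHom.mk' swap swap_hom) <| (Finite.injective_iff_bijective).1 fun p q h => by
    have h : swap p = swap q := h
    simp only [swap, Mdl.mk.injEq] at h
    obtain ⟨hv, hd⟩ := h
    rw [hd] at hv
    obtain ⟨v, d⟩ := p
    obtain ⟨v', d'⟩ := q
    obtain rfl : d = d' := hd
    obtain rfl : v = v' := add_right_cancel hv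
    rfl

/-- The images of the representatives. -/
theorem swap_vals : ∀ n : Fin 9, swap (rep n) * swap (rep n) = 1 ∧ swap (rep n) ≠ 1 ∧
    cls (swap (rep n)) = [3, 1, 2, 0, 4, 5, 6, 7, 8].getD n 0 ∧ swap t0 = t0 := by decide +kernel

end Cfsg.Lib.HSType
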