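import Cfsg.Agent.HSType.Basic
import Cfsg.Agent.HSType.Swap
import Cfsg.Agent.Goldschmidt.Final
import Cfsg.Agent.InvolCalc.StronglyEmbedded

/-!
# Involution fusion in a simple group with Sylow 2-subgroups of the type of the Higman-Sims group

Glauberman's and Goldschmidt's theorems leave a single pattern, up to an automorphism of the model.
-/

set_option autoImplicit false
set_option linter.unusedSectionVars false
set_option linter.style.haveILetI false
set_option maxRecDepth 100000
set_option maxHeartbeats 400000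

namespace Cfsg.Lib.HSType

open Subgroup Mdl

universe u

/-- The set inside the first two classes of vectors. -/
def In6 (q : Mdl) : Bool := InV q && decide (q.v.2 = (0, 0) ∨ q.v.2 = (2, 2))

theorem closed_sets : ∀ p q : Mdl, InV p = true → InV q = true →
    InV (p * q) = true ∧ p * q = q * p ∧ (In6 p = true → In6 q = true → In6 (p * q) = true) := by
  intro p q hp hq
  obtain ⟨v, d⟩ := p
  obtain ⟨w, d'⟩ := q
  obtain ⟨rfl, -⟩ : d = (0, false) ∧ _ := (InV_iff _).1 hp
  obtain ⟨rfl, -⟩ : d' = (0, false) ∧ _ := (InV_iff _).1 hq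
  revert v w
  decide +kernel

theorem in6_iff : ∀ q : Mdl, In6 q = true ↔ InV q = true ∧ (q = 1 ∨ cls q = 6 ∨ cls q = 8) := by decide +kernel

theorem not_comm_model : ∃ g k : Mdl, g * k ≠ k * g := ⟨i0, i1, by decide +kernel⟩

namespace Typed

variable {G : Type u} [Group G] [Finite G] (c : Typed G)

include c in
theorem not_comm : ¬ IsMulCommutative G := fun h => by
  obtain ⟨g, k, hgk⟩ := not_comm_model
  exact hgk (c.ι_inj (by rw [map_mul, map_mul]; exact h.is_comm.comm _ _))

/-- The rigid class is not fused to the centre. -/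
theorem not_four : ¬ c.Tc 4 := fun h => by
  obtain ⟨hq, hu, hinv, hu2, hq4, hne⟩ := rigid_witness
  obtain ⟨g, hgx, hgq⟩ := c.exists_move h
  obtain ⟨q', hq'⟩ := hgq _ hq
  obtain ⟨u', hu'⟩ := hgq _ hu
  have h1 := (hu'.mul hq').mul hu'
  rw [hinv] at h1
  have hi : u' * q' * u' = q'⁻¹ := Img.unique h1 hq'.inv
  have h4 := (hq'.mul hq').mul (hq'.mul hq')
  rw [hq4] at h4
  have he := eight_facts (hu'.sq hu2) (hu'.ne_one (by decide +kernel)) hi (h4.ne_one t0_facts.2)
  exact Img.ne hgx (he ▸ h4) hne rfl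

theorem not_five : ¬ c.Tc 5 := fun h => by
  obtain ⟨hy, hy2, hc, hxy⟩ := pair_facts.2.2.2.2.2.2.2.2.2.2.2.2.2.2.2.2.1
  have := c.pair (x := i5) (y := y54) (by decide +kernel) (by decide +kernel) hy2 (by decide +kernel)
    (by decide +kernel) hc (show c.Tc (cls i5) from (show cls i5 = 5 by decide +kernel).symm ▸ h)
  rw [hy, hxy] at this
  exact c.not_four (this.1 h)

/-- The rule of a pair on classes. -/
theorem pair_cls {x y : Mdl} {a b e : ℕ} (hx : x * x = 1) (hx1 : x ≠ 1) (hy : y * y = 1) (hy1 : y ≠ 1)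
    (hyx : y ≠ x) (hxy : x * y = y * x) (ha : cls x = a) (hb : cls y = b) (he : cls (x * y) = e) (hT : c.Tc a) :
    c.Tc b ↔ c.Tc e := by
  subst ha hb he
  exact c.pair hx hx1 hy hy1 hyx hxy hT

theorem six_of {n : ℕ} (hn : n = 0 ∨ n = 1 ∨ n = 2 ∨ n = 3 ∨ n = 7) (h : c.Tc n) : c.Tc 6 := by
  have h7 : c.Tc 7 → c.Tc 6 := fun h =>
    (c.pair_cls (x := v7) (y := v6) (a := 7) (b := 6) (e := 7) (by decide +kernel) (by decide +kernel)
      (by decide +kernel) (by decide +kernel) (by decide +kernel) (by decide +kernel) (by decide +kernel)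
      (by decide +kernel) (by decide +kernel) h).2 h
  rcases hn with rfl | rfl | rfl | rfl | rfl
  · exact (c.pair_cls (x := i0) (y := v6) (a := 0) (b := 6) (e := 0) (by decide +kernel) (by decide +kernel)
      (by decide +kernel) (by decide +kernel) (by decide +kernel) (by decide +kernel) (by decide +kernel)
      (by decide +kernel) (by decide +kernel) h).2 h
  · exact h7 ((c.pair_cls (x := i1) (y := v7) (a := 1) (b := 7) (e := 1) (by decide +kernel) (by decide +kernel)
      (by decide +kernel) (by decide +kernel) (by decide +kernel) (by decide +kernel) (by decide +kernel)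
      (by decide +kernel) (by decide +kernel) h).2 h)
  · exact (c.pair_cls (x := i2) (y := v6) (a := 2) (b := 6) (e := 2) (by decide +kernel) (by decide +kernel)
      (by decide +kernel) (by decide +kernel) (by decide +kernel) (by decide +kernel) (by decide +kernel)
      (by decide +kernel) (by decide +kernel) h).2 h
  · exact (c.pair_cls (x := i3) (y := v6) (a := 3) (b := 6) (e := 3) (by decide +kernel) (by decide +kernel)
      (by decide +kernel) (by decide +kernel) (by decide +kernel) (by decide +kernel) (by decide +kernel)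
      (by decide +kernel) (by decide +kernel) h).2 h
  · exact h7 h

theorem two_of {n : ℕ} (hn : n = 0 ∨ n = 1 ∨ n = 3) (h : c.Tc n) : c.Tc 2 := by
  rcases hn with rfl | rfl | rfl
  · exact (c.pair_cls (x := i0) (y := i2) (a := 0) (b := 2) (e := 0) (by decide +kernel) (by decide +kernel)
      (by decide +kernel) (by decide +kernel) (by decide +kernel) (by decide +kernel) (by decide +kernel)
      (by decide +kernel) (by decide +kernel) h).2 h
  · exact (c.pair_cls (x := i1) (y := y12) (a := 1) (b := 1) (e := 2) (by decide +kernel) (by decide +kernel)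
      (by decide +kernel) (by decide +kernel) (by decide +kernel) (by decide +kernel) (by decide +kernel)
      (by decide +kernel) (by decide +kernel) h).1 h
  · exact (c.pair_cls (x := i3) (y := y32) (a := 3) (b := 3) (e := 2) (by decide +kernel) (by decide +kernel)
      (by decide +kernel) (by decide +kernel) (by decide +kernel) (by decide +kernel) (by decide +kernel)
      (by decide +kernel) (by decide +kernel) h).1 h

theorem not_zero_three : ¬ (c.Tc 0 ∧ c.Tc 3) := fun ⟨h0, h3⟩ =>
  c.not_four ((c.pair_cls (x := i0) (y := y34) (a := 0) (b := 3) (e := 4) (by decide +kernel) (by decide +kernel)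
    (by decide +kernel) (by decide +kernel) (by decide +kernel) (by decide +kernel) (by decide +kernel)
    (by decide +kernel) (by decide +kernel) h0).1 h3)

/-- An involution of the model outside the centre and fused to it lies in a class different from two. -/
theorem cases {w : Mdl} (h : w * w = 1) (h1 : w ≠ 1) (hT : c.Tc (cls w)) :
    cls w = 0 ∨ cls w = 1 ∨ cls w = 2 ∨ cls w = 3 ∨ cls w = 6 ∨ cls w = 7 ∨ cls w = 8 := by
  have h9 := (cls_spec h h1).1
  interval_cases hc : cls w
  · exact Or.inl rfl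
  · exact Or.inr (Or.inl rfl)
  · exact Or.inr (Or.inr (Or.inl rfl))
  · exact Or.inr (Or.inr (Or.inr (Or.inl rfl)))
  · exact absurd hT c.not_four
  · exact absurd hT c.not_five
  · exact Or.inr (Or.inr (Or.inr (Or.inr (Or.inl rfl))))
  · exact Or.inr (Or.inr (Or.inr (Or.inr (Or.inr (Or.inl rfl)))))
  · exact Or.inr (Or.inr (Or.inr (Or.inr (Or.inr (Or.inr rfl)))))

theorem six [IsSimpleGroup G] : c.Tc 6 := by
  by_contra hno
  have hiso : ∀ g : G, g * c.T * g⁻¹ ∈ (c.S : Subgroup G) → g * c.T * g⁻¹ = c.T := by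
    intro g hg
    obtain ⟨q, hq⟩ := c.exists_ι hg
    have ho : orderOf (c.ι q) = 2 := by rw [hq, ← MulAut.conj_apply, MulEquiv.orderOf_eq]; exact c.orderOf_T
    obtain ⟨h, h1⟩ := c.inv_pre ho
    have hT : c.Tc (cls q) := (c.tc_iff h h1).2 (isConj_iff.2 ⟨g⁻¹, by rw [hq]; group⟩)
    rcases c.cases h h1 hT with e | e | e | e | e | e | e
    · exact absurd (c.six_of (Or.inl e) hT) hno
    · exact absurd (c.six_of (Or.inr (Or.inl e)) hT) hno
    · exact absurd (c.six_of (Or.inr (Or.inr (Or.inl e))) hT) hno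
    · exact absurd (c.six_of (Or.inr (Or.inr (Or.inr (Or.inl e)))) hT) hno
    · exact absurd (e ▸ hT) hno
    · exact absurd (c.six_of (Or.inr (Or.inr (Or.inr (Or.inr e)))) hT) hno
    · rw [← hq, (cls_t0 h h1).1 e]
  have hto := c.orderOf_T
  have hzi : Cfsg.IsIsolatedInvolution c.T :=
    ⟨hto, fun g => Cfsg.Lib.InvolCalc.isolated_of_unique c.S hto hiso⟩
  have hbot : Cfsg.pPrimeCore 2 G = ⊥ := by
    rcases IsSimpleGroup.eq_bot_or_eq_top_of_normal (Cfsg.pPrimeCore 2 G) inferInstance with h | h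
    · exact h
    · exfalso
      have hodd := Cfsg.Lib.ZStarApps.odd_card_pPrimeCore (G := G)
      rw [h, Subgroup.card_top] at hodd
      exact Nat.not_even_iff_odd.2 hodd (even_iff_two_dvd.2 (hto ▸ orderOf_dvd_natCard _))
  have hcen : c.T ∈ center G := Subgroup.mem_center_iff.2 fun g => by
    have h := Cfsg.Lib.ZStarApps.zstarProp hzi g
    rw [hbot, mem_bot, mul_inv_eq_one, mul_inv_eq_iff_eq_mul] at h
    exact h.symm
  rcases IsSimpleGroup.eq_bot_or_eq_top_of_normal (center G) inferInstance with h | h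
  · rw [h, mem_bot] at hcen
    rw [hcen, orderOf_one] at hto
    norm_num at hto
  · exact c.not_comm ⟨⟨fun x y => Subgroup.mem_center_iff.1 (h ▸ mem_top y) x⟩⟩

/-- A strongly closed abelian subgroup is impossible. -/
theorem no_closed [IsSimpleGroup G] (Cl : Mdl → Bool) (h1 : Cl 1 = true) (ht : Cl t0 = true)
    (hV : ∀ p, Cl p = true → InV p = true)
    (hmul : ∀ p q, Cl p = true → Cl q = true → Cl (p * q) = true)
    (hcT : ∀ p, Cl p = true → p ≠ 1 → c.Tc (cls p))
    (hcl : ∀ q, q * q = 1 → q ≠ 1 → c.Tc (cls q) → Cl q = true) : False := by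
  classical
  let D : Subgroup Mdl :=
    { carrier := {p | Cl p = true}
      one_mem' := h1
      mul_mem' := fun hp hq => hmul _ _ hp hq
      inv_mem' := fun {p} hp => by
        show Cl p⁻¹ = true
        rw [inv_eq_of_mul_eq_one_right ((InV_iff p).1 (hV p hp)).2]
        exact hp }
  set A := D.map c.ι
  have hA : A ≠ ⊥ := fun h => by
    have hm : c.ι t0 ∈ A := mem_map_of_mem c.ι (show t0 ∈ D from ht)
    rw [h, mem_bot] at hm
    exact c.ι_ne t0_facts.2 hm
  have hc : IsMulCommutative A := ⟨⟨by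
    rintro ⟨_, p, hp, rfl⟩ ⟨_, q, hq, rfl⟩
    refine Subtype.ext ?_
    show c.ι p * c.ι q = c.ι q * c.ι p
    rw [← map_mul, ← map_mul, (closed_sets p q (hV p hp) (hV q hq)).2.1]⟩⟩
  have hsc : Cfsg.IsStronglyClosed A (c.S : Subgroup G) := by
    refine ⟨by rintro _ ⟨p, -, rfl⟩; exact c.ι_mem p, ?_⟩
    rintro _ ⟨p, hp, rfl⟩ g hg
    obtain ⟨q, hq⟩ := c.exists_ι hg
    by_cases hp1 : p = 1
    · rw [hp1, map_one, mul_one, mul_inv_cancel]
      exact one_mem A
    have hi : c.Img g p q := hq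
    have hpp : p * p = 1 := ((InV_iff p).1 (hV p hp)).2
    exact ⟨q, hcl q (hi.sq hpp) (hi.ne_one hp1) ((c.tc_of_img hi hpp hp1).1 (hcT p hp hp1)), hq⟩
  rcases Cfsg.Lib.Goldschmidt.goldProp G c.S A hA hc hsc with h | ⟨H, hH⟩
  · obtain ⟨g, k, hgk⟩ := not_comm_model
    exact hgk (c.ι_inj (by
      rw [map_mul, map_mul]
      exact congrArg Subtype.val (h.is_comm.comm ⟨_, c.ι_mem g⟩ ⟨_, c.ι_mem k⟩)))
  · exact c.not_four (Cfsg.Lib.StrongEmb.all_conj hH (c.order_ι (rep_cls 4).2.1 (rep_cls 4).2.2) c.orderOf_T)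

/-- The three images in the centraliser of the third class. -/
theorem seven_of_two [IsSimpleGroup G] (h2 : c.Tc 2) : c.Tc 7 := by
  obtain ⟨hc1, hc2, hc3, hm1, hm2, hj, hjc, hbc, hb2, hsq, hv1, hv2, hv3, -, hb1⟩ := dihedral_witness
  obtain ⟨g, hgx, hgq⟩ := c.exists_move h2
  obtain ⟨a, ha⟩ := hgq i1 hc1
  obtain ⟨b, hb⟩ := hgq j1 hc2
  obtain ⟨p, hp⟩ := hgq v6 hc3
  have hw := (ha.mul hb).mul (ha.mul hb)
  rw [hsq] at hw
  have hbb := (ha.mul hb).mul ha
  have f : ∀ (u v : Mdl), u = v → u = v := fun _ _ h => h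
  have e1 : p * a = a * p * (a * b * (a * b)) := Img.eq (hp.mul ha) ((ha.mul hp).mul hw) hm1
  have e2 : p * b = b * p * (a * b * (a * b)) := Img.eq (hp.mul hb) ((hb.mul hp).mul hw) hm2
  have hwt : a * b * (a * b) ≠ t0 := Img.ne hw hgx (by decide +kernel)
  have hpw' : p ≠ t0 * (a * b * (a * b)) := Img.ne hp (hgx.mul hw) (by decide +kernel)
  have ha1 : a * a = 1 := ha.sq (by decide +kernel)
  have ha0 : a ≠ 1 := ha.ne_one (by decide +kernel)
  have hb0 : b * b = 1 := hb.sq hj
  have hbn : b ≠ 1 := hb.ne_one (by decide +kernel)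
  have hT6 : c.Tc (cls p) :=
    (c.tc_of_img hp (by decide +kernel) (by decide +kernel)).1 (by
      rw [show cls v6 = 6 by decide +kernel]; exact c.six)
  have h7of1 : c.Tc 1 → c.Tc 7 := fun h =>
    (c.pair_cls (x := i1) (y := v7) (a := 1) (b := 7) (e := 1) (by decide +kernel) (by decide +kernel)
      (by decide +kernel) (by decide +kernel) (by decide +kernel) (by decide +kernel) (by decide +kernel)
      (by decide +kernel) (by decide +kernel) h).2 h
  have hA : c.Tc (cls a) → c.Tc 7 := fun h => h7of1 (by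
    rw [← show cls i1 = 1 by decide +kernel]
    exact (c.tc_of_img ha (by decide +kernel) (by decide +kernel)).2 h)
  have hB : c.Tc (cls (a * b * a)) → c.Tc 7 := fun h => h7of1 (by
    rw [← hbc]
    exact (c.tc_of_img hbb hb2 hb1).2 h)
  have hTs : ∀ {n : ℕ}, n = 2 ∨ n = 6 ∨ n = 8 → c.Tc n := by
    rintro n (rfl | rfl | rfl)
    exacts [h2, c.six, c.tc_eight]
  rcases dihedral_facts ha1 ha0 hb0 hbn (hw.ne_one t0_facts.2) (hw.sq t0_facts.1) hwt (hp.sq (by decide +kernel))
      (hp.ne_one (by decide +kernel)) e1 e2 (Img.ne hp hgx hv2) (Img.ne hp hw hv1) hpw' with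
    e | e | e | e | e | e | e | e | e | e | e
  · exact hA (e ▸ hT6)
  · exact hB (e ▸ hT6)
  · exact absurd (e ▸ hT6) c.not_four
  · exact absurd (e ▸ hT6) c.not_five
  · exact e ▸ hT6
  · exact hA (hTs (Or.inl e))
  · exact hA (hTs (Or.inr (Or.inl e)))
  · exact hA (hTs (Or.inr (Or.inr e)))
  · exact hB (hTs (Or.inl e))
  · exact hB (hTs (Or.inr (Or.inl e)))
  · exact hB (hTs (Or.inr (Or.inr e)))

theorem seven [IsSimpleGroup G] : c.Tc 7 := by
  by_contra hno
  have h2 : ¬ c.Tc 2 := fun h => hno (c.seven_of_two h)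
  refine c.no_closed In6 (by decide +kernel) (by decide +kernel) (fun p hp => ((in6_iff p).1 hp).1)
    (fun p q hp hq => (closed_sets p q ((in6_iff p).1 hp).1 ((in6_iff q).1 hq).1).2.2 hp hq)
    (fun p hp hp1 => ?_) fun q hq hq1 hT => (in6_iff q).2 ?_
  · rcases ((in6_iff p).1 hp).2 with e | e | e
    · exact absurd e hp1
    · exact e ▸ c.six
    · exact e ▸ c.tc_eight
  · rcases c.cases hq hq1 hT with e | e | e | e | e | e | e
    · exact absurd (c.two_of (Or.inl e) hT) h2
    · exact absurd (c.two_of (Or.inr (Or.inl e)) hT) h2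
    · exact absurd (e ▸ hT) h2
    · exact absurd (c.two_of (Or.inr (Or.inr e)) hT) h2
    · exact ⟨cls_V hq hq1 (Or.inl e), Or.inr (Or.inl e)⟩
    · exact absurd (e ▸ hT) hno
    · exact ⟨cls_V hq hq1 (Or.inr (Or.inr e)), Or.inr (Or.inr e)⟩

theorem two [IsSimpleGroup G] : c.Tc 2 := by
  by_contra h2
  refine c.no_closed InV (by decide +kernel) (by decide +kernel) (fun _ h => h)
    (fun p q hp hq => (closed_sets p q hp hq).1) (fun p hp hp1 => ?_) fun q hq hq1 hT => ?_
  · rcases InV_cls p hp hp1 with e | e | e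
    · exact e ▸ c.six
    · exact e ▸ c.seven
    · exact e ▸ c.tc_eight
  · rcases c.cases hq hq1 hT with e | e | e | e | e | e | e
    · exact absurd (c.two_of (Or.inl e) hT) h2
    · exact absurd (c.two_of (Or.inr (Or.inl e)) hT) h2
    · exact absurd (e ▸ hT) h2
    · exact absurd (c.two_of (Or.inr (Or.inr e)) hT) h2
    · exact cls_V hq hq1 (Or.inl e)
    · exact cls_V hq hq1 (Or.inr (Or.inl e))
    · exact cls_V hq hq1 (Or.inr (Or.inr e))

/-- An involution whose commutator with a vector becomes non-central is outer. -/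
theorem outer_image {g : G} {x d v d' v' : Mdl} (hA : ∀ a ∈ AM, ∃ a', c.Img g a a') (hgx : c.Img g x t0)
    (hx : x ≠ t0) (hd : d * d = 1) (hd1 : d ≠ 1) (hv : InV v = true) (hv1 : v ≠ 1)
    (hdv : d * v * (d * v) = t0) (hi : c.Img g d d') (hiv : c.Img g v v') : cls d' = 0 ∨ cls d' = 3 := by
  have hw := (hi.mul hiv).mul (hi.mul hiv)
  rw [hdv] at hw
  exact move_facts (hi.sq hd) (hi.ne_one hd1) (c.img_InV hA hv hiv) (hiv.ne_one hv1) (hw.ne_one t0_facts.2)
    (Img.ne hw hgx hx.symm)

theorem zero_or_three [IsSimpleGroup G] : c.Tc 0 ∨ c.Tc 3 := by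
  obtain ⟨-, -, -, -, -, -, hc, hc2, hV7, hmv, -⟩ := flip_witness
  obtain ⟨g, hgx, hgq⟩ := c.exists_move (show IsConj (c.ι v6) c.T from c.six)
  have hA : ∀ a ∈ AM, ∃ a', c.Img g a a' := fun a ha => hgq a (AM_comm ha (rfl : v6 ∈ AM))
  obtain ⟨d', hd'⟩ := hgq i2 hc2
  obtain ⟨v', hv'⟩ := hgq v7 hc
  have hT : c.Tc (cls d') := (c.tc_of_img hd' (by decide +kernel) (by decide +kernel)).1 (by
    rw [show cls i2 = 2 by decide +kernel]; exact c.two)
  rcases c.outer_image hA hgx (by decide +kernel) (by decide +kernel) (by decide +kernel) hV7 (by decide +kernel)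
    hmv hd' hv' with e | e
  · exact Or.inl (e ▸ hT)
  · exact Or.inr (e ▸ hT)

theorem one [IsSimpleGroup G] : c.Tc 1 := by
  obtain ⟨ha2, hai, hc1, hc5, ⟨hV, hv1, hvc, hmv⟩, hac, -⟩ := flip_witness
  set a : Mdl := ⟨(0, 1, 0), (0, false)⟩ with hadef
  set v : Mdl := ⟨(0, 0, 2), (0, false)⟩ with hvdef
  obtain ⟨g, hgx, hgq⟩ := c.exists_move (show IsConj (c.ι v7) c.T from c.seven)
  have hA : ∀ b ∈ AM, ∃ b', c.Img g b b' := fun b hb => hgq b (AM_comm hb (rfl : v7 ∈ AM))
  obtain ⟨d', hd'⟩ := hgq i1 hc1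
  obtain ⟨a', ha'⟩ := hgq a hac
  obtain ⟨v', hv'⟩ := hgq v hvc
  have hprod := ha'.mul hd'
  rw [hai] at hprod
  have o1 := c.outer_image hA hgx (by decide +kernel) (by decide +kernel) (by decide +kernel) hV hv1 hmv hd' hv'
  have o5 := c.outer_image hA hgx (by decide +kernel) (d := i5) (by decide +kernel) (by decide +kernel) hV hv1
    (by decide +kernel) hprod hv'
  have hflip := flip_facts (hd'.sq (by decide +kernel)) (hd'.ne_one (by decide +kernel)) o1
    (c.img_AM hA (rfl : a ∈ AM) ha') (Img.unique (ha'.mul ha') (ha2 ▸ hgx)) (hprod.sq (by decide +kernel))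
  have h5 : ¬ c.Tc (cls (a' * d')) := fun h => c.not_five (by
    rw [← show cls i5 = 5 by decide +kernel]
    exact (c.tc_of_img hprod (by decide +kernel) (by decide +kernel)).2 h)
  rw [← show cls i1 = 1 by decide +kernel]
  refine (c.tc_of_img hd' (by decide +kernel) (by decide +kernel)).2 ?_
  rcases o5 with e5 | e5 <;> rw [e5] at h5 hflip <;> rcases o1 with e1 | e1 <;> rw [e1] at hflip ⊢
  · exact absurd rfl hflip
  · exact c.zero_or_three.resolve_left h5
  · exact c.zero_or_three.resolve_right h5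
  · exact absurd rfl hflip

/-- The fusion pattern. -/
structure Pattern : Prop where
  iff : ∀ w : Mdl, w * w = 1 → w ≠ 1 →
    (IsConj (c.ι w) c.T ↔ cls w = 0 ∨ cls w = 1 ∨ cls w = 2 ∨ cls w = 6 ∨ cls w = 7 ∨ cls w = 8)

theorem pattern_of_zero [IsSimpleGroup G] (h0 : c.Tc 0) : c.Pattern := ⟨fun w h h1 => by
  rw [← c.tc_iff h h1]
  constructor
  · intro hT
    rcases c.cases h h1 hT with e | e | e | e | e | e | e
    · exact Or.inl e
    · exact Or.inr (Or.inl e)
    · exact Or.inr (Or.inr (Or.inl e))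
    · exact absurd ⟨h0, e ▸ hT⟩ c.not_zero_three
    · exact Or.inr (Or.inr (Or.inr (Or.inl e)))
    · exact Or.inr (Or.inr (Or.inr (Or.inr (Or.inl e))))
    · exact Or.inr (Or.inr (Or.inr (Or.inr (Or.inr e))))
  · rintro (e | e | e | e | e | e) <;> rw [e]
    exacts [h0, c.one, c.two, c.six, c.seven, c.tc_eight]⟩

/-- **A Sylow model with the standard fusion pattern.** -/
theorem exists_pattern [IsSimpleGroup G] : ∃ c' : Typed G, c'.S = c.S ∧ c'.Pattern := by
  rcases c.zero_or_three with h | h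
  · exact ⟨c, rfl, c.pattern_of_zero h⟩
  · refine ⟨⟨c.S, swapEquiv.trans c.e⟩, rfl, Typed.pattern_of_zero _ ?_⟩
    obtain ⟨hs, hs1, hc, ht⟩ := swap_vals 0
    show IsConj (c.ι (swap (rep 0))) (c.ι (swap t0))
    rw [ht]
    exact (c.tc_iff hs hs1).1 (by rw [hc]; exact h)

end Typed

end Cfsg.Lib.HSType
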