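import Cfsg.Agent.HSType.CentFacts
import Cfsg.Agent.HSType.Fusion

/-!
# Fusion inside the centraliser of the central involution

All the involutions of the large subgroup other than the central one are fused, and to nothing else.
-/

set_option autoImplicit false
set_option linter.unusedSectionVars false
set_option linter.style.haveILetI false
set_option maxRecDepth 100000

namespace Cfsg.Lib.HSType

open Subgroup Mdl

universe u

namespace Typed

variable {G : Type u} [Group G] [Finite G] {c : Typed G}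

theorem Img.comp {g n : G} {p q r : Mdl} (h1 : c.Img g p q) (h2 : c.Img n q r) : c.Img (n * g) p r := by
  show c.ι r = n * g * c.ι p * (n * g)⁻¹
  rw [h2, h1]; group

theorem img_ι (c : Typed G) (g q : Mdl) : c.Img (c.ι g) q (g * q * g⁻¹) := by
  show c.ι (g * q * g⁻¹) = c.ι g * c.ι q * (c.ι g)⁻¹
  rw [map_mul, map_mul, map_inv]

theorem img_T_of_cent {g : G} (hg : g ∈ centralizer ({c.T} : Set G)) : c.Img g t0 t0 := by
  show c.T = g * c.T * g⁻¹
  rw [mem_centralizer_singleton_iff.1 hg, mul_inv_cancel_right]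

theorem cent_of_img_T {g : G} (h : c.Img g t0 t0) : g ∈ centralizer ({c.T} : Set G) :=
  mem_centralizer_singleton_iff.2 (mul_inv_eq_iff_eq_mul.1 h.symm)

/-- Conjugacy under the centraliser of the central involution. -/
def CC (c : Typed G) (x y : Mdl) : Prop := ∃ h : G, c.Img h t0 t0 ∧ c.Img h x y

theorem CC.symm {x y : Mdl} : c.CC x y → c.CC y x := fun ⟨h, ht, hx⟩ => by
  refine ⟨h⁻¹, ?_, ?_⟩
  · show c.ι t0 = h⁻¹ * c.ι t0 * h⁻¹⁻¹
    conv_rhs => rw [show c.ι t0 = h * c.ι t0 * h⁻¹ from ht]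
    group
  · show c.ι x = h⁻¹ * c.ι y * h⁻¹⁻¹
    rw [show c.ι y = h * c.ι x * h⁻¹ from hx]
    group

theorem CC.trans {x y z : Mdl} : c.CC x y → c.CC y z → c.CC x z :=
  fun ⟨g, gt, gx⟩ ⟨n, nt, nx⟩ => ⟨n * g, gt.comp nt, gx.comp nx⟩

theorem CC.of_cls {x y : Mdl} (hx : x * x = 1) (hx1 : x ≠ 1) (hy : y * y = 1) (hy1 : y ≠ 1) (h : cls x = cls y) :
    c.CC x y := by
  obtain ⟨g, hg⟩ := (cls_spec hx hx1).2
  obtain ⟨k, hk⟩ := (cls_spec hy hy1).2
  refine ⟨c.ι (k * g⁻¹), ?_, ?_⟩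
  · have := img_ι c (k * g⁻¹) t0
    rwa [t0_central, mul_inv_cancel_right] at this
  · have := img_ι c (k * g⁻¹) x
    have e : k * g⁻¹ * x * (k * g⁻¹)⁻¹ = y := by
      rw [← h] at hk
      generalize rep (cls x) = r at hg hk
      subst hg hk
      group
    rwa [e] at this

theorem Pattern.cases (hp : c.Pattern) {w : Mdl} (h : w * w = 1) (h1 : w ≠ 1) (hT : IsConj (c.ι w) c.T) :
    cls w = 0 ∨ cls w = 1 ∨ cls w = 2 ∨ cls w = 6 ∨ cls w = 7 ∨ cls w = 8 :=
  (hp.iff w h h1).1 hT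

theorem Pattern.conjT (hp : c.Pattern) {w : Mdl} (h : w * w = 1) (h1 : w ≠ 1)
    (hc : cls w = 0 ∨ cls w = 1 ∨ cls w = 2 ∨ cls w = 6 ∨ cls w = 7 ∨ cls w = 8) : IsConj (c.ι w) c.T :=
  (hp.iff w h h1).2 hc

theorem Pattern.img_cases (hp : c.Pattern) {g : G} {x y : Mdl} (hi : c.Img g x y) (hx : x * x = 1) (hx1 : x ≠ 1)
    (hc : cls x = 0 ∨ cls x = 1 ∨ cls x = 2 ∨ cls x = 6 ∨ cls x = 7 ∨ cls x = 8) :
    cls y = 0 ∨ cls y = 1 ∨ cls y = 2 ∨ cls y = 6 ∨ cls y = 7 ∨ cls y = 8 :=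
  hp.cases (hi.sq hx) (hi.ne_one hx1) (hi.conj.symm.trans (hp.conjT hx hx1 hc))

/-- An involution with a square root of the centre in its centraliser is fused to a vector. -/
theorem to_vector (hp : c.Pattern) {x q u : Mdl} (hx : x * x = 1) (hx1 : x ≠ 1) (hxt : x ≠ t0)
    (hcx : cls x = 0 ∨ cls x = 1 ∨ cls x = 2 ∨ cls x = 6 ∨ cls x = 7 ∨ cls x = 8) (hqx : q * x = x * q)
    (hq : q * q = t0) (hu : u * u = 1) (hu1 : u ≠ 1) (hux : u * x = x * u) (huq : u * q = q * u) (hut : u ≠ t0)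
    (hune : u ≠ x) (hune' : u ≠ x * t0) :
    ∃ h : G, c.Img h t0 t0 ∧ (∀ p, p * x = x * p → ∃ p', c.Img h p p') ∧
      ∃ v, c.Img h x v ∧ InV v = true ∧ v ≠ 1 ∧ v ≠ t0 := by
  obtain ⟨g, hgx, hgq⟩ := c.exists_move (hp.conjT hx hx1 hcx)
  obtain ⟨w, hw⟩ := hgq t0 (t0_central x).symm
  obtain ⟨q', hq'⟩ := hgq q hqx
  obtain ⟨u', hu'⟩ := hgq u hux
  have hww : q' * q' = w := Img.eq (hq'.mul hq') hw hq
  have hwt : w ≠ t0 := Img.ne hw hgx hxt.symm
  have hw1 : w ≠ 1 := hw.ne_one t0_facts.2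
  have hwsq : w * w = 1 := hw.sq t0_facts.1
  have hV : InV w = true := hww ▸ vector_facts (hww.symm ▸ hwsq) (hww.symm ▸ hw1) (hww.symm ▸ hwt) (hu'.sq hu)
    (hu'.ne_one hu1) (Img.comm hu' hq' huq) (Img.ne hu' hgx hune) (hww.symm ▸ Img.ne hu' hw hut)
    (hww.symm ▸ Img.ne hu' (hgx.mul hw) hune')
  obtain ⟨n, hnw, hnq⟩ := c.exists_move (hw.conj.symm.trans (IsConj.refl c.T))
  have hwA : w ∈ AM := ((InV_iff w).1 hV).1
  obtain ⟨v, hv⟩ := hnq t0 (t0_central w).symm
  refine ⟨n * g, hw.comp hnw, fun p hpx => ?_, v, hgx.comp hv,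
    c.img_InV (fun a ha => hnq a (AM_comm ha hwA)) (by decide +kernel) hv, hv.ne_one t0_facts.2,
    Img.ne hv hnw hwt.symm⟩
  obtain ⟨p', hp'⟩ := hgq p hpx
  obtain ⟨p'', hp''⟩ := hnq p' (Img.comm hp' hw (t0_central p))
  exact ⟨p'', hp'.comp hp''⟩

/-- A 2-group centralising the centre and an element with a large centraliser goes into the Sylow subgroup. -/
theorem exists_cent {z : Mdl} (hz1 : z ≠ 1) (hzt : z ≠ t0)
    (hz : (Finset.univ.filter fun q : Mdl => q * z = z * q).card = 256) {X : Subgroup G} (hX : IsPGroup 2 X) (hXC : X ≤ centralizer ({c.T} : Set G))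
    (hXz : X ≤ centralizer ({c.ι z} : Set G)) :
    ∃ k : G, c.Img k t0 t0 ∧ c.Img k z z ∧ ∀ x ∈ X, k * x * k⁻¹ ∈ (c.S : Subgroup G) := by
  haveI : Fact (Nat.Prime 2) := ⟨Nat.prime_two⟩
  set H := centralizer ({c.T} : Set G) ⊓ centralizer ({c.ι z} : Set G) with hH
  set P6 : Subgroup G := (centralizer ({z} : Set Mdl)).map c.ι with hP6
  have hP6H : P6 ≤ H := by
    rintro _ ⟨q, hq, rfl⟩
    exact ⟨c.S_le (c.ι_mem q), mem_centralizer_singleton_iff.2
      (c.ι_comm (mem_centralizer_singleton_iff.1 hq)).eq⟩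
  have hP6p : IsPGroup 2 P6 := c.S.2.to_le (by rintro _ ⟨q, -, rfl⟩; exact c.ι_mem q)
  obtain ⟨R, hR⟩ := (hP6p.of_equiv (subgroupOfEquivOfLe hP6H).symm).exists_le_sylow
  have hmap : P6 ≤ (R : Subgroup H).map H.subtype := fun x hx =>
    ⟨⟨x, hP6H hx⟩, hR (mem_subgroupOf.2 hx), rfl⟩
  have hRp : IsPGroup 2 ((R : Subgroup H).map H.subtype) := R.2.map _
  obtain ⟨R', hR'⟩ := hRp.exists_le_sylow
  have hcard6 : Nat.card P6 = 256 := by
    rw [hP6, card_map_of_injective c.ι_inj,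
      show Nat.card ↥(centralizer ({z} : Set Mdl)) = Nat.card {q : Mdl // q * z = z * q} from
        Nat.card_congr (Equiv.subtypeEquivRight fun q => mem_centralizer_singleton_iff),
      Nat.card_eq_fintype_card, Fintype.card_subtype]
    exact hz
  have hRle : (R : Subgroup H).map H.subtype = P6 := by
    refine (Subgroup.eq_of_le_of_card_ge hmap ?_).symm
    have h512 : Nat.card (R' : Subgroup G) = 512 := by
      rw [← Mdl.card, Nat.card_congr (c.e.trans (Sylow.equiv c.S R')).toEquiv]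
    have hd : Nat.card ((R : Subgroup H).map H.subtype) ∣ 512 := h512 ▸ card_dvd_of_le hR'
    by_contra hlt
    rw [hcard6, not_le] at hlt
    have heq : Nat.card ((R : Subgroup H).map H.subtype) = 512 := by
      obtain ⟨j, hj⟩ := IsPGroup.iff_card.1 hRp
      rw [hj] at hd hlt ⊢
      have h9 : 2 ^ j ∣ 2 ^ 9 := hd
      have hj9 := (Nat.pow_dvd_pow_iff_le_right (by norm_num)).1 h9
      interval_cases j <;> norm_num at hlt <;> norm_num
    have hS' : (R' : Subgroup G) = (R : Subgroup H).map H.subtype :=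
      (Subgroup.eq_of_le_of_card_ge hR' (by rw [h512, heq])).symm
    obtain ⟨k, hk⟩ := MulAction.exists_smul_eq G c.S R'
    have hcen : ∀ q : Mdl, ∀ z : G, (∀ r ∈ (R' : Subgroup G), Commute r z) → Commute (c.ι q) (k⁻¹ * z * k) :=
      fun q z hz => by
        have h := hz (k * c.ι q * k⁻¹) (by
          rw [← hk, Sylow.coe_subgroup_smul]; exact ⟨c.ι q, c.ι_mem q, rfl⟩)
        rw [commute_iff_eq] at h ⊢
        calc c.ι q * (k⁻¹ * z * k) = k⁻¹ * (k * c.ι q * k⁻¹ * z) * k := by group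
          _ = k⁻¹ * (z * (k * c.ι q * k⁻¹)) * k := by rw [h]
          _ = _ := by group
    have hzin : ∀ z ∈ (R' : Subgroup G), ∃ q, c.ι q = k⁻¹ * z * k := fun z hz => by
      rw [← hk, Sylow.coe_subgroup_smul] at hz
      obtain ⟨s, hs, rfl⟩ := hz
      obtain ⟨q, hq⟩ := c.exists_ι hs
      exact ⟨q, by rw [hq]; show s = k⁻¹ * (k * s * k⁻¹) * k; group⟩
    have hmem : ∀ q : Mdl, q * z = z * q → c.ι q ∈ (R' : Subgroup G) := fun q hq =>
      hS' ▸ hmap ⟨q, mem_centralizer_singleton_iff.2 hq, rfl⟩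
    have hcomm : ∀ r ∈ (R' : Subgroup G), Commute r c.T ∧ Commute r (c.ι z) := by
      intro r hr
      rw [hS'] at hr
      obtain ⟨x, -, rfl⟩ := hr
      exact ⟨mem_centralizer_singleton_iff.1 x.2.1, mem_centralizer_singleton_iff.1 x.2.2⟩
    obtain ⟨a, ha⟩ := hzin c.T (hmem t0 (t0_central z).symm)
    obtain ⟨b, hb⟩ := hzin (c.ι z) (hmem z rfl)
    have hcentral : ∀ {w : Mdl} {z : G}, c.ι w = k⁻¹ * z * k → (∀ r ∈ (R' : Subgroup G), Commute r z) →
        w = 1 ∨ w = t0 := fun {w z} hw hz => by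
      have hq : ∀ q : Mdl, w * q = q * w := fun q => c.ι_inj (by
        rw [map_mul, map_mul, hw]; exact (hcen q z hz).eq.symm)
      exact center_facts w (hq _) (hq _) (hq _) (hq _)
    have hne : ∀ {w : Mdl} {z : G}, c.ι w = k⁻¹ * z * k → z ≠ 1 → w ≠ 1 := fun hw hz e => hz (by
      rw [e, map_one] at hw
      have h := conj_eq_one_iff.1 (show k⁻¹ * _ * k⁻¹⁻¹ = 1 by rw [inv_inv]; exact hw.symm)
      exact h)
    have ha' := (hcentral ha fun r hr => (hcomm r hr).1).resolve_left (hne ha (c.ι_ne t0_facts.2))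
    have hb' := (hcentral hb fun r hr => (hcomm r hr).2).resolve_left (hne hb (c.ι_ne hz1))
    rw [ha'] at ha
    rw [hb', ha] at hb
    exact hzt (c.ι_inj (mul_left_cancel (mul_right_cancel hb))).symm
  obtain ⟨Q, hQ⟩ := (hX.of_equiv (subgroupOfEquivOfLe (le_inf hXC hXz : X ≤ H)).symm).exists_le_sylow
  obtain ⟨k, hk⟩ := MulAction.exists_smul_eq H Q R
  refine ⟨k, img_T_of_cent k.2.1, ?_, fun x hx => ?_⟩
  · show c.ι z = (k : G) * c.ι z * (k : G)⁻¹
    rw [mem_centralizer_singleton_iff.1 k.2.2, mul_inv_cancel_right]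
  · have h : k * ⟨x, le_inf hXC hXz hx⟩ * k⁻¹ ∈ (R : Subgroup H) := by
      rw [← hk, Sylow.coe_subgroup_smul]
      exact ⟨⟨x, le_inf hXC hXz hx⟩, hQ (mem_subgroupOf.2 hx), rfl⟩
    have h' : (k : G) * x * (k : G)⁻¹ ∈ P6 := hRle ▸ mem_map_of_mem H.subtype h
    obtain ⟨q, -, hq⟩ := h'
    exact hq ▸ c.ι_mem q

/-- A conjugation onto an element with a large centraliser carrying the centraliser into the Sylow subgroup. -/
theorem to_cent {z : Mdl} (hz1 : z ≠ 1) (hzt : z ≠ t0)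
    (hz : (Finset.univ.filter fun q : Mdl => q * z = z * q).card = 256) {x : Mdl} (hx : c.CC x z) :
    ∃ h : G, c.Img h t0 t0 ∧ c.Img h x z ∧
      ∀ p, p * x = x * p → ∃ p', c.Img h p p' ∧ p' * z = z * p' := by
  obtain ⟨g, gt, gx⟩ := hx
  set X : Subgroup G := ((centralizer ({x} : Set Mdl)).map c.ι).map (MulAut.conj g).toMonoidHom
  have hXp : IsPGroup 2 X := (c.S.2.to_le (by rintro _ ⟨q, -, rfl⟩; exact c.ι_mem q)).map _
  have hXC : ∀ {w w' : Mdl}, c.Img g w w' → (∀ q, q * x = x * q → q * w = w * q) →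
      X ≤ centralizer ({c.ι w'} : Set G) := fun {w w'} hw hc => by
    rintro _ ⟨_, ⟨q, hq, rfl⟩, rfl⟩
    rw [hw]
    exact mem_centralizer_singleton_iff.2
      ((c.ι_comm (hc q (mem_centralizer_singleton_iff.1 hq))).map (MulAut.conj g).toMonoidHom).eq
  obtain ⟨k, kt, k6, kS⟩ := exists_cent hz1 hzt hz hXp (hXC gt fun q _ => t0_central q) (hXC gx fun q hq => hq)
  refine ⟨k * g, gt.comp kt, gx.comp k6, fun p hp => ?_⟩
  obtain ⟨p', hp'⟩ := c.exists_ι (kS _ ⟨_, ⟨p, mem_centralizer_singleton_iff.2 hp, rfl⟩, rfl⟩)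
  have hi : c.Img (k * g) p p' := by
    show c.ι p' = k * g * c.ι p * (k * g)⁻¹
    rw [hp']
    show k * (g * c.ι p * g⁻¹) * k⁻¹ = _
    group
  exact ⟨p', hi, Img.comm hi (gx.comp k6) hp⟩

/-- A conjugation onto the first vector carrying the centraliser into the Sylow subgroup. -/
theorem to_six {x : Mdl} (hx : c.CC x v6) :
    ∃ h : G, c.Img h t0 t0 ∧ c.Img h x v6 ∧
      ∀ p, p * x = x * p → ∃ p', c.Img h p p' ∧ p' * v6 = v6 * p' :=
  to_cent (by decide +kernel) (by decide +kernel) (by decide +kernel) hx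

theorem two_six (hp : c.Pattern) : c.CC i2 v6 := by
  obtain ⟨hci, hcc, -, -, -, -, -, ⟨hw, hww, hmv⟩, -⟩ := cent_witness
  obtain ⟨h, ht, hq, v, hv, hV, hv1, hvt⟩ := to_vector hp (x := i2) (q := gc) (u := v6) (by decide +kernel)
    (by decide +kernel) (by decide +kernel) (Or.inr (Or.inr (Or.inl (by decide +kernel)))) hci hcc
    (by decide +kernel) (by decide +kernel) (by decide +kernel) (by decide +kernel) (by decide +kernel)
    (by decide +kernel) (by decide +kernel)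
  refine CC.trans ⟨h, ht, hv⟩ ?_
  have hvv := ((InV_iff v).1 hV).2
  rcases InV_cls v hV hv1 with e | e | e
  · exact CC.of_cls hvv hv1 (by decide +kernel) (by decide +kernel) (e.trans (by decide +kernel))
  · exfalso
    obtain ⟨q, hq'⟩ := hq _ hw
    obtain ⟨p, hp'⟩ := hq v6 (by decide +kernel)
    have hsq : q * q = v := Img.eq (hq'.mul hq') hv hww
    exact seven_facts (hsq.symm ▸ hvv) (hsq.symm ▸ e) (hsq.symm ▸ hv1) (hp'.sq (by decide +kernel))
      (hp'.ne_one (by decide +kernel)) (Img.eq (hp'.mul hq') ((hq'.mul hp').mul ht) hmv)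
  · exact absurd ((cls_t0 hvv hv1).1 e) hvt

theorem one_six (hp : c.Pattern) : c.CC i1 v6 := by
  obtain ⟨hci, hcc, -, hc1, hcj, -, -, -, -⟩ := cent_witness
  obtain ⟨hi1, hj1, -, -, -, hj, hjc, -, -, hsq, -⟩ := dihedral_witness
  obtain ⟨h, ht, hx, hq⟩ := to_six (two_six hp)
  obtain ⟨q', hq', hqv⟩ := hq gc hci
  obtain ⟨a, ha, hav⟩ := hq i1 hi1
  obtain ⟨b, hb, hbv⟩ := hq j1 hj1
  have hqq : q' * q' = t0 := Img.eq (hq'.mul hq') ht hcc
  have key : ∀ {p p' : Mdl}, c.Img h p p' → p * p = 1 → p ≠ 1 → p ≠ t0 → cls p = 1 → gc * p = p * gc →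
      p' * v6 = v6 * p' → cls p' = 2 ∨ cls p' = 6 ∨ cls p' = 7 := by
    intro p p' hi h2 h1 hne hcp hcc' hv
    rcases hp.img_cases hi h2 h1 (Or.inr (Or.inl hcp)) with e | e | e | e | e | e <;>
      rcases six_facts (hi.sq h2) (hi.ne_one h1) hv hqq (Img.comm hq' hi hcc') hqv with f | f | f | f | f <;>
      first
      | omega
      | exact Or.inl e
      | exact Or.inr (Or.inl e)
      | exact Or.inr (Or.inr e)
      | exact absurd ((cls_t0 (hi.sq h2) (hi.ne_one h1)).1 e) (Img.ne hi ht hne)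
  have fin : ∀ {p p' : Mdl}, c.Img h p p' → p * p = 1 → p ≠ 1 → cls p = 1 → (cls p' = 2 ∨ cls p' = 6) →
      c.CC i1 v6 := fun {p p'} hi h2 h1 hcp he => by
    refine CC.trans (CC.of_cls (by decide +kernel) (by decide +kernel) h2 h1
      ((show cls i1 = 1 by decide +kernel).trans hcp.symm)) (CC.trans ⟨h, ht, hi⟩ ?_)
    rcases he with e | e
    · exact CC.trans (CC.of_cls (hi.sq h2) (hi.ne_one h1) (by decide +kernel) (by decide +kernel)
        (e.trans (show (2 : ℕ) = cls i2 by decide +kernel))) (two_six hp)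
    · exact CC.of_cls (hi.sq h2) (hi.ne_one h1) (by decide +kernel) (by decide +kernel)
        (e.trans (show (6 : ℕ) = cls v6 by decide +kernel))
  rcases key ha (by decide +kernel) (by decide +kernel) (by decide +kernel) (by decide +kernel) hc1 hav with
    e | e | e
  · exact fin ha (by decide +kernel) (by decide +kernel) (by decide +kernel) (Or.inl e)
  · exact fin ha (by decide +kernel) (by decide +kernel) (by decide +kernel) (Or.inr e)
  rcases key hb hj (by decide +kernel) (by decide +kernel) hjc hcj hbv with f | f | f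
  · exact fin hb hj (by decide +kernel) hjc (Or.inl f)
  · exact fin hb hj (by decide +kernel) hjc (Or.inr f)
  exfalso
  have hA : a ∈ AM ∧ b ∈ AM :=
    ⟨((InV_iff a).1 (cls_V (ha.sq (by decide +kernel)) (ha.ne_one (by decide +kernel)) (Or.inr (Or.inl e)))).1,
      ((InV_iff b).1 (cls_V (hb.sq hj) (hb.ne_one (by decide +kernel)) (Or.inr (Or.inl f)))).1⟩
  have h1 : a * b * (a * b) = 1 := by
    rw [show a * b * (a * b) = a * (b * a) * b by group, AM_comm hA.2 hA.1,
      show a * (a * b) * b = (a * a) * (b * b) by group, ha.sq (by decide +kernel), hb.sq hj, one_mul]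
  exact t0_facts.2 ((Img.eq ((ha.mul hb).mul (ha.mul hb)) ht hsq).symm.trans h1)

theorem seven_six (hp : c.Pattern) : c.CC v7 v6 := by
  obtain ⟨-, hcc, -, hc1, -, hc7, h71, -, -⟩ := cent_witness
  obtain ⟨h, ht, hx, hq⟩ := to_six (one_six hp)
  obtain ⟨q', hq', hqv⟩ := hq gc hc1
  obtain ⟨p, hp', hpv⟩ := hq v7 h71
  have hpp : p * p = 1 := hp'.sq (by decide +kernel)
  have hp1 : p ≠ 1 := hp'.ne_one (by decide +kernel)
  have via : ∀ {y : Mdl}, y * y = 1 → y ≠ 1 → cls p = cls y → c.CC y v6 → c.CC v7 v6 := fun hy hy1 e hc =>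
    CC.trans (CC.trans ⟨h, ht, hp'⟩ (CC.of_cls hpp hp1 hy hy1 e)) hc
  rcases hp.img_cases hp' (by decide +kernel) (by decide +kernel)
      (Or.inr (Or.inr (Or.inr (Or.inr (Or.inl (by decide +kernel)))))) with e | e | e | e | e | e <;>
    rcases six_facts hpp hp1 hpv (Img.eq (hq'.mul hq') ht hcc) (Img.comm hq' hp' hc7) hqv with f | f | f | f | f <;>
    try omega
  · exact via (by decide +kernel) (by decide +kernel) (e.trans (show (2 : ℕ) = cls i2 by decide +kernel))
      (two_six hp)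
  · exact via (by decide +kernel) (by decide +kernel) (e.trans (show (6 : ℕ) = cls v6 by decide +kernel))
      ⟨1, by show c.ι t0 = 1 * c.ι t0 * 1⁻¹; group, by show c.ι v6 = 1 * c.ι v6 * 1⁻¹; group⟩
  · -- the product with the image of the extraspecial involution is again of the second class
    have hV := cls_V hpp hp1 (Or.inr (Or.inl e))
    obtain ⟨hmV, hm1, hm7⟩ := seven_mul p hV hp1 e
    have hm := hx.mul hp'
    have h2 : c.CC (i1 * v7) (v6 * p) := ⟨h, ht, hm⟩
    have h1' : c.CC i1 (v6 * p) := CC.trans (CC.of_cls (by decide +kernel) (by decide +kernel) (by decide +kernel)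
      (by decide +kernel) (by decide +kernel)) h2
    exact CC.trans (CC.trans (CC.of_cls (by decide +kernel) (by decide +kernel) ((InV_iff _).1 hmV).2 hm1
      ((show cls v7 = 7 by decide +kernel).trans hm7.symm)) h1'.symm) (one_six hp)
  · exact absurd ((cls_t0 hpp hp1).1 e) (Img.ne hp' ht (by decide +kernel))

theorem not_zero_six : ¬ c.CC i0 v6 := fun hc => by
  obtain ⟨-, -, -, -, -, -, -, -, hai, hzi, ha2, hinv⟩ := cent_witness
  obtain ⟨h, ht, hx, hq⟩ := to_six hc
  obtain ⟨q, hq', hqv⟩ := hq _ hai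
  obtain ⟨u, hu', huv⟩ := hq _ hzi
  have hw := hq'.mul hq'
  rw [ha2] at hw
  rcases outer_facts hqv huv (hu'.sq (by decide +kernel)) (hu'.ne_one (by decide +kernel))
    (Img.eq (((hu'.mul hq').mul hu').mul hq') Img.one hinv) with e | e | e | e
  · exact hw.ne_one (by decide +kernel) e
  · exact Img.ne hw ht (by decide +kernel) e
  · exact Img.ne hw hx (by decide +kernel) e
  · exact Img.ne hw (ht.mul hx) (by decide +kernel) e

/-- **The involutions of the large subgroup are fused to the first vector.** -/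
theorem cc_of_inR (hp : c.Pattern) {x : Mdl} (hx : x * x = 1) (hx1 : x ≠ 1) (hxt : x ≠ t0) (hR : InR x = true) :
    c.CC x v6 := by
  rcases (InR_cls x hx hx1).1 hR with e | e | e | e | e
  · exact CC.trans (CC.of_cls hx hx1 (by decide +kernel) (by decide +kernel)
      (e.trans (show (1 : ℕ) = cls i1 by decide +kernel))) (one_six hp)
  · exact CC.trans (CC.of_cls hx hx1 (by decide +kernel) (by decide +kernel)
      (e.trans (show (2 : ℕ) = cls i2 by decide +kernel))) (two_six hp)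
  · exact CC.of_cls hx hx1 (by decide +kernel) (by decide +kernel)
      (e.trans (show (6 : ℕ) = cls v6 by decide +kernel))
  · exact CC.trans (CC.of_cls hx hx1 (by decide +kernel) (by decide +kernel)
      (e.trans (show (7 : ℕ) = cls v7 by decide +kernel))) (seven_six hp)
  · exact absurd ((cls_t0 hx hx1).1 e) hxt

/-- **The large subgroup absorbs the conjugates of its involutions.** -/
theorem inR_closed (hp : c.Pattern) {g : G} (hg : c.Img g t0 t0) {x y : Mdl} (hx : x * x = 1) (hx1 : x ≠ 1)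
    (hR : InR x = true) (hxy : c.Img g x y) : InR y = true := by
  by_cases hxt : x = t0
  · subst hxt
    rw [Img.unique hxy hg]
    exact hR
  have h6 := cc_of_inR hp hx hx1 hxt hR
  have hyy : y * y = 1 := hxy.sq hx
  have hy1 : y ≠ 1 := hxy.ne_one hx1
  refine (InR_cls y hyy hy1).2 ?_
  have hcx : cls x = 0 ∨ cls x = 1 ∨ cls x = 2 ∨ cls x = 6 ∨ cls x = 7 ∨ cls x = 8 :=
    Or.inr ((InR_cls x hx hx1).1 hR)
  rcases hp.img_cases hxy hx hx1 hcx with e | e
  · exact absurd (CC.trans (CC.trans (CC.of_cls (by decide +kernel) (by decide +kernel) hyy hy1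
      ((show cls i0 = 0 by decide +kernel).trans e.symm)) (CC.symm ⟨g, hg, hxy⟩)) h6) not_zero_six
  · exact e

end Typed

end Cfsg.Lib.HSType
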