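import Cfsg.Agent.HSType.CentModel
import Cfsg.Agent.HSType.CentFusion
import Cfsg.Agent.AltEightType.Core
import Cfsg.Agent.TwoFusion.TransferApps
import Mathlib.GroupTheory.Transfer

/-!
# The common centraliser of the distinguished root and the first vector

It has a normal 2-complement.
-/

set_option autoImplicit false
set_option linter.unusedSectionVars false
set_option linter.style.haveILetI false
set_option maxRecDepth 100000

namespace Cfsg.Lib.HSType

open Subgroup Mdl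

universe u

theorem fix_of_odd {G : Type*} [Group G] {g x w : G} {n : ℕ} (hn : g ^ n = 1) (ho : Odd n)
    (h : g * x * g⁻¹ = x * w) (hw : Commute g w) (hw2 : w * w = 1) : g * x * g⁻¹ = x := by
  have hk : ∀ k : ℕ, g ^ k * x * (g ^ k)⁻¹ = x * w ^ k := fun k => by
    induction k with
    | zero => simp
    | succ k ih =>
      rw [pow_succ', show g * g ^ k * x * (g * g ^ k)⁻¹ = g * (g ^ k * x * (g ^ k)⁻¹) * g⁻¹ by group, ih,
        show g * (x * w ^ k) * g⁻¹ = g * x * g⁻¹ * (g * w ^ k * g⁻¹) by group, h, (hw.pow_right k).eq,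
        mul_inv_cancel_right, mul_assoc, pow_succ']
  obtain ⟨j, rfl⟩ := ho
  have hxw := hk (2 * j + 1)
  rw [hn, pow_succ, pow_mul, pow_two, hw2, one_pow, one_mul, one_mul, inv_one, mul_one] at hxw
  rw [h, ← hxw]

/-- The outer index of an element of the local subgroup of the model. -/
def outerIx (q : Mdl) : Multiplicative (ZMod 2) := Multiplicative.ofAdd (if q.d = (0, false) then 0 else 1)

theorem outerIx_check : ∀ q : Mdl, q * gc = gc * q → q * v6 = v6 * q → q.d = (0, false) ∨ q.d = (2, false) := by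
  decide +kernel

theorem v7_check : (∀ q : Mdl, q * v6 = v6 * q → q * v7 = v7 * q → q.d = (0, false)) ∧
    (Finset.univ.filter fun q : Mdl => q * v6 = v6 * q).card = 256 ∧
    (∀ q : Mdl, q.d = (0, false) → q * gc = gc * q ∧ q * v6 = v6 * q ∧ q * v7 = v7 * q) ∧
    InV v6 = true ∧ InV t0 = true ∧ InV (t0 * v6) = true := by decide +kernel

namespace Typed

variable {G : Type u} [Group G] [Finite G] (c : Typed G)

/-- The centraliser of the distinguished root. -/
def W : Subgroup G := centralizer ({c.ι gc} : Set G)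

/-- The common centraliser of the root and the first vector. -/
def M0 : Subgroup G := c.W ⊓ centralizer ({c.ι v6} : Set G)

variable {c}

theorem mem_W {g : G} : g ∈ c.W ↔ g * c.ι gc = c.ι gc * g := mem_centralizer_singleton_iff

theorem W_le : c.W ≤ centralizer ({c.T} : Set G) := fun g hg => by
  rw [mem_centralizer_singleton_iff, show c.T = c.ι gc * c.ι gc by rw [← map_mul, root_witness.1]]
  have h : Commute g (c.ι gc) := mem_W.1 hg
  exact (h.mul_right h).eq

theorem img_W {g : G} : g ∈ c.W ↔ c.Img g gc gc := by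
  rw [mem_W]
  exact ⟨fun h => (mul_inv_eq_iff_eq_mul.2 h).symm, fun h => mul_inv_eq_iff_eq_mul.1 h.symm⟩

theorem img_of_comm {g : G} {q : Mdl} (h : g ∈ centralizer ({c.ι q} : Set G)) : c.Img g q q :=
  (mul_inv_eq_iff_eq_mul.2 (mem_centralizer_singleton_iff.1 h)).symm

theorem ι_mem_W {q : Mdl} (h : q * gc = gc * q) : c.ι q ∈ c.W := mem_W.2 (c.ι_comm h).eq

theorem ι_mem_M0 {q : Mdl} (h : q * gc = gc * q) (h6 : q * v6 = v6 * q) : c.ι q ∈ c.M0 :=
  ⟨ι_mem_W h, mem_centralizer_singleton_iff.2 (c.ι_comm h6).eq⟩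

/-- The 2-subgroups of the centraliser of the root go into that of the Sylow subgroup. -/
theorem W_conj {X : Subgroup G} (hX : IsPGroup 2 X) (hXW : X ≤ c.W) :
    ∃ k ∈ c.W, ∀ x ∈ X, ∃ q, q * gc = gc * q ∧ c.ι q = k * x * k⁻¹ := by
  obtain ⟨k, -, kc, kS⟩ := exists_cent root_witness.2.2.1 root_witness.2.2.2.1
    root_witness.2.2.2.2.2.2.2.2.2.2.2 hX (hXW.trans W_le) hXW
  refine ⟨k, img_W.2 kc, fun x hx => ?_⟩
  obtain ⟨q, hq⟩ := c.exists_ι (kS x hx)
  refine ⟨q, c.ι_inj ?_, hq⟩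
  rw [map_mul, map_mul, hq]
  exact mem_W.1 (mul_mem (mul_mem (img_W.2 kc) (hXW hx)) (inv_mem (img_W.2 kc)))

/-- A 2-subgroup centralising the four vectors is abelian. -/
theorem vectors_comm {X : Subgroup G} (hX : IsPGroup 2 X) (hXT : X ≤ centralizer ({c.T} : Set G))
    (h6 : X ≤ centralizer ({c.ι v6} : Set G)) (h7 : X ≤ centralizer ({c.ι v7} : Set G)) {a b : G} (ha : a ∈ X)
    (hb : b ∈ X) : a * b = b * a := by
  haveI : Fact (Nat.Prime 2) := ⟨Nat.prime_two⟩
  set H : Subgroup G := centralizer ({c.T} : Set G) ⊓ centralizer ({c.ι v6} : Set G) ⊓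
    centralizer ({c.ι v7} : Set G) with hH
  have hAH : AM.map c.ι ≤ H := by
    rintro _ ⟨q, hq, rfl⟩
    obtain ⟨-, e6, e7⟩ := v7_check.2.2.1 q hq
    exact ⟨⟨c.S_le (c.ι_mem q), mem_centralizer_singleton_iff.2 (c.ι_comm e6).eq⟩,
      mem_centralizer_singleton_iff.2 (c.ι_comm e7).eq⟩
  have hAp : IsPGroup 2 (AM.map c.ι : Subgroup G) := c.S.2.to_le (by rintro _ ⟨q, -, rfl⟩; exact c.ι_mem q)
  obtain ⟨R, hR⟩ := (hAp.of_equiv (subgroupOfEquivOfLe hAH).symm).exists_le_sylow
  have hRH : (R : Subgroup H).map H.subtype ≤ H := map_subtype_le _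
  obtain ⟨k, kt, k6, kS⟩ := exists_cent (c := c) local_witness.2.2.2.2.2.2.2.2.2.2.2.2.2.1
    local_witness.2.2.2.2.2.2.2.2.2.2.2.2.2.2.1 v7_check.2.1 (R.2.map _)
    (hRH.trans (inf_le_left.trans inf_le_left)) (hRH.trans (inf_le_left.trans inf_le_right))
  have himg : ∀ q ∈ AM, ∃ q', c.Img k q q' := fun q hq =>
    c.exists_ι (kS _ ⟨⟨c.ι q, hAH ⟨q, hq, rfl⟩⟩, hR (mem_subgroupOf.2 ⟨q, hq, rfl⟩), rfl⟩)
  obtain ⟨w, hw⟩ := himg v7 (show v7.d = (0, false) by decide +kernel)
  have hwV : InV w = true := c.img_InV himg (by decide +kernel) hw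
  obtain ⟨z, hz, hwz⟩ := Va_facts.2.2.1 w hwV
  have hinA : ∀ r ∈ (R : Subgroup H), ∃ q, q.d = (0, false) ∧ c.ι q = k * (r : G) * k⁻¹ := fun r hr => by
    obtain ⟨q, hq⟩ := c.exists_ι (kS _ ⟨r, hr, rfl⟩)
    have hc : ∀ {u u' : Mdl}, c.Img k u u' → (r : G) ∈ centralizer ({c.ι u} : Set G) → q * u' = u' * q :=
      fun {u u'} hu hr' => c.ι_inj (by
        rw [map_mul, map_mul, hq, show c.ι u' = k * c.ι u * k⁻¹ from hu]
        exact ((show Commute (r : G) (c.ι u) from mem_centralizer_singleton_iff.1 hr').map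
          (MulAut.conj k).toMonoidHom).eq)
    have e6 := hc k6 r.2.1.2
    refine ⟨q, v7_check.1 q e6 ?_, hq⟩
    have ez : q * z = z * q := by
      rcases hz with rfl | rfl | rfl | rfl
      · simp
      · exact t0_central q
      · exact e6
      · rw [← mul_assoc, t0_central q, mul_assoc, e6, ← mul_assoc]
    rcases hwz with e | e
    · exfalso
      rcases hz with rfl | rfl | rfl | rfl
      · exact hw.ne_one (by decide +kernel) e
      · exact Img.ne hw kt (by decide +kernel) e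
      · exact Img.ne hw k6 (by decide +kernel) e
      · exact Img.ne hw (kt.mul k6) (by decide +kernel) e
    · have e7 := hc hw r.2.2
      rw [e, ← mul_assoc, mul_assoc v7, ← ez, ← mul_assoc] at e7
      exact mul_right_cancel e7
  obtain ⟨Q, hQ⟩ := (hX.of_equiv (subgroupOfEquivOfLe (le_inf (le_inf hXT h6) h7 : X ≤ H)).symm).exists_le_sylow
  obtain ⟨h, hh⟩ := MulAction.exists_smul_eq H Q R
  have key : ∀ x ∈ X, ∃ q, q.d = (0, false) ∧ c.ι q = k * h * x * (k * h : G)⁻¹ := fun x hx => by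
    have hx' : h * ⟨x, le_inf (le_inf hXT h6) h7 hx⟩ * h⁻¹ ∈ (R : Subgroup H) := by
      rw [← hh, Sylow.coe_subgroup_smul]
      exact ⟨⟨x, le_inf (le_inf hXT h6) h7 hx⟩, hQ (mem_subgroupOf.2 hx), rfl⟩
    obtain ⟨q, hq, e⟩ := hinA _ hx'
    refine ⟨q, hq, e.trans ?_⟩
    show k * ((h : G) * x * (h : G)⁻¹) * k⁻¹ = _
    group
  obtain ⟨p, hp, ep⟩ := key a ha
  obtain ⟨q, hq, eq⟩ := key b hb
  refine (MulAut.conj (k * h : G)).injective ?_
  simp only [MulAut.conj_apply]
  rw [show (k * h : G) * (a * b) * (k * h : G)⁻¹ = c.ι p * c.ι q by rw [ep, eq]; group,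
    show (k * h : G) * (b * a) * (k * h : G)⁻¹ = c.ι q * c.ι p by rw [ep, eq]; group, ← map_mul, ← map_mul,
    AM_comm (p := p) hp hq]

/-- An outer involution is not conjugate to a vector. -/
theorem no_mix {x : G} {u v : Mdl} (hxt : c.Img x t0 t0) (hx6 : c.Img x v6 v6) (hu : u * u = 1)
    (hd : u.d ≠ (0, false)) (hc : u * gc = gc * u) (h6 : u * v6 = v6 * u) (hv : Va v = true) (hi : c.Img x u v) :
    False := by
  obtain ⟨a, b, a6, au, b6, bu, hab⟩ := outer_six hu hd hc h6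
  set X : Subgroup G := ((centralizer ({v6} : Set Mdl) ⊓ centralizer ({u} : Set Mdl)).map c.ι).map
    (MulAut.conj x).toMonoidHom with hX
  have hXp : IsPGroup 2 X := (c.S.2.to_le (by rintro _ ⟨q, -, rfl⟩; exact c.ι_mem q)).map _
  have hXC : ∀ {w w' : Mdl}, c.Img x w w' → (∀ q, q * v6 = v6 * q → q * u = u * q → q * w = w * q) →
      X ≤ centralizer ({c.ι w'} : Set G) := fun {w w'} hw hq => by
    rintro _ ⟨_, ⟨q, ⟨h1, h2⟩, rfl⟩, rfl⟩
    rw [hw]
    exact mem_centralizer_singleton_iff.2 ((c.ι_comm (hq q (mem_centralizer_singleton_iff.1 h1)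
      (mem_centralizer_singleton_iff.1 h2))).map (MulAut.conj x).toMonoidHom).eq
  obtain ⟨z, hz, rfl⟩ := Va_facts.2.1 v hv
  obtain ⟨z', hz', hzc⟩ : ∃ z', c.Img x z' z ∧ ∀ q, q * v6 = v6 * q → q * z' = z' * q := by
    rcases hz with rfl | rfl | rfl | rfl
    · exact ⟨1, Img.one, fun q _ => by simp⟩
    · exact ⟨t0, hxt, fun q _ => t0_central q⟩
    · exact ⟨v6, hx6, fun q h => h⟩
    · exact ⟨t0 * v6, hxt.mul hx6, fun q h => by rw [← mul_assoc, t0_central q, mul_assoc, h, ← mul_assoc]⟩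
  have h7 : c.Img x (u * z'⁻¹) v7 := by
    have := hi.mul hz'.inv
    rwa [mul_inv_cancel_right] at this
  have hcomm := vectors_comm hXp (hXC hxt fun q _ _ => t0_central q) (hXC hx6 fun q h _ => h)
    (hXC h7 fun q h1 h2 => ((show Commute q u from h2).mul_right
      (show Commute q z' from hzc q h1).inv_right).eq)
    (mem_map_of_mem _ (mem_map_of_mem c.ι ⟨mem_centralizer_singleton_iff.2 a6, mem_centralizer_singleton_iff.2 au⟩))
    (mem_map_of_mem _ (mem_map_of_mem c.ι ⟨mem_centralizer_singleton_iff.2 b6, mem_centralizer_singleton_iff.2 bu⟩))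
  rw [← map_mul, ← map_mul, ← map_mul, ← map_mul] at hcomm
  exact hab (c.ι_inj ((MulEquiv.injective (MulAut.conj x)) hcomm))

theorem M0_img {x : G} (hx : x ∈ c.M0) : c.Img x t0 t0 ∧ c.Img x v6 v6 ∧ c.Img x gc gc :=
  ⟨img_T_of_cent (W_le hx.1), img_of_comm hx.2, img_of_comm hx.1⟩

/-- The conjugates of an inner element of the local subgroup stay inner. -/
theorem inner_image {x : G} (hx : x ∈ c.M0) {a q : Mdl} (ha : a.d = (0, false)) (hv : Va (a * a) = true) (k : ℕ)
    (hqc : q * gc = gc * q) (hq6 : q * v6 = v6 * q) (hi : c.Img x (a ^ k) q) : q.d = (0, false) := by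
  obtain ⟨hxt, hx6, -⟩ := M0_img hx
  by_contra hd
  obtain ⟨hV, hne⟩ := Va_iff.1 hv
  have h4 : a * a * (a * a) = 1 := ((InV_iff _).1 hV).2
  have ha4 : a ^ 4 = 1 := by rw [← h4, ← pow_two, ← pow_two, ← pow_mul]
  have hk : a ^ k = a ^ (k % 4) := by
    conv_lhs => rw [← Nat.mod_add_div k 4, pow_add, pow_mul, ha4, one_pow, mul_one]
  rw [hk] at hi
  have hmod := Nat.mod_lt k (show 0 < 4 by norm_num)
  have two : c.Img x (a * a) q → False := fun h => by
    have hqq : q * q = 1 := h.sq h4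
    refine no_mix (x := x⁻¹) (img_T_of_cent (inv_mem (W_le hx.1))) (img_of_comm (inv_mem hx.2)) hqq hd hqc hq6 hv ?_
    show c.ι (a * a) = x⁻¹ * c.ι q * x⁻¹⁻¹
    rw [show c.ι q = x * c.ι (a * a) * x⁻¹ from h]
    group
  have odd : ∀ {b : Mdl}, c.Img x b q → b * b = a * a → False := fun {b} hb hb2 => by
    have hq4 : q * q * (q * q) = 1 := Img.eq ((hb.mul hb).mul (hb.mul hb)) Img.one (by rw [hb2]; exact h4)
    have hne1 := (hb.mul hb).ne_one (fun e => hne (Or.inl (hb2.symm.trans e)))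
    have hnet := Img.ne (hb.mul hb) hxt (fun e => hne (Or.inr (Or.inl (hb2.symm.trans e))))
    exact (outer_sq q hd hqc hq6 hq4).elim hne1 hnet
  interval_cases k % 4
  · rw [pow_zero] at hi
    exact hd (by rw [Img.unique hi Img.one]; rfl)
  · rw [pow_one] at hi
    exact odd hi rfl
  · rw [pow_two] at hi
    exact two hi
  · refine odd hi ?_
    rw [← pow_add, show a * a = a ^ 2 from (pow_two a).symm, show 3 + 3 = 4 + 2 from rfl, pow_add, ha4, one_mul]

/-- The conjugates of the outer involution stay outer. -/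
theorem outer_image_local {x : G} (hx : x ∈ c.M0) {q : Mdl} (hi : c.Img x i2 q) : q.d ≠ (0, false) := by
  obtain ⟨hxt, hx6, -⟩ := M0_img hx
  obtain ⟨-, -, -, -, hd, h2, hc, h6, -⟩ := local_witness
  intro hq
  obtain ⟨z, hz, hqz⟩ := Va_facts.2.2.1 q ((InV_iff q).2 ⟨hq, hi.sq h2⟩)
  by_cases hv : Va q = true
  · exact no_mix hxt hx6 h2 hd hc h6 hv hi
  rcases (Classical.not_not.1 fun h => hv (Va_iff.2 ⟨(InV_iff q).2 ⟨hq, hi.sq h2⟩, h⟩)) with e | e | e | e
  · exact hi.ne_one (by decide +kernel) e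
  · exact Img.ne hi hxt (by decide +kernel) e
  · exact Img.ne hi hx6 (by decide +kernel) e
  · exact Img.ne hi (hxt.mul hx6) (by decide +kernel) e

theorem M0_card_aux {X : Subgroup G} (hX : IsPGroup 2 X) (hXM : X ≤ c.M0) (h6X : c.ι v6 ∈ X) :
    Nat.card X ≤ 128 := by
  classical
  haveI : Fact (Nat.Prime 2) := ⟨Nat.prime_two⟩
  obtain ⟨k, hk, hkX⟩ := W_conj hX (hXM.trans inf_le_left)
  have hcardC : Nat.card ↥(centralizer ({gc} : Set Mdl)) = 256 := by
    rw [Nat.card_congr (Equiv.subtypeEquivRight fun q : Mdl => (mem_centralizer_singleton_iff : q ∈ centralizer ({gc} : Set Mdl) ↔ q * gc = gc * q)),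
      Nat.card_eq_fintype_card, Fintype.card_subtype]
    exact root_witness.2.2.2.2.2.2.2.2.2.2.2
  set Y : Subgroup Mdl := (X.map (MulAut.conj k).toMonoidHom).comap c.ι with hY
  have hYle : Y ≤ centralizer ({gc} : Set Mdl) := by
    rintro q ⟨x, hx, e⟩
    obtain ⟨q', hq', e'⟩ := hkX x hx
    rw [show q = q' from c.ι_inj (e.symm.trans e'.symm)]
    exact mem_centralizer_singleton_iff.2 hq'
  have hmap : Y.map c.ι = X.map (MulAut.conj k).toMonoidHom := map_comap_eq_self (by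
    rintro _ ⟨x, hx, rfl⟩
    obtain ⟨q, -, e⟩ := hkX x hx
    exact ⟨q, e⟩)
  have hcard : Nat.card Y = Nat.card X := by
    rw [← card_map_of_injective (K := Y) c.ι_inj, hmap, card_map_of_injective (MulEquiv.injective _)]
  by_contra hlt
  rw [not_le, ← hcard] at hlt
  have hY256 : Y = centralizer ({gc} : Set Mdl) := by
    refine Subgroup.eq_of_le_of_card_ge hYle ?_
    have hd := card_dvd_of_le hYle
    rw [hcardC] at hd ⊢
    rw [show (256 : ℕ) = 2 ^ 8 from rfl] at hd
    obtain ⟨j, hj, e⟩ := (Nat.dvd_prime_pow Nat.prime_two).1 hd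
    rw [e] at hlt ⊢
    interval_cases j <;> omega
  obtain ⟨w, -, ew⟩ := hkX _ h6X
  obtain ⟨-, -, -, -, -, -, -, -, -, -, -, -, h6, h61, h6t, -⟩ := local_witness
  have hwk : c.Img k v6 w := ew
  refine Img.ne hwk (img_T_of_cent (W_le hk)) h6t (centre_root (hwk.sq h6) (hwk.ne_one h61) fun q hq => ?_)
  have hqY : q ∈ Y := hY256 ▸ mem_centralizer_singleton_iff.2 hq
  obtain ⟨x, hx, e⟩ := hqY
  refine c.ι_inj ?_
  rw [map_mul, map_mul, ← e, ew]
  exact ((show Commute x (c.ι v6) from mem_centralizer_singleton_iff.1 (hXM hx).2).map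
    (MulAut.conj k).toMonoidHom).eq.symm

/-- A 2-subgroup of the local subgroup has at most 128 elements. -/
theorem M0_card {X : Subgroup G} (hX : IsPGroup 2 X) (hXM : X ≤ c.M0) : Nat.card X ≤ 128 := by
  obtain ⟨-, -, -, -, -, -, -, -, -, -, -, -, h6, h61, -⟩ := local_witness
  have hmem : c.ι v6 ∈ c.M0 := ι_mem_M0 root_witness.2.2.2.2.2.1.symm rfl
  have hZ : IsPGroup 2 (zpowers (c.ι v6)) :=
    IsPGroup.of_card (n := 1) (by rw [Nat.card_zpowers, c.order_ι h6 h61, pow_one])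
  have hn : zpowers (c.ι v6) ≤ normalizer (X : Set G) := zpowers_le.2
    (Cfsg.Lib.ZStarApps.mem_normalizer_of_maps fun x hx => by
      rw [← mem_centralizer_singleton_iff.1 (hXM hx).2, mul_inv_cancel_right]
      exact hx)
  exact (Subgroup.card_le_of_le le_sup_left).trans (M0_card_aux (hX.to_sup_of_normal_left' hZ hn)
    (sup_le hXM (zpowers_le.2 hmem)) (mem_sup_right (mem_zpowers _)))

end Typed

end Cfsg.Lib.HSType
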