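import Cfsg.Agent.HSType.CentQuot
import Cfsg.Agent.Transfer.Basic

/-!
# The normal elementary subgroup of the quotient of the centraliser of the root
-/

set_option autoImplicit false
set_option linter.unusedSectionVars false
set_option linter.style.haveILetI false
set_option maxRecDepth 100000
set_option maxHeartbeats 800000

namespace Cfsg.Lib.HSType

open Subgroup Mdl
open Cfsg.Lib.Walter (Oc)

universe u

theorem InR_root_mul : ∀ q : Mdl, InR q = true → InR (q * gc) = true ∧ InR (q * gc⁻¹) = true := by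
  intro q h
  exact ⟨((large_facts h).2.2.2 _ local_witness.2.2.2.2.2.2.2.2.2.2.2.1).1,
    ((large_facts h).2.2.2 _ (show InR gc⁻¹ = true by decide +kernel)).1⟩

theorem outer_witness : (let b : Mdl := ⟨(0, 0, 1), (3, true)⟩
    b * gc = gc * b ∧ b * b = 1 ∧ InR b = false) ∧ InR t0 = true ∧ InR (1 : Mdl) = true ∧
    InR gc⁻¹ = true ∧ v7 * v7 = 1 ∧ v67 * v67 = 1 ∧ v7 ≠ 1 ∧ v67 ≠ 1 ∧ v7 ≠ t0 ∧ v67 ≠ t0 ∧
    gc * gc⁻¹ = 1 := by decide +kernel

namespace Typed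

variable {G : Type u} [Group G] [Finite G] (c : Typed G)

/-- The elementary subgroup of the quotient. -/
def Rb : Subgroup c.K := Rm.map c.f

/-- The image of the first vector. -/
def x6 : c.K := c.f ⟨v6, mem_Cm.2 root_witness.2.2.2.2.2.1.symm⟩

variable {c}

theorem f_zpow_gc {x y : Cm} {i : ℤ} (h : (y : Mdl) = x * gc ^ i) : c.f y = c.f x := by
  rw [show y = x * (⟨gc, mem_Cm.2 rfl⟩ : Cm) ^ i from
    Subtype.ext (by rw [h, Subgroup.coe_mul, SubgroupClass.coe_zpow]), map_mul, map_zpow, f_gc, one_zpow, mul_one]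

theorem InR_zpow {q : Mdl} (h : InR q = true) (i : ℤ) : InR (q * gc ^ i) = true := by
  have hq : (⟨q, mem_Cm.2 (large_facts h).1⟩ : Cm) ∈ Rm := h
  have hg : (⟨gc, mem_Cm.2 rfl⟩ : Cm) ∈ Rm := local_witness.2.2.2.2.2.2.2.2.2.2.2.1
  have := mul_mem hq (zpow_mem hg i)
  show InR (q * gc ^ i) = true
  simpa [Rm] using this

/-- Every element of the elementary subgroup comes from an involution. -/
theorem Rb_rep {r : c.K} (hr : r ∈ c.Rb) (hr1 : r ≠ 1) : ∃ x : Cm, InR (x : Mdl) = true ∧ (x : Mdl) * x = 1 ∧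
    (x : Mdl) ≠ 1 ∧ (x : Mdl) ≠ t0 ∧ c.f x = r := by
  obtain ⟨q, hq, rfl⟩ := hr
  have key : ∀ x : Cm, InR (x : Mdl) = true → (x : Mdl) * x = 1 → c.f x = c.f q →
      ∃ x : Cm, InR (x : Mdl) = true ∧ (x : Mdl) * x = 1 ∧ (x : Mdl) ≠ 1 ∧ (x : Mdl) ≠ t0 ∧ c.f x = c.f q := by
    intro x hx hxx e
    refine ⟨x, hx, hxx, fun h => hr1 ?_, fun h => hr1 ?_, e⟩
    · rw [← e, show x = 1 from Subtype.ext h, map_one]
    · rw [← e, f_zpow_gc (x := (1 : Cm)) (y := x) (i := 2) (by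
        rw [h, zpow_two, root_witness.1]; exact (one_mul _).symm), map_one]
  rcases (large_facts (show InR (q : Mdl) = true from hq)).2.2.1 with e | e
  · exact key q hq e rfl
  · have hq' : InR (q : Mdl) = true := hq
    set gm : Cm := ⟨gc, mem_Cm.2 rfl⟩ with hgm
    have hval : ((q * gm : Cm) : Mdl) = (q : Mdl) * gc := rfl
    have hf1 : c.f gm = 1 := f_gc
    exact key (q * gm) (hval.symm ▸ (InR_root_mul _ hq').1) (by rw [hval]; exact e)
      (by rw [map_mul, hf1, mul_one])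

theorem Rb_comm : ∀ a ∈ c.Rb, ∀ b ∈ c.Rb, a * b = b * a := by
  rintro _ ⟨p, hp, rfl⟩ _ ⟨q, hq, rfl⟩
  rcases ((large_facts (show InR (p : Mdl) = true from hp)).2.2.2 _ hq).2 with e | e
  · rw [← map_mul, show p * q = q * p from Subtype.ext e, map_mul]
  · rw [← map_mul, ← map_mul]
    refine f_zpow_gc (x := q * p) (i := 2) ?_
    rw [zpow_two, root_witness.1]
    exact e

theorem Rb_sq : ∀ a ∈ c.Rb, a * a = 1 := by
  rintro _ ⟨p, hp, rfl⟩
  rw [← map_mul]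
  rcases (large_facts (show InR (p : Mdl) = true from hp)).2.1 with e | e
  · rw [show p * p = 1 from Subtype.ext e, map_one]
  · rw [f_zpow_gc (x := (1 : Cm)) (y := p * p) (i := 2) (by
      rw [zpow_two, root_witness.1]; exact e.trans (one_mul _).symm), map_one]

theorem Rb_card : Nat.card c.Rb = 16 := by
  classical
  have hk : c.f.ker = zpowers (⟨gc, mem_Cm.2 rfl⟩ : Cm) := by
    refine le_antisymm (fun q hq => ?_) (zpowers_le.2 f_gc)
    rcases f_ker (MonoidHom.mem_ker.1 hq) with e | e | e | e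
    · rw [show q = 1 from Subtype.ext e]; exact one_mem _
    · exact mem_zpowers_iff.2 ⟨1, Subtype.ext (by rw [e, zpow_one])⟩
    · exact mem_zpowers_iff.2 ⟨2, Subtype.ext (by rw [e, SubgroupClass.coe_zpow, zpow_two]; exact root_witness.1)⟩
    · exact mem_zpowers_iff.2 ⟨-1, Subtype.ext (by rw [e, SubgroupClass.coe_zpow, zpow_neg_one])⟩
  have h4 : Nat.card (zpowers (⟨gc, mem_Cm.2 rfl⟩ : Cm)) = 4 := by
    rw [Nat.card_zpowers, Subgroup.orderOf_mk]
    refine orderOf_eq_prime_pow (p := 2) (n := 1) ?_ ?_ <;> decide +kernel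
  have h64 : Nat.card Rm = 64 := by
    rw [← card_map_of_injective (K := Rm) Cm.subtype_injective,
      show Nat.card ↥(Rm.map Cm.subtype) = Nat.card {q : Mdl // InR q = true} from Nat.card_congr
        (Equiv.subtypeEquivRight fun q => ⟨fun ⟨p, hp, e⟩ => e ▸ hp,
          fun h => ⟨⟨q, mem_Cm.2 (large_facts h).1⟩, h, rfl⟩⟩), Nat.card_eq_fintype_card, Fintype.card_subtype]
    exact local_witness.2.2.2.2.2.2.2.2.2.2.2.2.2.2.2.2.2.2.2.2.2
  have h := relIndex_ker Rm c.f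
  rw [hk] at h
  have hle : zpowers (⟨gc, mem_Cm.2 rfl⟩ : Cm) ≤ Rm :=
    zpowers_le.2 local_witness.2.2.2.2.2.2.2.2.2.2.2.1
  have h2 := card_mul_index ((zpowers (⟨gc, mem_Cm.2 rfl⟩ : Cm)).subgroupOf Rm)
  rw [Nat.card_congr (subgroupOfEquivOfLe hle).toEquiv, h4, h64] at h2
  rw [show Nat.card c.Rb = Nat.card (Rm.map c.f) from rfl, ← h]
  rw [relIndex]
  omega

theorem f_sylow : ∃ P : Sylow 2 c.K, (P : Subgroup c.K) = c.f.range := by
  haveI : Fact (Nat.Prime 2) := ⟨Nat.prime_two⟩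
  obtain ⟨P, hP⟩ := embW_sylow (c := c)
  refine ⟨P.mapSurjective (ψ_surj (c := c)), ?_⟩
  rw [Sylow.coe_mapSurjective, hP, f, MonoidHom.range_comp]

theorem two_sylow_le {x : Cm} : c.f x ∈ c.f.range := ⟨x, rfl⟩

theorem Img_cent {o g : ↥c.W} {x y : Mdl} (h : c.Img ((o * g : ↥c.W) : G) x y) :
    c.Img ((o * g : ↥c.W) : G) t0 t0 := img_T_of_cent (W_le (o * g : ↥c.W).2)

theorem Rb_closed (hp : c.Pattern) (g : c.K) (x : c.K) (hx : x ∈ c.Rb) (hgx : g * x * g⁻¹ ∈ c.f.range) :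
    g * x * g⁻¹ ∈ c.Rb := by
  by_cases hx1 : x = 1
  · rw [hx1, mul_one, mul_inv_cancel]; exact one_mem _
  obtain ⟨a, ha, ha2, ha1, -, rfl⟩ := Rb_rep hx hx1
  obtain ⟨w, rfl⟩ := ψ_surj g
  obtain ⟨y, hy⟩ := hgx
  obtain ⟨o, -, i, hi⟩ := lift hy.symm
  refine ⟨y, ?_, hy⟩
  have hR := inR_closed hp (Img_cent hi) ha2 ha1 ha hi
  have := InR_zpow hR (-i)
  rwa [mul_assoc, ← zpow_add, add_neg_cancel, zpow_zero, mul_one] at this

/-- The fusion onto the first vector inside the centraliser of the root. -/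
theorem W_six (hp : c.Pattern) {x : Cm} (hR : InR (x : Mdl) = true) (h2 : (x : Mdl) * x = 1)
    (h1 : (x : Mdl) ≠ 1) (ht : (x : Mdl) ≠ t0) : ∃ m : ↥c.W, c.Img (m : G) x v6 := by
  obtain ⟨g, gt, gx⟩ := cc_of_inR hp h2 h1 ht hR
  obtain ⟨o, ho, hn⟩ := root_decomp hp (cent_of_img_T gt)
  obtain ⟨hoC, hoq⟩ := Cfsg.Lib.Walter.mem_Oc.1 ho
  set n := o⁻¹ * g with hn'
  set C0 := centralizer ({c.T} : Set G)
  have hnC : n ∈ C0 := mul_mem (inv_mem hoC) (cent_of_img_T gt)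
  -- the conjugate commutes with the root
  have hxc : Commute (c.ι (x : Mdl)) (c.ι gc) := c.ι_comm (mem_Cm.1 x.2)
  have hyW : n * c.ι (x : Mdl) * n⁻¹ ∈ c.W := by
    rw [mem_W]
    have h := (hxc.map (MulAut.conj n).toMonoidHom)
    rcases hn with e | e
    · rw [← e]; exact h.eq
    · have h' := h.inv_right
      rw [← inv_inv (c.ι gc), ← map_inv c.ι, ← e]
      exact h'.eq
  have h6W : c.ι v6 ∈ c.W := ι_mem_W root_witness.2.2.2.2.2.1.symm
  set O0 := (Cfsg.pPrimeCore 2 ↥C0).map C0.subtype with hO0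
  haveI hNn : (O0.subgroupOf c.W).Normal := ⟨fun u hu w => by
    obtain ⟨y, hy, e⟩ := mem_subgroupOf.1 hu
    exact ⟨⟨w, W_le w.2⟩ * y * ⟨w, W_le w.2⟩⁻¹, Normal.conj_mem inferInstance y hy _, by
      show (w : G) * y * (w : G)⁻¹ = w * u * (w : G)⁻¹
      rw [show (y : G) = u from e]⟩⟩
  have hNodd : Odd (Nat.card ↥(O0.subgroupOf c.W)) :=
    (Cfsg.Lib.ZStarApps.odd_card_pPrimeCore (G := ↥C0)).of_dvd_nat (by
      rw [← card_map_of_injective (K := O0.subgroupOf c.W) c.W.subtype_injective, subgroupOf_map_subtype,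
        ← card_map_of_injective (K := Cfsg.pPrimeCore 2 ↥C0) C0.subtype_injective]
      exact card_dvd_of_le inf_le_left)
  have hz : ∀ {q : Mdl}, q * q = 1 → c.ι q ^ 2 ^ 1 = 1 := fun {q} h => by
    rw [pow_one, pow_two, ← map_mul, h, map_one]
  obtain ⟨o', -, ho'⟩ := conj_of_cong (N := O0.subgroupOf c.W) hNodd
    (a := (⟨_, hyW⟩ : ↥c.W)) (b := ⟨c.ι v6, h6W⟩) (i := 1) (j := 1)
    (Subtype.ext (by
      show (n * c.ι (x : Mdl) * n⁻¹) ^ 2 ^ 1 = 1
      rw [← MulAut.conj_apply, ← map_pow, hz h2, map_one]))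
    (Subtype.ext (hz local_witness.2.2.2.2.2.2.2.2.2.2.2.2.1))
    (mem_subgroupOf.2 (by
      show n * c.ι (x : Mdl) * n⁻¹ * (c.ι v6)⁻¹ ∈ O0
      rw [show c.ι v6 = g * c.ι (x : Mdl) * g⁻¹ from gx, hn']
      have h6 : g * c.ι (x : Mdl) * g⁻¹ ∈ C0 := W_le ((show c.ι v6 = _ from gx) ▸ h6W)
      have hon : ∀ z ∈ C0, z * o * z⁻¹ ∈ O0 := fun z hz => by
        obtain ⟨y, hy, e⟩ := ho
        exact ⟨⟨z, hz⟩ * y * ⟨z, hz⟩⁻¹, Normal.conj_mem inferInstance y hy _, by rw [← e]; rfl⟩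
      rw [show o⁻¹ * g * c.ι (x : Mdl) * (o⁻¹ * g)⁻¹ * (g * c.ι (x : Mdl) * g⁻¹)⁻¹ =
        o⁻¹ * ((g * c.ι (x : Mdl) * g⁻¹) * o * (g * c.ι (x : Mdl) * g⁻¹)⁻¹) by group]
      exact mul_mem (inv_mem ho) (hon _ h6)))
  have e' : (o' : G) * (n * c.ι (x : Mdl) * n⁻¹) * (o' : G)⁻¹ = c.ι v6 :=
    congrArg (fun y : ↥c.W => (y : G)) ho'
  have hm : (o' : G) * n * c.ι (x : Mdl) * ((o' : G) * n)⁻¹ = c.ι v6 := by
    rw [← e']
    show _ = (o' : G) * (n * c.ι (x : Mdl) * n⁻¹) * (o' : G)⁻¹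
    group
  have ho'c : (o' : G) * c.ι gc * (o' : G)⁻¹ = c.ι gc := mul_inv_eq_iff_eq_mul.2 (mem_W.1 o'.2)
  rcases hn with e | e
  · refine ⟨⟨(o' : G) * n, mul_mem o'.2 (mem_W.2 (mul_inv_eq_iff_eq_mul.1 e))⟩, hm.symm⟩
  · obtain ⟨-, -, hs6, hsc, -⟩ := local_witness
    have hmem : c.ι gs * ((o' : G) * n) ∈ c.W := by
      rw [mem_W, ← mul_inv_eq_iff_eq_mul]
      calc c.ι gs * ((o' : G) * n) * c.ι gc * (c.ι gs * ((o' : G) * n))⁻¹
          = c.ι gs * ((o' : G) * (n * c.ι gc * n⁻¹) * (o' : G)⁻¹) * (c.ι gs)⁻¹ := by group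
        _ = c.ι gc := by
          rw [e, map_inv c.ι gc, ← conj_inv, ho'c, ← conj_inv, ← map_inv c.ι gs, ← map_mul, ← map_mul, hsc,
            map_inv, inv_inv]
    refine ⟨⟨_, hmem⟩, ?_⟩
    show c.ι v6 = c.ι gs * ((o' : G) * n) * c.ι (x : Mdl) * (c.ι gs * ((o' : G) * n))⁻¹
    calc c.ι v6 = c.ι gs * c.ι v6 * (c.ι gs)⁻¹ := by rw [← map_mul, hs6, map_mul, mul_inv_cancel_right]
      _ = _ := by rw [← hm]; group

theorem x6_mem : c.x6 ∈ c.Rb := ⟨_, local_witness.2.2.2.2.2.2.2.2.1, rfl⟩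

theorem to_x6 (hp : c.Pattern) {r : c.K} (hr : r ∈ c.Rb) (hr1 : r ≠ 1) : ∃ k : c.K, k * r * k⁻¹ = c.x6 := by
  obtain ⟨x, hR, h2, h1, ht, rfl⟩ := Rb_rep hr hr1
  obtain ⟨m, hm⟩ := W_six hp hR h2 h1 ht
  refine ⟨c.ψ m, ?_⟩
  show c.ψ m * c.ψ (c.embW x) * (c.ψ m)⁻¹ = c.ψ (c.embW _)
  rw [← map_inv, ← map_mul, ← map_mul]
  exact congrArg c.ψ (Subtype.ext hm.symm)

theorem x6_ne : c.x6 ≠ 1 := fun h => by
  rcases f_ker h with e | e | e | e <;> exact absurd e (by decide +kernel)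

/-- The centraliser of the image of the first vector has a normal 2-complement. -/
theorem x6_complement : Cfsg.HasNormalPComplement 2 ↥(centralizer ({c.x6} : Set c.K)) := by
  haveI : Fact (Nat.Prime 2) := ⟨Nat.prime_two⟩
  set C := centralizer ({c.x6} : Set c.K) with hC
  set O6 := Cfsg.Lib.AltEightType.core c.M0 with hO6
  have hO6W : O6 ≤ c.W := (Cfsg.Lib.AltEightType.core_le _).trans inf_le_left
  set Nb := (O6.subgroupOf c.W).map c.ψ with hNb
  have hNC : Nb ≤ C := by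
    rintro _ ⟨w, hw, rfl⟩
    refine mem_centralizer_singleton_iff.2 ?_
    show c.ψ w * c.ψ (c.embW _) = c.ψ (c.embW _) * c.ψ w
    rw [← map_mul, ← map_mul]
    exact congrArg c.ψ (Subtype.ext
      (mem_centralizer_singleton_iff.1 (Cfsg.Lib.AltEightType.core_le _ (mem_subgroupOf.1 hw)).2))
  -- the representatives
  have hrep : ∀ k ∈ C, ∃ w : ↥c.W, c.ψ w = k ∧ (c.Img (w : G) v6 v6 ∨ c.Img (w : G) v6 (v6 * t0)) := by
    intro k hk
    obtain ⟨w, rfl⟩ := ψ_surj k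
    obtain ⟨o, ho, i, hi⟩ := lift (g := w) (x := ⟨v6, mem_Cm.2 root_witness.2.2.2.2.2.1.symm⟩)
      (y := ⟨v6, mem_Cm.2 root_witness.2.2.2.2.2.1.symm⟩) (mul_inv_eq_iff_eq_mul.2 (mem_centralizer_singleton_iff.1 hk))
    refine ⟨o * w, by rw [map_mul, ψ_core ho, one_mul], ?_⟩
    have hsq := Img.sq hi local_witness.2.2.2.2.2.2.2.2.2.2.2.2.1
    have h4 : gc ^ (4 : ℕ) = 1 := by decide +kernel
    rw [zpow_eq_zpow_emod' i h4] at hi hsq
    obtain ⟨n, hn⟩ := Int.eq_ofNat_of_zero_le (Int.emod_nonneg i (show ((4 : ℕ) : ℤ) ≠ 0 by norm_num))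
    have hn4 : n < 4 := by
      have := Int.emod_lt_of_pos i (show (0 : ℤ) < ((4 : ℕ) : ℤ) by norm_num)
      omega
    rw [hn, zpow_natCast] at hi hsq
    change c.Img _ v6 (v6 * gc ^ n) at hi
    interval_cases n
    · left; simpa using hi
    · exact absurd hsq (by decide +kernel)
    · right; rwa [show gc ^ 2 = t0 by decide +kernel] at hi
    · exact absurd hsq (by decide +kernel)
  have hM0 : ∀ w : ↥c.W, c.Img (w : G) v6 v6 → (w : G) ∈ c.M0 := fun w h =>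
    ⟨w.2, mem_centralizer_singleton_iff.2 (mul_inv_eq_iff_eq_mul.1 h.symm)⟩
  have hnorm : ∀ w : ↥c.W, (c.Img (w : G) v6 v6 ∨ c.Img (w : G) v6 (v6 * t0)) →
      ∀ y ∈ c.M0, (w : G) * y * (w : G)⁻¹ ∈ c.M0 := by
    intro w hw y hy
    refine mem_inf.2 ⟨mul_mem (mul_mem w.2 hy.1) (inv_mem w.2), ?_⟩
    have hy6 : Commute y (c.ι v6) := mem_centralizer_singleton_iff.1 hy.2
    have hyt : Commute y (c.ι t0) := mem_centralizer_singleton_iff.1 (W_le hy.1)
    rcases hw with h | h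
    · rw [mem_centralizer_singleton_iff, h]
      exact (hy6.map (MulAut.conj (w : G)).toMonoidHom).eq
    · have hwt := img_T_of_cent (W_le w.2)
      rw [mem_centralizer_singleton_iff, show c.ι v6 = c.ι (v6 * t0) * (c.ι t0)⁻¹ by
        rw [map_mul, mul_inv_cancel_right], h, show c.ι t0 = (w : G) * c.ι t0 * (w : G)⁻¹ from hwt]
      exact ((hy6.map (MulAut.conj (w : G)).toMonoidHom).mul_right
        (hyt.map (MulAut.conj (w : G)).toMonoidHom).inv_right).eq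
  set N' := Nb.subgroupOf C with hN'
  haveI : N'.Normal := ⟨fun u hu k => by
    obtain ⟨w, hw, e⟩ := mem_subgroupOf.1 hu
    obtain ⟨m, hm, hm'⟩ := hrep k k.2
    refine ⟨m * w * m⁻¹, ?_, ?_⟩
    · show (m : G) * w * (m : G)⁻¹ ∈ O6
      refine Cfsg.Lib.AltEightType.le_core (U := O6.map (MulAut.conj (m : G)).toMonoidHom) ?_ ?_ ?_
        ⟨w, hw, rfl⟩
      · rintro _ ⟨v, hv, rfl⟩
        exact hnorm m hm' v (Cfsg.Lib.AltEightType.core_le _ hv)
      · rintro y hy _ ⟨v, hv, rfl⟩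
        have hy' : (m : G)⁻¹ * y * m ∈ c.M0 := by
          refine mem_inf.2 ⟨mul_mem (mul_mem (inv_mem m.2) hy.1) m.2, mem_centralizer_singleton_iff.2 ?_⟩
          have h6 : Commute y (c.ι v6) := mem_centralizer_singleton_iff.1 hy.2
          have hyt : Commute y (c.ι t0) := mem_centralizer_singleton_iff.1 (W_le hy.1)
          have hc : Commute y ((m : G) * c.ι v6 * (m : G)⁻¹) := by
            rcases hm' with h | h
            · rw [← (show c.ι v6 = _ from h)]; exact h6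
            · rw [← (show c.ι (v6 * t0) = _ from h), map_mul]; exact h6.mul_right hyt
          have := hc.map (MulAut.conj ((m : G)⁻¹)).toMonoidHom
          simp only [MulEquiv.coe_toMonoidHom, MulAut.conj_apply, inv_inv] at this
          rw [show (m : G)⁻¹ * ((m : G) * c.ι v6 * (m : G)⁻¹) * m = c.ι v6 by group] at this
          exact this.eq
        refine ⟨(m : G)⁻¹ * y * m * v * ((m : G)⁻¹ * y * m)⁻¹, (mem_normalizer_iff.1
          (Cfsg.Lib.AltEightType.core_normalized hy') v).1 hv, ?_⟩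
        show (m : G) * ((m : G)⁻¹ * y * m * v * ((m : G)⁻¹ * y * m)⁻¹) * (m : G)⁻¹ = y * (m * v * (m : G)⁻¹) * y⁻¹
        group
      · rw [card_map_of_injective (MulEquiv.injective _)]
        exact Cfsg.Lib.AltEightType.odd_core _
    · rw [map_mul, map_mul, map_inv, e, hm]; rfl⟩
  have hNodd : Odd (Nat.card N') := by
    rw [hN', Nat.card_congr (subgroupOfEquivOfLe hNC).toEquiv, hNb]
    refine Odd.of_dvd_nat ?_ (card_map_dvd _ _)
    rw [Nat.card_congr (subgroupOfEquivOfLe hO6W).toEquiv]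
    exact Cfsg.Lib.AltEightType.odd_core _
  have h2 : IsPGroup 2 (↥C ⧸ N') := by
    intro q
    obtain ⟨k, rfl⟩ := QuotientGroup.mk'_surjective N' q
    refine ⟨8, ?_⟩
    rw [← map_pow, QuotientGroup.mk'_apply, QuotientGroup.eq_one_iff]
    obtain ⟨w, hw, hw'⟩ := hrep k k.2
    have hww : ((w * w : ↥c.W) : G) ∈ c.M0 := by
      refine hM0 _ ?_
      rcases hw' with h | h
      · exact h.comp h
      · have h' := h.comp (h.mul (img_T_of_cent (W_le w.2)))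
        rwa [mul_assoc, t0_facts.1, mul_one] at h'
    refine mem_subgroupOf.2 ⟨(w * w) ^ 128, ?_, ?_⟩
    · exact mem_subgroupOf.2 (M0_complement _ hww)
    · rw [map_pow, map_mul, hw, SubgroupClass.coe_pow, ← pow_two, ← pow_mul]; rfl
  obtain ⟨n, hn⟩ := IsPGroup.iff_card.1 h2
  exact Cfsg.Lib.Transfer.hasNormalPComplement_iff.2
    ⟨N', inferInstance, Nat.coprime_two_right.2 hNodd, n, (index_eq_card N').trans hn⟩

theorem nc_conj {k x : c.K} (h : Cfsg.HasNormalPComplement 2 ↥(centralizer ({k * x * k⁻¹} : Set c.K))) :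
    Cfsg.HasNormalPComplement 2 ↥(centralizer ({x} : Set c.K)) := by
  have hmap : (centralizer ({x} : Set c.K)).map (MulAut.conj k).toMonoidHom =
      centralizer ({k * x * k⁻¹} : Set c.K) := by
    refine le_antisymm ?_ fun y hy => ⟨k⁻¹ * y * k, mem_centralizer_singleton_iff.2 ?_, ?_⟩
    · rintro _ ⟨y, hy, rfl⟩
      exact mem_centralizer_singleton_iff.2
        ((show Commute y x from mem_centralizer_singleton_iff.1 hy).map (MulAut.conj k).toMonoidHom).eq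
    · calc k⁻¹ * y * k * x = k⁻¹ * (y * (k * x * k⁻¹)) * k := by group
        _ = k⁻¹ * (k * x * k⁻¹ * y) * k := by rw [mem_centralizer_singleton_iff.1 hy]
        _ = _ := by group
    · show k * (k⁻¹ * y * k) * k⁻¹ = y
      group
  haveI : Fact (Nat.Prime 2) := ⟨Nat.prime_two⟩
  exact (Cfsg.Lib.Transfer.hasNormalPComplement_congr
    ((equivMapOfInjective _ _ (MulEquiv.injective (MulAut.conj k))).trans (MulEquiv.subgroupCongr hmap))).2 h

/-- A separated pair is not fused under the centraliser. -/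
theorem no_swap {w : ↥c.W} {q A1 A2 : Cm} (h0 : c.ψ w * c.f q * (c.ψ w)⁻¹ = c.f q)
    (h1 : c.ψ w * c.f A1 * (c.ψ w)⁻¹ = c.f A2) (hqa : (q : Mdl) * A1 = A1 * q)
    (hqa' : (q : Mdl) * A2 = A2 * q * t0) : False := by
  haveI : Fact (Nat.Prime 2) := ⟨Nat.prime_two⟩
  set π := QuotientGroup.mk' (Cfsg.pPrimeCore 2 ↥c.W)
  have hcen : ∀ (i : ℤ) (v : ↥c.W), π (c.γW ^ i) * π v = π v * π (c.γW ^ i) := fun i v => by
    rw [← map_mul, ← map_mul, ((show Commute c.γW v from Subtype.ext (mem_W.1 v.2).symm).zpow_left i).eq]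
  have get : ∀ {x y : Cm}, c.ψ w * c.f x * (c.ψ w)⁻¹ = c.f y →
      ∃ i : ℤ, π (w * c.embW x * w⁻¹) = π (c.embW y) * π (c.γW ^ i) := by
    intro x y h
    have h' : c.ψ ((c.embW y)⁻¹ * (w * c.embW x * w⁻¹)) = 1 := by
      rw [map_mul, map_mul, map_mul, map_inv, map_inv]
      exact inv_mul_eq_one.2 h.symm
    obtain ⟨i, o, ho, e⟩ := ψ_eq_one h'
    refine ⟨i, ?_⟩
    rw [← map_mul, show w * c.embW x * w⁻¹ = c.embW y * (c.γW ^ i * o) by rw [← e, mul_inv_cancel_left],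
      map_mul, map_mul, show π o = 1 from (QuotientGroup.eq_one_iff o).2 ho, mul_one, ← map_mul]
  obtain ⟨i, hi⟩ := get h0
  obtain ⟨j, hj⟩ := get h1
  have hc : Commute (π (w * c.embW q * w⁻¹)) (π (w * c.embW A1 * w⁻¹)) :=
    ((show Commute q A1 from Subtype.ext hqa).map c.embW).map
      ((π.comp (MulAut.conj w).toMonoidHom))
  rw [hi, hj] at hc
  have hz : ∀ (k : ℤ) (v : ↥c.W ⧸ Cfsg.pPrimeCore 2 ↥c.W), Commute v (π (c.γW ^ k)) := fun k v => by
    obtain ⟨v, rfl⟩ := QuotientGroup.mk'_surjective _ v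
    exact (hcen k v).symm
  have hc2 : Commute (π (c.embW q)) (π (c.embW A2)) := by
    have := (hc.mul_left (hz i _).symm.inv_left).mul_right (hz j _).inv_right
    rwa [mul_inv_cancel_right, mul_inv_cancel_right] at this
  have ht : (⟨t0, mem_Cm.2 (t0_central gc).symm⟩ : Cm) = (A2 * q)⁻¹ * (q * A2) := Subtype.ext (by
    rw [Subgroup.coe_mul, Subgroup.coe_inv, Subgroup.coe_mul, Subgroup.coe_mul, hqa']
    group)
  have hmem : c.embW ⟨t0, mem_Cm.2 (t0_central gc).symm⟩ ∈ Cfsg.pPrimeCore 2 ↥c.W := by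
    refine (QuotientGroup.eq_one_iff _).1 ?_
    show π _ = 1
    rw [ht, map_mul, map_mul, map_inv, map_inv, map_mul, map_mul, map_mul, map_mul, hc2.eq, inv_mul_cancel]
  have h1 : c.embW ⟨t0, mem_Cm.2 (t0_central gc).symm⟩ = 1 :=
    orderOf_eq_one_iff.1 (Nat.eq_one_of_dvd_coprimes
      ((Nat.coprime_two_left.2 Cfsg.Lib.ZStarApps.odd_card_pPrimeCore).pow_left 8)
      (orderOf_dvd_of_pow_eq_one (two_pow _)) (Subgroup.orderOf_dvd_natCard _ hmem))
  exact t0_facts.2 (congrArg Subtype.val (c.embW_inj (h1.trans (map_one c.embW).symm)))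

/-- **The normal subgroup.** -/
theorem Rb_normal (hp : c.Pattern) :
    c.Rb.Normal ∧ ∀ x ∈ c.Rb, x ≠ 1 → IsPGroup 2 ↥(centralizer ({x} : Set c.K)) := by
  obtain ⟨P, hP⟩ := f_sylow (c := c)
  have hRP : c.Rb ≤ (P : Subgroup c.K) := hP ▸ (by rintro _ ⟨q, -, rfl⟩; exact ⟨q, rfl⟩)
  refine normal_of_closed P c.Rb hRP Rb_comm Rb_sq Rb_card (fun g x hx h => Rb_closed hp g x hx (hP ▸ h)) ?_
    (fun x hx hx1 => ?_) ?_ ?_ fun N hN ho => @K_core G _ _ c N hN ho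
  · intro x hx y hy hx1 hy1
    obtain ⟨k, hk⟩ := to_x6 hp hx hx1
    obtain ⟨l, hl⟩ := to_x6 hp hy hy1
    exact (isConj_iff.2 ⟨k, hk⟩).trans (isConj_iff.2 ⟨l, hl⟩).symm
  · obtain ⟨k, hk⟩ := to_x6 hp hx hx1
    exact nc_conj (hk.symm ▸ x6_complement)
  · obtain ⟨⟨hbc, hb2, hbR⟩, -⟩ := outer_witness
    refine ⟨c.f ⟨_, mem_Cm.2 hbc⟩, hP ▸ ⟨_, rfl⟩, by rw [← map_mul, show (⟨_, mem_Cm.2 hbc⟩ : Cm) * ⟨_, mem_Cm.2 hbc⟩ = 1 from
      Subtype.ext hb2, map_one], ?_⟩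
    rintro ⟨q, hq, e⟩
    have hk : c.f (q⁻¹ * ⟨_, mem_Cm.2 hbc⟩) = 1 := by rw [map_mul, map_inv, e, inv_mul_cancel]
    have hmem : q⁻¹ * ⟨_, mem_Cm.2 hbc⟩ ∈ Rm := by
      obtain ⟨-, hRt, hR1, hRi, -⟩ := outer_witness
      rcases f_ker hk with e' | e' | e' | e' <;>
        show InR ((q⁻¹ * (⟨_, mem_Cm.2 hbc⟩ : Cm) : Cm) : Mdl) = true <;> rw [e']
      exacts [hR1, local_witness.2.2.2.2.2.2.2.2.2.2.2.1, hRt, hRi]
    have := mul_mem hq hmem
    rw [mul_inv_cancel_left] at this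
    exact Bool.false_ne_true (hbR.symm.trans this)
  · intro b hb hb2 hbR
    obtain ⟨q, rfl⟩ := (hP ▸ hb : b ∈ c.f.range)
    have hqR : InR (q : Mdl) ≠ true := fun h => hbR ⟨q, h, rfl⟩
    rw [← map_mul] at hb2
    obtain ⟨a, a', ha, ha', hqa, hqa'⟩ := pair_root (mem_Cm.1 q.2)
      (by rcases f_ker hb2 with e | e | e | e
          exacts [Or.inl e, Or.inr (Or.inr (Or.inl e)), Or.inr (Or.inl e), Or.inr (Or.inr (Or.inr e))]) hqR
    obtain ⟨-, -, -, -, h72, h672, h71, h671, h7t, h67t, -⟩ := outer_witness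
    obtain ⟨-, -, -, -, -, -, -, -, hR6, hR7, hR67, -, h62, h61, h6t, -⟩ := local_witness
    have hf : ∀ {a : Mdl}, (a = v6 ∨ a = v7 ∨ a = v67) → InR a = true ∧ a * a = 1 ∧ a ≠ 1 ∧ a ≠ t0 := by
      rintro _ (rfl | rfl | rfl)
      exacts [⟨hR6, h62, h61, h6t⟩, ⟨hR7, h72, h71, h7t⟩, ⟨hR67, h672, h671, h67t⟩]
    obtain ⟨hRa, ha2, ha1, hat⟩ := hf ha
    obtain ⟨hRa', ha'2, ha'1, ha't⟩ := hf ha'
    set A1 : Cm := ⟨a, mem_Cm.2 (large_facts hRa).1⟩
    set A2 : Cm := ⟨a', mem_Cm.2 (large_facts hRa').1⟩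
    have hne : ∀ {x : Cm}, (x : Mdl) * x = 1 → (x : Mdl) ≠ 1 → (x : Mdl) ≠ t0 → c.f x ≠ 1 := fun {x} h2 h1 ht h => by
      rcases f_ker h with e | e | e | e
      · exact h1 e
      · rw [e] at h2; exact absurd h2 (by decide +kernel)
      · exact ht e
      · rw [e] at h2; exact absurd h2 (by decide +kernel)
    refine ⟨c.f A1, ⟨A1, hRa, rfl⟩, c.f A2, ⟨A2, hRa', rfl⟩, hne ha2 ha1 hat, hne ha'2 ha'1 ha't, ?_, ?_, ?_⟩
    · show c.f q * c.f A1 = c.f A1 * c.f q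
      rw [← map_mul, ← map_mul, show q * A1 = A1 * q from Subtype.ext hqa]
    · show c.f q * c.f A2 = c.f A2 * c.f q
      rw [← map_mul, ← map_mul]
      refine f_zpow_gc (x := A2 * q) (i := 2) ?_
      rw [zpow_two, root_witness.1]
      exact hqa'
    intro g hgq hgf
    obtain ⟨w, rfl⟩ := ψ_surj g
    exact no_swap (w := w) (q := q) (A1 := A1) (A2 := A2) (mul_inv_eq_iff_eq_mul.2 hgq.eq) hgf hqa hqa'

end Typed

end Cfsg.Lib.HSType
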