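import Cfsg.Agent.HSType.RootFacts

/-!
# Facts of the model used in the centraliser of the distinguished root
-/

set_option autoImplicit false
set_option maxRecDepth 100000

namespace Cfsg.Lib.HSType

open Mdl

/-- An element exchanging the first vector with its product by the centre. -/
def sw : Mdl := ⟨0, (1, true)⟩

/-- The third vector of the second class. -/
def v67 : Mdl := v6 * v7

theorem local_witness :
    sw * gc = gc * sw ∧ sw * v6 * sw⁻¹ = v6 * t0 ∧ gs * v6 = v6 * gs ∧ gs * gc * gs⁻¹ = gc⁻¹ ∧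
    i2.d ≠ (0, false) ∧ i2 * i2 = 1 ∧ i2 * gc = gc * i2 ∧ i2 * v6 = v6 * i2 ∧ InR v6 = true ∧ InR v7 = true ∧
    InR v67 = true ∧ InR gc = true ∧ v6 * v6 = 1 ∧ v6 ≠ 1 ∧ v6 ≠ t0 ∧ v6 * t0 ≠ 1 ∧ ga * ga = v7 ∧
    gc * gc * (gc * gc) = 1 ∧ gc ≠ 1 ∧ gc * gc ≠ 1 ∧
    (Finset.univ.filter fun q : Mdl => q * gc = gc * q ∧ q * v6 = v6 * q).card = 128 ∧
    (Finset.univ.filter fun q : Mdl => InR q = true).card = 64 := by decide +kernel

theorem centre_check : (invN.all fun w => Nat.beq w (code t0) ||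
    !(centC.all fun q => Nat.beq (mulN w q) (mulN q w))) = true := by decide +kernel

/-- The centraliser of the root has a centre with one involution. -/
theorem centre_root {w : Mdl} (hw : w * w = 1) (hw1 : w ≠ 1) (h : ∀ q, q * gc = gc * q → w * q = q * w) :
    w = t0 := by
  have h' := List.all_eq_true.1 centre_check _ (mem_invN hw hw1)
  simp only [Bool.or_eq_true, Bool.not_eq_true', ← Bool.not_eq_true, List.all_eq_true, Nat.beq_eq, code_inj] at h'
  rcases h' with h' | h'
  · exact h'
  refine absurd (fun a ha => ?_) h'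
  rw [centC, List.mem_filter, List.mem_range, Nat.beq_eq] at ha
  obtain ⟨ha, hc⟩ := ha
  rw [← code_dec a ha] at hc ⊢
  rw [← code_mul, ← code_mul, code_inj] at hc ⊢
  exact h _ hc

/-- The codes of the large subgroup. -/
def largeN : List ℕ := (List.range 512).filter fun q => InR (dec q)

theorem large_check : (largeN.all fun p => Nat.beq (mulN p (code gc)) (mulN (code gc) p) &&
    inN (mulN p p) [0, code t0] &&
    (Nat.beq (mulN p p) 0 || Nat.beq (mulN (mulN p (code gc)) (mulN p (code gc))) 0) &&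
    largeN.all fun q => InR (dec (mulN p q)) &&
      (Nat.beq (mulN p q) (mulN q p) || Nat.beq (mulN p q) (mulN (mulN q p) (code t0)))) = true := by decide +kernel

theorem mem_largeN {q : Mdl} (h : InR q = true) : code q ∈ largeN := by
  rw [largeN, List.mem_filter, List.mem_range, dec_code]
  exact ⟨code_lt q, h⟩

/-- **The large subgroup.** -/
theorem large_facts {p : Mdl} (hp : InR p = true) :
    p * gc = gc * p ∧ (p * p = 1 ∨ p * p = t0) ∧ (p * p = 1 ∨ p * gc * (p * gc) = 1) ∧
    ∀ q, InR q = true → InR (p * q) = true ∧ (p * q = q * p ∨ p * q = q * p * t0) := by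
  have h := List.all_eq_true.1 large_check _ (mem_largeN hp)
  simp only [← code_mul, ← code_one, Bool.and_eq_true, Bool.or_eq_true, inN_iff, List.mem_cons, List.not_mem_nil,
    or_false, Nat.beq_eq, code_inj] at h
  obtain ⟨⟨⟨h1, h2⟩, h3⟩, h4⟩ := h
  refine ⟨h1, h2, h3, fun q hq => ?_⟩
  have h' := List.all_eq_true.1 h4 _ (mem_largeN hq)
  simp only [← code_mul, Bool.and_eq_true, Bool.or_eq_true, Nat.beq_eq, code_inj, dec_code] at h'
  exact h'

theorem pair_check : (centC.all fun q => !inN (mulN q q) [0, code t0, code gc, code gc⁻¹] || InR (dec q) ||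
    [code v6, code v7, code v67].any fun a => Nat.beq (mulN q a) (mulN a q) &&
      [code v6, code v7, code v67].any fun b => Nat.beq (mulN q b) (mulN (mulN b q) (code t0))) = true := by
  decide +kernel

/-- An involution modulo the root outside the large subgroup separates two classes. -/
theorem pair_root {q : Mdl} (hc : q * gc = gc * q) (hq : q * q = 1 ∨ q * q = t0 ∨ q * q = gc ∨ q * q = gc⁻¹)
    (hR : InR q ≠ true) : ∃ a b : Mdl, (a = v6 ∨ a = v7 ∨ a = v67) ∧ (b = v6 ∨ b = v7 ∨ b = v67) ∧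
      q * a = a * q ∧ q * b = b * q * t0 := by
  have hm : code q ∈ centC := by
    rw [centC, List.mem_filter, List.mem_range, ← code_mul, ← code_mul, Nat.beq_eq, code_inj]
    exact ⟨code_lt q, hc⟩
  have h := List.all_eq_true.1 pair_check _ hm
  simp only [← code_mul, ← code_one, Bool.or_eq_true, Bool.and_eq_true, Bool.not_eq_true', ← Bool.not_eq_true,
    inN_iff, List.any_eq_true, List.mem_cons, List.not_mem_nil, or_false, Nat.beq_eq, code_inj, dec_code] at h
  rcases h with (h | h) | ⟨a, ha, ea, b, hb, eb⟩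
  · exact absurd hq h
  · exact absurd h hR
  rcases ha with rfl | rfl | rfl <;> rcases hb with rfl | rfl | rfl <;>
    simp only [← code_mul, code_inj] at ea eb <;> exact ⟨_, _, by tauto, by tauto, ea, eb⟩

theorem outer_six_check : (invN.all fun u => Nat.blt u 64 ||
    !(Nat.beq (mulN u (code gc)) (mulN (code gc) u) && Nat.beq (mulN u (code v6)) (mulN (code v6) u)) ||
    sixN.any fun a => Nat.beq (mulN a u) (mulN u a) &&
      sixN.any fun b => Nat.beq (mulN b u) (mulN u b) && !Nat.beq (mulN a b) (mulN b a)) = true := by decide +kernel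

/-- An outer involution has a non-abelian centraliser in the centraliser of the first vector. -/
theorem outer_six {u : Mdl} (hu : u * u = 1) (hd : u.d ≠ (0, false)) (hc : u * gc = gc * u)
    (h6 : u * v6 = v6 * u) :
    ∃ a b : Mdl, a * v6 = v6 * a ∧ a * u = u * a ∧ b * v6 = v6 * b ∧ b * u = u * b ∧ a * b ≠ b * a := by
  have hu1 : u ≠ 1 := fun e => hd (e ▸ rfl)
  have h := List.all_eq_true.1 outer_six_check _ (mem_invN hu hu1)
  simp only [← code_mul, Bool.or_eq_true, Bool.and_eq_true, Bool.not_eq_true', ← Bool.not_eq_true,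
    List.any_eq_true, Nat.beq_eq, code_inj] at h
  rcases h with (h | h) | ⟨a, ha, ea, b, hb, eb, eab⟩
  · exact absurd ((AM_code u).2 (Nat.le_of_ble_eq_true h)) hd
  · exact absurd ⟨hc, h6⟩ h
  rw [sixN, List.mem_filter, List.mem_range, Nat.beq_eq] at ha hb
  obtain ⟨la, ha⟩ := ha
  obtain ⟨lb, hb⟩ := hb
  rw [← code_dec a la] at ha ea eab
  rw [← code_dec b lb] at hb eb eab
  simp only [← code_mul, code_inj] at ha hb ea eb eab
  exact ⟨_, _, ha, ea, hb, eb, eab⟩

/-- The squares of the outer elements. -/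
theorem outer_sq : ∀ q : Mdl, q.d ≠ (0, false) → q * gc = gc * q → q * v6 = v6 * q → q * q * (q * q) = 1 →
    q * q = 1 ∨ q * q = t0 := by decide +kernel

/-- The vectors outside the subgroup fixed by the local subgroup. -/
def Va (q : Mdl) : Bool := InV q && !decide (q = 1 ∨ q = t0 ∨ q = v6 ∨ q = t0 * v6)

theorem Va_iff {q : Mdl} : Va q = true ↔ InV q = true ∧ ¬ (q = 1 ∨ q = t0 ∨ q = v6 ∨ q = t0 * v6) := by
  simp [Va]

theorem Va_facts : Va v7 = true ∧ (∀ v, Va v = true → ∃ z, (z = 1 ∨ z = t0 ∨ z = v6 ∨ z = t0 * v6) ∧ v = v7 * z) ∧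
    (∀ a, InV a = true → ∃ z, (z = 1 ∨ z = t0 ∨ z = v6 ∨ z = t0 * v6) ∧ (a = z ∨ a = v7 * z)) ∧
    ∀ a : Mdl, a.d = (0, false) → Va (a * a) = true ∨ Va (ga * a * (ga * a)) = true := by decide +kernel

end Cfsg.Lib.HSType
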