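import Cfsg.Agent.HSType.CentFacts

/-!
# The square roots of the central involution in the model
-/

set_option autoImplicit false
set_option maxRecDepth 100000

namespace Cfsg.Lib.HSType

open Mdl

/-- Another vector of the second class. -/
def v7b : Mdl := ⟨(0, 0, 2), (0, false)⟩

theorem root_witness : gc * gc = t0 ∧ gc⁻¹ * gc⁻¹ = t0 ∧ gc ≠ 1 ∧ gc ≠ t0 ∧ gc ≠ gc⁻¹ ∧ gc * v6 = v6 * gc ∧
    gc * v7 = v7 * gc ∧ gc * v7b = v7b * gc ∧ cls v7b = 7 ∧ v7b * v7b = 1 ∧ v7b ≠ 1 ∧
    (Finset.univ.filter fun q : Mdl => q * gc = gc * q).card = 256 := by decide +kernel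

theorem no_root_check : ((List.range 512).all fun q =>
    !inN (mulN q q) [code gc, code gc⁻¹]) = true := by decide +kernel

/-- The distinguished root of the centre is not a square. -/
theorem no_root (q : Mdl) : q * q ≠ gc ∧ q * q ≠ gc⁻¹ := by
  have h := of_all no_root_check q
  simp only [← code_mul, Bool.not_eq_true', ← Bool.not_eq_true, inN_iff, List.mem_cons, List.not_mem_nil, or_false,
    code_inj, not_or] at h
  exact h

/-- An element which is a square. -/
def sqN (y : ℕ) : Bool := (List.range 512).any fun q => Nat.beq (mulN q q) y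

/-- An element commuting with the distinguished root and with an element inverting it. -/
def invB (y : ℕ) : Bool := Nat.beq (mulN y (code gc)) (mulN (code gc) y) && (List.range 512).any fun a =>
  Nat.beq (mulN a y) (mulN y a) && Nat.beq (mulN (mulN a (code gc)) (mulN (mulN a a) a)) (code gc⁻¹) &&
    Nat.beq (mulN (mulN a a) (mulN a a)) 0 && !inN (mulN a a) [0, code t0]

theorem root_check : ((List.range 512).all fun y => !Nat.beq (mulN y y) (code t0) || inN y [code gc, code gc⁻¹] ||
    sqN y || invB y || (!Nat.beq (mulN y (code v6)) (mulN (code v6) y) &&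
      (Nat.beq (mulN y (code v7)) (mulN (code v7) y) || Nat.beq (mulN y (code v7b)) (mulN (code v7b) y)))) = true := by
  decide +kernel

/-- **The roots of the centre.** -/
theorem root_cases {y : Mdl} (hy : y * y = t0) :
    y = gc ∨ y = gc⁻¹ ∨ (∃ q, q * q = y) ∨
      (y * gc = gc * y ∧ ∃ a : Mdl, a * y = y * a ∧ a * gc * a⁻¹ = gc⁻¹ ∧ a * a * (a * a) = 1 ∧ a * a ≠ 1 ∧
        a * a ≠ t0) ∨
      (y * v6 ≠ v6 * y ∧ (y * v7 = v7 * y ∨ y * v7b = v7b * y)) := by
  have h := of_all root_check y
  simp only [← code_mul, Bool.or_eq_true, Bool.and_eq_true, Bool.not_eq_true', ← Bool.not_eq_true, inN_iff,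
    List.mem_cons, List.not_mem_nil, or_false, Nat.beq_eq, code_inj] at h
  rcases h with (((h | h) | h) | h) | h
  · exact absurd hy h
  · exact h.elim Or.inl fun h => Or.inr (Or.inl h)
  · refine Or.inr (Or.inr (Or.inl ?_))
    simp only [sqN, List.any_eq_true, List.mem_range, Nat.beq_eq] at h
    obtain ⟨q, hq, e⟩ := h
    refine ⟨dec q, code_inj.1 ?_⟩
    rw [code_mul, code_dec q hq, e]
  · refine Or.inr (Or.inr (Or.inr (Or.inl ?_)))
    simp only [invB, List.any_eq_true, List.mem_range, Bool.and_eq_true, Bool.not_eq_true', ← Bool.not_eq_true,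
      inN_iff, List.mem_cons, List.not_mem_nil, or_false, Nat.beq_eq] at h
    obtain ⟨hc, a, ha, ⟨⟨e1, e2⟩, e3⟩, e4⟩ := h
    rw [← code_dec a ha] at e1 e2 e3 e4
    simp only [← code_mul, ← code_one, code_inj, not_or] at hc e1 e2 e3 e4
    refine ⟨hc, dec a, e1, ?_, e3, e4⟩
    rw [inv_eq_of_mul_eq_one_right (show dec a * (dec a * dec a * dec a) = 1 by rw [← e3]; group)]
    exact e2
  · exact Or.inr (Or.inr (Or.inr (Or.inr h)))

/-- The elements commuting with the distinguished root. -/
def centC : List ℕ := (List.range 512).filter fun q => Nat.beq (mulN q (code gc)) (mulN (code gc) q)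

theorem inverted_check : (centC.all fun q => !Nat.beq (mulN q q) (code t0) || inN q [code gc, code gc⁻¹] ||
    centC.all fun a => !Nat.beq (mulN (mulN a q) (mulN (mulN a a) a)) (mulN (code t0) q) ||
      !Nat.beq (mulN (mulN a a) (mulN a a)) 0 || inN (mulN a a) [0, code t0]) = true := by decide +kernel

/-- An element inverting another root of the centre inside the centraliser of the distinguished one. -/
theorem inverted_facts {q a : Mdl} (hq : q * q = t0) (hqc : q * gc = gc * q) (hac : a * gc = gc * a)
    (hne : q ≠ gc) (hne' : q ≠ gc⁻¹) (hi : a * q * a⁻¹ = q⁻¹) (h4 : a * a * (a * a) = 1) :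
    a * a = 1 ∨ a * a = t0 := by
  have hm : ∀ {w : Mdl}, w * gc = gc * w → code w ∈ centC := fun {w} hw => by
    rw [centC, List.mem_filter, List.mem_range, ← code_mul, ← code_mul, Nat.beq_eq, code_inj]
    exact ⟨code_lt w, hw⟩
  have h := List.all_eq_true.1 inverted_check _ (hm hqc)
  simp only [← code_mul, Bool.or_eq_true, Bool.not_eq_true', ← Bool.not_eq_true, inN_iff,
    List.mem_cons, List.not_mem_nil, or_false, Nat.beq_eq, code_inj] at h
  rcases h with (h | h) | h
  · exact absurd hq h
  · exact h.elim (absurd · hne) (absurd · hne')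
  have h' := List.all_eq_true.1 h _ (hm hac)
  simp only [← code_mul, ← code_one, Bool.or_eq_true, Bool.not_eq_true', ← Bool.not_eq_true, inN_iff,
    List.mem_cons, List.not_mem_nil, or_false, Nat.beq_eq, code_inj] at h'
  rcases h' with (h' | h') | h'
  · refine absurd ?_ h'
    have hq' : q⁻¹ = t0 * q := inv_eq_of_mul_eq_one_right (by
      rw [← mul_assoc, t0_central q, mul_assoc, hq, t0_facts.1])
    rw [← hq', ← hi, inv_eq_of_mul_eq_one_right (show a * (a * a * a) = 1 by rw [← h4]; group)]
  · exact absurd h4 h'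
  · exact h'

end Cfsg.Lib.HSType
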