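import Cfsg.Agent.HSType.CentFusion
import Cfsg.Agent.HSType.RootFacts
import Cfsg.Agent.AltEightType.Kernel
import Cfsg.Agent.LFourType.Moved

/-!
# The root of the central involution is isolated modulo the centre

Hence the centraliser of the central involution is the product of its odd core and the normaliser of the
cyclic group of order four.
-/

set_option autoImplicit false
set_option linter.unusedSectionVars false
set_option linter.style.haveILetI false
set_option maxRecDepth 100000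

namespace Cfsg.Lib.HSType

open Subgroup Mdl
open Cfsg.Lib.Walter (Oc)

universe u

namespace Typed

variable {G : Type u} [Group G] [Finite G] {c : Typed G}

theorem to_root {y : Mdl} (hy : c.CC y gc) :
    ∃ h : G, c.Img h t0 t0 ∧ c.Img h y gc ∧
      ∀ p, p * y = y * p → ∃ p', c.Img h p p' ∧ p' * gc = gc * p' :=
  to_cent root_witness.2.2.1 root_witness.2.2.2.1 root_witness.2.2.2.2.2.2.2.2.2.2.2 hy

theorem CC.map_inv {x y : Mdl} : c.CC x y → c.CC x⁻¹ y⁻¹ := fun ⟨h, ht, hx⟩ => ⟨h, ht, hx.inv⟩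

/-- A square is not conjugate to the root. -/
theorem not_sq {q y : Mdl} (hy : q * q = y) (hc : c.CC y gc) : False := by
  obtain ⟨h, -, hx, hq⟩ := to_root hc
  obtain ⟨q', hq', -⟩ := hq q (by rw [← hy, mul_assoc])
  exact (no_root q').1 (Img.eq (hq'.mul hq') hx hy)

/-- An element commuting with the root and with an element inverting it is not conjugate to it. -/
theorem not_inverted {y a : Mdl} (hy : y * y = t0) (hyc : y * gc = gc * y) (hne : y ≠ gc) (hne' : y ≠ gc⁻¹)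
    (hay : a * y = y * a) (hi : a * gc * a⁻¹ = gc⁻¹) (h4 : a * a * (a * a) = 1) (h1 : a * a ≠ 1) (h2 : a * a ≠ t0)
    (hc : c.CC y gc) : False := by
  obtain ⟨h, ht, hx, hq⟩ := to_root hc
  obtain ⟨q, hq', hqc⟩ := hq gc hyc.symm
  obtain ⟨a', ha', hac⟩ := hq a hay
  have hw := ha'.mul ha'
  rcases inverted_facts (q := q) (a := a') (Img.eq (hq'.mul hq') ht root_witness.1) hqc hac
      (Img.ne hq' hx hne.symm) (Img.ne hq' hx.inv fun e => hne' (by rw [e, inv_inv]))
      (Img.eq ((ha'.mul hq').mul ha'.inv) hq'.inv hi) (Img.eq (hw.mul hw) Img.one h4) with e | e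
  · exact hw.ne_one h1 e
  · exact Img.ne hw ht h2 e

/-- A conjugate of the root in the centraliser of the first vector. -/
theorem root_six {y : Mdl} (hy : y * y = t0) (hc : c.CC y gc) (h6 : y * v6 = v6 * y) : y = gc ∨ y = gc⁻¹ := by
  rcases root_cases hy with e | e | ⟨q, e⟩ | ⟨hyc, a, hay, hi, h4, h1, h2⟩ | ⟨hv, -⟩
  · exact Or.inl e
  · exact Or.inr e
  · exact (not_sq e hc).elim
  · by_contra hne
    rw [not_or] at hne
    exact not_inverted hy hyc hne.1 hne.2 hay hi h4 h1 h2 hc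
  · exact absurd h6 hv

/-- **The root is weakly isolated.** -/
theorem root_closed (hp : c.Pattern) {y : Mdl} (hy : y * y = t0) (hc : c.CC gc y) : y = gc ∨ y = gc⁻¹ := by
  rcases root_cases hy with e | e | ⟨q, e⟩ | ⟨hyc, a, hay, hi, h4, h1, h2⟩ | ⟨-, hv⟩
  · exact Or.inl e
  · exact Or.inr e
  · exact (not_sq e hc.symm).elim
  · by_contra hne
    rw [not_or] at hne
    exact not_inverted hy hyc hne.1 hne.2 hay hi h4 h1 h2 hc.symm
  obtain ⟨-, -, -, -, -, -, hc7, hc7b, hb, hb2, hb1, -⟩ := root_witness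
  obtain ⟨v, hvy, hvc, hcv⟩ : ∃ v : Mdl, y * v = v * y ∧ gc * v = v * gc ∧ c.CC v v6 := by
    rcases hv with e | e
    · exact ⟨v7, e, hc7, seven_six hp⟩
    · exact ⟨v7b, e, hc7b, CC.trans (CC.of_cls hb2 hb1 (by decide +kernel) (by decide +kernel)
        (hb.trans (show (7 : ℕ) = cls v7 by decide +kernel))) (seven_six hp)⟩
  obtain ⟨h, ht, -, hq⟩ := to_six hcv
  obtain ⟨y', hy', hy6⟩ := hq y hvy
  obtain ⟨q, hq', hq6⟩ := hq gc hvc
  have hqq : q * q = t0 := Img.eq (hq'.mul hq') ht root_witness.1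
  have hyy : y' * y' = t0 := Img.eq (hy'.mul hy') ht hy
  have hcy : c.CC gc y' := hc.trans ⟨h, ht, hy'⟩
  have hcq : c.CC gc q := ⟨h, ht, hq'⟩
  by_contra hne
  rw [not_or] at hne
  have h1' : y' ≠ q := Img.ne hy' hq' hne.1
  have h2' : y' ≠ q⁻¹ := Img.ne hy' hq'.inv hne.2
  rcases root_six hyy hcy.symm hy6 with e | e <;> rcases root_six hqq hcq.symm hq6 with f | f <;>
    rw [e, f] at h1' h2'
  · exact h1' rfl
  · exact h2' (inv_inv gc).symm
  · exact h2' rfl
  · exact h1' rfl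

theorem split_T {W : Subgroup ↥(centralizer ({c.T} : Set G))} [W.Normal]
    (hTW : (⟨c.T, mem_centralizer_singleton_iff.2 rfl⟩ : ↥(centralizer ({c.T} : Set G))) ∈ W)
    (ho : Odd ((zpowers (⟨c.T, mem_centralizer_singleton_iff.2 rfl⟩ : ↥(centralizer ({c.T} : Set G)))).relIndex W))
    {x : ↥(centralizer ({c.T} : Set G))} (hx : x ∈ W) :
    ∃ o ∈ Oc c.T, o⁻¹ * (x : G) = 1 ∨ o⁻¹ * (x : G) = c.T := by
  set τ : ↥(centralizer ({c.T} : Set G)) := ⟨c.T, mem_centralizer_singleton_iff.2 rfl⟩ with hτ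
  have hτ2 : orderOf τ = 2 := by rw [Subgroup.orderOf_mk]; exact c.orderOf_T
  have hcen : ∀ z ∈ zpowers τ, ∀ w ∈ W, z * w = w * z := by
    rintro z ⟨i, rfl⟩ w -
    refine Subtype.ext ?_
    show ((τ ^ i : _) : G) * w = (w : G) * ((τ ^ i : _) : G)
    rw [SubgroupClass.coe_zpow]
    exact ((show Commute c.T (w : G) from (mem_centralizer_singleton_iff.1 w.2).symm).zpow_left i).eq
  obtain ⟨k, hk, hkx⟩ := Cfsg.Lib.AltEightType.split_central (zpowers_le.2 hTW) hcen
    (IsPGroup.of_card (n := 1) (by rw [Nat.card_zpowers, hτ2, pow_one])) ho hx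
  have hn : ∀ g : ↥(centralizer ({c.T} : Set G)), ∀ u ∈ Cfsg.Lib.AltEightType.core W,
      g * u * g⁻¹ ∈ Cfsg.Lib.AltEightType.core W := by
    intro g u hu
    refine Cfsg.Lib.AltEightType.le_core (U := (Cfsg.Lib.AltEightType.core W).map (MulAut.conj g).toMonoidHom)
      ?_ ?_ ?_ ⟨u, hu, rfl⟩
    · rintro _ ⟨w, hw, rfl⟩
      exact Normal.conj_mem inferInstance w (Cfsg.Lib.AltEightType.core_le W hw) g
    · rintro w hw _ ⟨v, hv, rfl⟩
      refine ⟨g⁻¹ * w * g * v * (g⁻¹ * w * g)⁻¹, (mem_normalizer_iff.1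
        (Cfsg.Lib.AltEightType.core_normalized ?_) v).1 hv, ?_⟩
      · simpa using Normal.conj_mem (H := W) inferInstance w hw g⁻¹
      · show g * (g⁻¹ * w * g * v * (g⁻¹ * w * g)⁻¹) * g⁻¹ = w * (g * v * g⁻¹) * w⁻¹
        group
    · rw [card_map_of_injective (MulEquiv.injective _)]
      exact Cfsg.Lib.AltEightType.odd_core W
  haveI : (Cfsg.Lib.AltEightType.core W).Normal := ⟨fun u hu g => hn g u hu⟩
  refine ⟨k, ⟨k, Cfsg.Lib.AltEightType.le_oddCore (Cfsg.Lib.AltEightType.odd_core W) hk, rfl⟩, ?_⟩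
  rw [mem_zpowers_iff] at hkx
  obtain ⟨i, hi⟩ := hkx
  have hv : (k : G)⁻¹ * (x : G) = c.T ^ i := by
    rw [← Subgroup.coe_inv, ← Subgroup.coe_mul, ← hi, SubgroupClass.coe_zpow]
  rw [hv, zpow_eq_zpow_emod' i (pow_orderOf_eq_one c.T), c.orderOf_T]
  rcases Int.emod_two_eq_zero_or_one i with e | e
  · left; rw [show i % ((2 : ℕ) : ℤ) = 0 from e, zpow_zero]
  · right; rw [show i % ((2 : ℕ) : ℤ) = 1 from e, zpow_one]

/-- **The centraliser of the centre normalises the root modulo the core.** -/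
theorem root_decomp (hp : c.Pattern) {g : G} (hg : g ∈ centralizer ({c.T} : Set G)) :
    ∃ o ∈ Oc c.T, (o⁻¹ * g) * c.ι gc * (o⁻¹ * g)⁻¹ = c.ι gc ∨
      (o⁻¹ * g) * c.ι gc * (o⁻¹ * g)⁻¹ = c.ι gc⁻¹ := by
  haveI : Fact (Nat.Prime 2) := ⟨Nat.prime_two⟩
  set C0 := centralizer ({c.T} : Set G) with hC0
  set τ : C0 := ⟨c.T, mem_centralizer_singleton_iff.2 rfl⟩ with hτ
  haveI hn : (zpowers τ).Normal := ⟨fun u hu w => by
    obtain ⟨i, rfl⟩ := mem_zpowers_iff.1 hu
    have hcm : Commute τ w := Subtype.ext (mem_centralizer_singleton_iff.1 w.2).symm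
    rw [← (hcm.zpow_left i).eq, mul_inv_cancel_right]
    exact hu⟩
  have hγmem : c.ι gc ∈ C0 := c.S_le (c.ι_mem gc)
  set γ : C0 := ⟨c.ι gc, hγmem⟩ with hγ
  let π := QuotientGroup.mk' (zpowers τ)
  have hker : ∀ u : C0, π u = 1 → (u : G) = 1 ∨ (u : G) = c.T := fun u hu => by
    obtain ⟨i, rfl⟩ := mem_zpowers_iff.1 ((QuotientGroup.eq_one_iff u).1 hu)
    rw [SubgroupClass.coe_zpow, zpow_eq_zpow_emod' i (pow_orderOf_eq_one (τ : G)),
      show orderOf (τ : G) = 2 from c.orderOf_T]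
    rcases Int.emod_two_eq_zero_or_one i with e | e
    · left; rw [show i % ((2 : ℕ) : ℤ) = 0 from e, zpow_zero]
    · right; rw [show i % ((2 : ℕ) : ℤ) = 1 from e, zpow_one]
  have hγ2 : orderOf (π γ) = 2 := by
    refine orderOf_eq_prime ?_ fun h => ?_
    · rw [← map_pow, QuotientGroup.mk'_apply, QuotientGroup.eq_one_iff]
      refine mem_zpowers_iff.2 ⟨1, Subtype.ext ?_⟩
      rw [zpow_one, SubgroupClass.coe_pow, pow_two]
      show c.T = c.ι gc * c.ι gc
      rw [← map_mul, root_witness.1]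
    · rcases hker γ h with e | e
      · exact c.ι_ne root_witness.2.2.1 e
      · exact root_witness.2.2.2.1 (c.ι_inj e)
  have hiso : Cfsg.IsIsolatedInvolution (π γ) := by
    refine ⟨hγ2, fun q hq => ?_⟩
    obtain ⟨u, rfl⟩ := QuotientGroup.mk'_surjective _ q
    rw [← map_inv, ← map_mul, ← map_mul] at hq ⊢
    set δ := u * γ * u⁻¹ with hδ
    set D : Subgroup G := (c.S : Subgroup G) ⊓ zpowers (c.ι gc) with hD
    have hcm : π (γ * δ * (δ * γ)⁻¹) = 1 := by
      rw [map_mul, map_inv, mul_inv_eq_one, map_mul, map_mul]; exact hq.eq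
    have hnorm : (δ : G) ∈ normalizer ((zpowers (c.ι gc) : Subgroup G) : Set G) := by
      refine Cfsg.Lib.ZStarApps.mem_normalizer_of_maps fun x hx => ?_
      obtain ⟨i, rfl⟩ := mem_zpowers_iff.1 hx
      rw [← conj_zpow]
      refine zpow_mem ?_ i
      rcases hker _ hcm with e | e
      · have e' : c.ι gc * (δ : G) * ((δ : G) * c.ι gc)⁻¹ = 1 := e
        rw [← mul_inv_eq_one.1 e', mul_inv_cancel_right]
        exact mem_zpowers _
      · have e' : c.ι gc * (δ : G) * ((δ : G) * c.ι gc)⁻¹ = c.T := e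
        have e'' : c.ι gc * (δ : G) = c.T * ((δ : G) * c.ι gc) := mul_inv_eq_iff_eq_mul.1 e'
        have : (δ : G) * c.ι gc * (δ : G)⁻¹ = c.T⁻¹ * c.ι gc := by
          rw [mul_inv_eq_iff_eq_mul, mul_assoc, eq_inv_mul_iff_mul_eq]
          exact e''.symm
        rw [this]
        refine mul_mem (inv_mem ?_) (mem_zpowers _)
        rw [show c.T = c.ι gc * c.ι gc by rw [← map_mul, root_witness.1]]
        exact mul_mem (mem_zpowers _) (mem_zpowers _)
    have hδ4 : orderOf (δ : G) = orderOf (c.ι gc) := by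
      show orderOf ((u : G) * c.ι gc * (u : G)⁻¹) = _
      rw [← MulAut.conj_apply, MulEquiv.orderOf_eq]
    obtain ⟨j, hj⟩ := IsPGroup.iff_orderOf.1 c.S.2 ⟨c.ι gc, c.ι_mem gc⟩
    rw [Subgroup.orderOf_mk] at hj
    have hX : IsPGroup 2 (zpowers (c.ι gc) ⊔ zpowers (δ : G) : Subgroup G) :=
      (IsPGroup.of_card (n := j) (by rw [Nat.card_zpowers, hj])).to_sup_of_normal_left'
        (IsPGroup.of_card (n := j) (by rw [Nat.card_zpowers, hδ4, hj])) (zpowers_le.2 hnorm)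
    have hXC : (zpowers (c.ι gc) ⊔ zpowers (δ : G) : Subgroup G) ≤ C0 :=
      sup_le (zpowers_le.2 hγmem) (zpowers_le.2 δ.2)
    obtain ⟨k, hk, hkS⟩ := Cfsg.Lib.TwoFusion.exists_sylow_conj c.S c.S_le hX hXC
    have hkT := img_T_of_cent hk
    obtain ⟨p, hp1⟩ := c.exists_ι (hkS _ (mem_sup_left (mem_zpowers _)))
    obtain ⟨r, hr1⟩ := c.exists_ι (hkS _ (mem_sup_right (mem_zpowers _)))
    have hr : c.Img (k * u) gc r := by
      show c.ι r = k * u * c.ι gc * (k * u : G)⁻¹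
      rw [hr1]; show k * ((u : G) * c.ι gc * (u : G)⁻¹) * k⁻¹ = _
      group
    have hut := (img_T_of_cent u.2).comp hkT
    have sq : ∀ {h : G} {w : Mdl}, c.Img h t0 t0 → c.Img h gc w → w * w = t0 := fun ht hi =>
      Img.eq (hi.mul hi) ht root_witness.1
    have key : (δ : G) = c.ι gc ∨ (δ : G) = c.ι gc⁻¹ := by
      have hpk : c.Img k gc p := hp1
      rcases root_closed hp (sq hkT hpk) ⟨k, hkT, hpk⟩ with e | e <;>
        rcases root_closed hp (sq hut hr) ⟨k * u, hut, hr⟩ with f | f <;> rw [e] at hp1 <;> rw [f] at hr1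
      · exact Or.inl (mul_left_cancel (mul_right_cancel (hr1.symm.trans hp1)))
      · right
        rw [map_inv, hp1] at hr1
        rw [map_inv]
        refine mul_left_cancel (a := k) (mul_right_cancel (b := k⁻¹) ?_)
        rw [← hr1]; group
      · right
        rw [map_inv] at hp1
        rw [← inv_inv (c.ι gc), hp1] at hr1
        rw [map_inv]
        refine mul_left_cancel (a := k) (mul_right_cancel (b := k⁻¹) ?_)
        rw [← hr1]; group
      · exact Or.inl (mul_left_cancel (mul_right_cancel (hr1.symm.trans hp1)))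
    rcases key with e | e
    · rw [show δ = γ from Subtype.ext e]
    · rw [show δ = γ⁻¹ from Subtype.ext (e.trans (map_inv _ _)), map_inv]
      exact inv_eq_of_mul_eq_one_right (by rw [← pow_two, ← hγ2, pow_orderOf_eq_one])
  -- Glauberman's theorem
  obtain ⟨k, hk, hk', hk''⟩ := Cfsg.Lib.Isolated.exists_inverted hiso (π ⟨g, hg⟩)
  have hz := Cfsg.Lib.ZStarApps.zstarProp hiso k
  rw [hk', ← mul_inv_rev] at hz
  set O' := Cfsg.pPrimeCore 2 (C0 ⧸ zpowers τ) with hO'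
  have hkm : k ∈ O' := zpowers_le.2 (inv_mem_iff.1 hz) (by
    obtain ⟨j, hj⟩ := hk
    refine mem_zpowers_iff.2 ⟨((j + 1 : ℕ) : ℤ), ?_⟩
    rw [zpow_natCast, ← pow_two, ← pow_mul, show 2 * (j + 1) = orderOf k + 1 by omega, pow_succ,
      pow_orderOf_eq_one, one_mul])
  obtain ⟨x, hx⟩ := QuotientGroup.mk'_surjective _ k
  haveI : (O'.comap π).Normal := inferInstance
  have hrel : Odd ((zpowers τ).relIndex (O'.comap π)) := by
    have e : (zpowers τ).relIndex (O'.comap π) = Nat.card O' := by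
      have h1 := relIndex_ker (O'.comap π) π
      rw [show π.ker = zpowers τ from QuotientGroup.ker_mk' _,
        Subgroup.map_comap_eq_self_of_surjective (QuotientGroup.mk'_surjective (zpowers τ))] at h1
      exact h1
    rw [e]
    exact Cfsg.Lib.ZStarApps.odd_card_pPrimeCore
  obtain ⟨o, ho, hox⟩ := split_T (W := O'.comap π) (show π τ ∈ O' by
    rw [show π τ = 1 from (QuotientGroup.eq_one_iff τ).2 (mem_zpowers τ)]; exact one_mem _) hrel
    (show x ∈ O'.comap π by show π x ∈ O'; rw [hx]; exact hkm)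
  refine ⟨o, ho, ?_⟩
  have hxg : π ((x⁻¹ * ⟨g, hg⟩) * γ * (x⁻¹ * ⟨g, hg⟩)⁻¹ * γ⁻¹) = 1 := by
    simp only [map_mul, map_inv]
    rw [show π x = k from hx, mul_inv_eq_one]
    calc k⁻¹ * π ⟨g, hg⟩ * π γ * (k⁻¹ * π ⟨g, hg⟩)⁻¹ = k⁻¹ * (π ⟨g, hg⟩ * π γ * (π ⟨g, hg⟩)⁻¹) * k := by group
      _ = π γ := by rw [← hk'']; group
  have hcT : Commute c.T ((x : G)⁻¹ * g * c.ι gc * ((x : G)⁻¹ * g)⁻¹) :=
    (mem_centralizer_singleton_iff.1 (mul_mem (mul_mem (mul_mem (inv_mem x.2) hg) hγmem)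
      (inv_mem (mul_mem (inv_mem x.2) hg)))).symm
  have e1 : o⁻¹ * g * c.ι gc * (o⁻¹ * g)⁻¹ = (x : G)⁻¹ * g * c.ι gc * ((x : G)⁻¹ * g)⁻¹ := by
    rcases hox with e | e
    · rw [inv_mul_eq_one.1 e]
    · rw [show o⁻¹ = c.T * (x : G)⁻¹ by rw [← e]; group]
      calc c.T * (x : G)⁻¹ * g * c.ι gc * (c.T * (x : G)⁻¹ * g)⁻¹
          = c.T * ((x : G)⁻¹ * g * c.ι gc * ((x : G)⁻¹ * g)⁻¹) * c.T⁻¹ := by group
        _ = _ := by rw [hcT.eq, mul_inv_cancel_right]
  rw [e1]
  rcases hker _ hxg with e | e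
  · exact Or.inl (mul_inv_eq_one.1 e)
  · right
    have e' : (x : G)⁻¹ * g * c.ι gc * ((x : G)⁻¹ * g)⁻¹ * (c.ι gc)⁻¹ = c.T := e
    rw [mul_inv_eq_iff_eq_mul.1 e', show gc⁻¹ = t0 * gc from
      inv_eq_of_mul_eq_one_right (by rw [← mul_assoc, t0_central gc, mul_assoc, root_witness.1, t0_facts.1]),
      map_mul]

end Typed

end Cfsg.Lib.HSType
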