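import Cfsg.Agent.InvolCalc.Dihedral
import Cfsg.Agent.InvolCalc.ZStarApps
import Cfsg.Agent.Components.Balance
import Cfsg.Agent.TwoFusion.FusionTools
import Cfsg.Agent.OddChar.PF.OddOrder
import Cfsg.Agent.S0217
import Cfsg.Prelude.Def_Transfer

/-!
# A strongly closed elementary group of order sixteen

An elementary group of order sixteen, strongly closed in a Sylow 2-subgroup, with fused involutions
whose centralisers have normal 2-complements, is normal once the odd core is trivial.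
-/

set_option autoImplicit false
set_option linter.unusedSectionVars false
set_option linter.style.haveILetI false

namespace Cfsg.Lib.HSType

open Subgroup
open Cfsg.Lib.InvolCalc

universe u

namespace Strong

variable {K : Type u} [Group K] [Finite K]

theorem core_index {C : Type u} [Group C] [Finite C] (h : Cfsg.HasNormalPComplement 2 C) :
    ∃ n, (Cfsg.pPrimeCore 2 C).index = 2 ^ n := by
  haveI : Fact (Nat.Prime 2) := ⟨Nat.prime_two⟩
  obtain ⟨P, N, hN, hNP⟩ := h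
  have hodd : (Nat.card N).Coprime 2 := by
    rw [← hNP.index_eq_card]
    exact ((Nat.prime_two.coprime_iff_not_dvd).2 P.not_dvd_index).symm
  have hle := Cfsg.Lib.Components.le_pPrimeCore (hn := hN) hodd
  obtain ⟨n, hn⟩ := IsPGroup.iff_card.1 P.2
  have hd := Subgroup.index_dvd_of_le hle
  rw [hNP.symm.index_eq_card, hn] at hd
  obtain ⟨m, -, hm⟩ := (Nat.dvd_prime_pow Nat.prime_two).1 hd
  exact ⟨m, hm⟩

theorem odd_mem_core {x y : K} (h : Cfsg.HasNormalPComplement 2 ↥(centralizer ({x} : Set K)))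
    (hy : y ∈ centralizer ({x} : Set K)) (ho : Odd (orderOf y)) :
    y ∈ Cfsg.centralizerPPrimeCore 2 x := by
  obtain ⟨n, hn⟩ := core_index h
  set M := Cfsg.pPrimeCore 2 ↥(centralizer ({x} : Set K))
  haveI : M.Normal := inferInstance
  refine ⟨⟨y, hy⟩, (QuotientGroup.eq_one_iff _).1 ?_, rfl⟩
  refine orderOf_eq_one_iff.1 (Nat.eq_one_of_dvd_coprimes ((Nat.coprime_two_left.2 ho).pow_left n)
    ?_ ?_)
  · rw [← hn, index_eq_card]
    exact orderOf_dvd_natCard _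
  · refine (orderOf_map_dvd (QuotientGroup.mk' M) ⟨y, hy⟩).trans ?_
    rw [Subgroup.orderOf_mk]

variable (P : Sylow 2 K) (R : Subgroup K) (hRP : R ≤ (P : Subgroup K))
  (hRc : ∀ a ∈ R, ∀ b ∈ R, a * b = b * a) (hRsq : ∀ a ∈ R, a * a = 1)
  (hclosed : ∀ (g : K), ∀ x ∈ R, g * x * g⁻¹ ∈ (P : Subgroup K) → g * x * g⁻¹ ∈ R)

include hRP hclosed in
theorem P_le_normalizer : (P : Subgroup K) ≤ normalizer (R : Set K) := fun p hp =>
  Cfsg.Lib.ZStarApps.mem_normalizer_of_maps fun a ha =>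
    hclosed p a ha (mul_mem (mul_mem hp (hRP ha)) (inv_mem hp))

include hRP hclosed in
/-- Elements of a 2-group above `R` normalise `R`. -/
theorem le_normalizer_of_twoGroup {T : Subgroup K} (hT : IsPGroup 2 T) (hRT : R ≤ T) :
    T ≤ normalizer (R : Set K) := by
  obtain ⟨k, -, hk⟩ := Cfsg.Lib.TwoFusion.exists_sylow_conj P le_top hT le_top
  have hkR : k ∈ normalizer (R : Set K) :=
    Cfsg.Lib.ZStarApps.mem_normalizer_of_maps fun a ha => hclosed k a ha (hk a (hRT ha))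
  intro t ht
  have h := mul_mem (mul_mem (inv_mem hkR) (P_le_normalizer P R hRP hclosed (hk t ht))) hkR
  rwa [show k⁻¹ * (k * t * k⁻¹) * k = t by group] at h

include hRP hclosed in
theorem exists_decomp {x : K} (hx : x ∈ R) (hRc' : ∀ a ∈ R, a * x = x * a)
    (h : Cfsg.HasNormalPComplement 2 ↥(centralizer ({x} : Set K))) {y : K}
    (hy : y ∈ centralizer ({x} : Set K)) :
    ∃ o ∈ Cfsg.centralizerPPrimeCore 2 x, o⁻¹ * y ∈ normalizer (R : Set K) := by
  haveI : Fact (Nat.Prime 2) := ⟨Nat.prime_two⟩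
  have hRC : R ≤ centralizer ({x} : Set K) := fun a ha => mem_centralizer_singleton_iff.2 (hRc' a ha)
  obtain ⟨T, hT⟩ := ((P.2.to_le hRP).of_equiv (subgroupOfEquivOfLe hRC).symm).exists_le_sylow
  obtain ⟨n, hn⟩ := core_index h
  set M := Cfsg.pPrimeCore 2 ↥(centralizer ({x} : Set K))
  have htop : M ⊔ (T : Subgroup ↥(centralizer ({x} : Set K))) = ⊤ := by
    rw [← index_eq_one]
    refine Nat.eq_one_of_dvd_coprimes ((Nat.prime_two.coprime_iff_not_dvd.2 T.not_dvd_index).pow_left n)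
      ?_ (Subgroup.index_dvd_of_le le_sup_right)
    rw [← hn]
    exact Subgroup.index_dvd_of_le le_sup_left
  have hy' : (⟨y, hy⟩ : ↥(centralizer ({x} : Set K))) ∈ M ⊔ (T : Subgroup _) := htop ▸ mem_top _
  obtain ⟨o, ho, t, ht, hot⟩ := mem_sup_of_normal_left.1 hy'
  refine ⟨o, ⟨o, ho, rfl⟩, ?_⟩
  have e : (o : K) * t = y := congrArg Subtype.val hot
  rw [← e, inv_mul_cancel_left]
  refine le_normalizer_of_twoGroup P R hRP hclosed
    (T.2.map (centralizer ({x} : Set K)).subtype) (fun a ha => ⟨⟨a, hRC ha⟩, hT ha, rfl⟩) ⟨t, ht, rfl⟩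

section Local

variable (N : Subgroup K) (hNR : normalizer (R : Set K) ≤ N)
  (hNC : ∀ x ∈ R, x ≠ 1 → centralizer ({x} : Set K) ≤ N)

include hRP hRc hclosed hNR hNC in
/-- The subgroup controls the conjugates of the involutions of `R`. -/
theorem mem_of_conj_mem {x : K} (hx : x ∈ R) (hx1 : x ≠ 1) {g : K} (hg : g * x * g⁻¹ ∈ N) : g ∈ N := by
  haveI : Fact (Nat.Prime 2) := ⟨Nat.prime_two⟩
  have hPN : (P : Subgroup K) ≤ N := (P_le_normalizer P R hRP hclosed).trans hNR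
  obtain ⟨n, hn, hnP⟩ := Cfsg.Lib.TwoFusion.exists_sylow_conj P hPN
    ((P.2.to_le (zpowers_le.2 (hRP hx))).map (MulAut.conj g).toMonoidHom) (by
      rintro _ ⟨a, ha, rfl⟩
      obtain ⟨i, rfl⟩ := mem_zpowers_iff.1 ha
      simpa using zpow_mem hg i)
  have hy : n * g * x * (n * g)⁻¹ ∈ R := hclosed _ x hx (by
    simpa [mul_assoc] using hnP _ ⟨x, mem_zpowers x, rfl⟩)
  have hy1 : n * g * x * (n * g)⁻¹ ≠ 1 := fun e => hx1 (conj_eq_one_iff.1 e)
  obtain ⟨m, hm, hmP⟩ := Cfsg.Lib.TwoFusion.exists_sylow_conj P hPN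
    ((P.2.to_le hRP).map (MulAut.conj (n * g)).toMonoidHom) (by
      rintro _ ⟨a, ha, rfl⟩
      exact hNC _ hy hy1 (mem_centralizer_singleton_iff.2
        ((show Commute a x from hRc a ha x hx).map (MulAut.conj (n * g)).toMonoidHom).eq))
  have h : m * n * g ∈ N := hNR (Cfsg.Lib.ZStarApps.mem_normalizer_of_maps fun a ha => hclosed _ a ha (by
    simpa [mul_assoc] using hmP _ ⟨a, ha, rfl⟩))
  exact (mul_mem_cancel_left (mul_mem hm hn)).1 h

include hRP hRc hRsq hclosed hNR hNC in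
/-- An involution of `R` and a conjugate outside have odd product. -/
theorem odd_mul {d r g : K} (hd : d ∈ R) (hd1 : d ≠ 1) (hr : r ∈ R) (hr1 : r ≠ 1)
    (hg : g * r * g⁻¹ ∉ N) : Odd (orderOf (d * (g * r * g⁻¹))) := by
  haveI : Fact (Nat.Prime 2) := ⟨Nat.prime_two⟩
  rw [← Nat.not_even_iff_odd]
  intro he
  set y := g * r * g⁻¹ with hy
  set w := d * y with hw
  have hdo := order_two_of_mul_self (hRsq d hd) hd1
  have hyo : orderOf y = 2 := by
    rw [hy, ← MulAut.conj_apply, MulEquiv.orderOf_eq]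
    exact order_two_of_mul_self (hRsq r hr) hr1
  obtain ⟨a, m, ⟨j, rfl⟩, hn⟩ := Nat.exists_eq_two_pow_mul_odd (orderOf_pos w).ne'
  have ha : a ≠ 0 := fun h0 => by
    rw [hn, h0, pow_zero, one_mul] at he
    exact Nat.not_even_two_mul_add_one j he
  set y' := w ^ (-(j : ℤ)) * y * (w ^ (-(j : ℤ)))⁻¹ with hy'
  have hprod : d * y' = w ^ (2 * j + 1) := by
    rw [hy', ← mul_assoc, ← mul_assoc, flip_zpow hdo hyo, neg_neg, ← hw, mul_assoc (w ^ (j : ℤ)) d y, ← hw,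
      ← zpow_neg, neg_neg, ← zpow_natCast w (2 * j + 1)]
    group
  have hy'o : orderOf y' = 2 := by
    rw [hy', ← MulAut.conj_apply, MulEquiv.orderOf_eq]; exact hyo
  have hwm : (w ^ (2 * j + 1)) ^ 2 ^ a = 1 := by
    rw [← pow_mul, mul_comm, ← hn, pow_orderOf_eq_one]
  have hwne : w ^ (2 * j + 1) ≠ 1 := fun h => by
    have h2 := he.two_dvd.trans (orderOf_dvd_of_pow_eq_one h)
    omega
  have hX : IsPGroup 2 (closure ({d, y'} : Set K)) := fun ⟨q, hq⟩ => by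
    rcases mem_closure_pair hdo hy'o hq with ⟨i, rfl⟩ | ⟨i, rfl⟩
    · refine ⟨a, Subtype.ext ?_⟩
      show ((d * y') ^ i) ^ 2 ^ a = 1
      rw [← zpow_natCast ((d * y') ^ i), ← zpow_mul, mul_comm i, zpow_mul, zpow_natCast, hprod, hwm, one_zpow]
    · refine ⟨1, Subtype.ext ?_⟩
      show (d * (d * y') ^ i) ^ 2 ^ 1 = 1
      rw [pow_one, pow_two]
      conv_lhs => arg 1; rw [flip_zpow hdo hy'o i]
      rw [mul_assoc, ← mul_assoc d d, sq_of_order_two hdo, one_mul, ← zpow_add, neg_add_cancel, zpow_zero]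
  obtain ⟨k, -, hk⟩ := Cfsg.Lib.TwoFusion.exists_sylow_conj P le_top hX le_top
  have hkd : k * d * k⁻¹ ∈ R := hclosed k d hd (hk d (subset_closure (by simp)))
  have hky : k * y' * k⁻¹ ∈ R := by
    have h := hk y' (subset_closure (by simp))
    have e : k * y' * k⁻¹ = k * (w ^ (-(j : ℤ)) * g) * r * (k * (w ^ (-(j : ℤ)) * g))⁻¹ := by
      rw [hy', hy]; group
    rw [e] at h ⊢
    exact hclosed _ r hr h
  have hkN : k ∈ N := mem_of_conj_mem P R hRP hRc hclosed N hNR hNC hd hd1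
    ((le_normalizer.trans hNR) hkd)
  have hke : k * w ^ (2 * j + 1) * k⁻¹ ∈ R := by
    rw [← hprod, show k * (d * y') * k⁻¹ = k * d * k⁻¹ * (k * y' * k⁻¹) by group]
    exact mul_mem hkd hky
  have hkw : k * w * k⁻¹ ∈ N := hNC _ hke (fun e => hwne (conj_eq_one_iff.1 e))
    (mem_centralizer_singleton_iff.2
      ((Commute.self_pow w (2 * j + 1)).map (MulAut.conj k).toMonoidHom).eq)
  have hwN : w ∈ N := by
    have h := mul_mem (mul_mem (inv_mem hkN) hkw) hkN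
    rwa [show k⁻¹ * (k * w * k⁻¹) * k = w by group] at h
  refine hg ?_
  have h := mul_mem ((le_normalizer.trans hNR) hd) hwN
  rwa [hw, ← snd_eq hdo] at h

include hRP hRc hRsq hclosed hNR hNC in
theorem eq_top_of_local (hb : ∃ b ∈ (P : Subgroup K), b * b = 1 ∧ b ∉ R)
    (hpair : ∀ b ∈ (P : Subgroup K), b * b = 1 → b ∉ R → ∃ f₁ ∈ R, ∃ f₂ ∈ R, f₁ ≠ 1 ∧ f₂ ≠ 1 ∧
      Commute b f₁ ∧ Commute b f₂ ∧ ∀ g : K, Commute g b → g * f₁ * g⁻¹ ≠ f₂) : N = ⊤ := by
  by_contra hne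
  obtain ⟨g₀, -, hg₀⟩ := SetLike.exists_of_lt (lt_top_iff_ne_top.2 hne)
  haveI : Fact (Nat.Prime 2) := ⟨Nat.prime_two⟩
  have hPN : (P : Subgroup K) ≤ N := (P_le_normalizer P R hRP hclosed).trans hNR
  have hord : ∀ {g r : K}, r ∈ R → r ≠ 1 → orderOf (g * r * g⁻¹) = 2 := fun {g r} hr hr1 => by
    rw [← MulAut.conj_apply, MulEquiv.orderOf_eq]
    exact order_two_of_mul_self (hRsq r hr) hr1
  -- the other involutions of the Sylow subgroup
  have hbC : ∀ b ∈ (P : Subgroup K), b * b = 1 → b ∉ R → centralizer ({b} : Set K) ≤ N := by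
    intro b hbP hb2 hbR g hg
    obtain ⟨f₁, hf₁, f₂, hf₂, h1, h2, hc₁, hc₂, hnc⟩ := hpair b hbP hb2 hbR
    by_contra hgN
    have hy : g * f₁ * g⁻¹ ∉ N := fun h => hgN (mem_of_conj_mem P R hRP hRc hclosed N hNR hNC hf₁ h1 h)
    have hcy : g * f₁ * g⁻¹ ∈ centralizer ({b} : Set K) :=
      mul_mem (mul_mem hg (mem_centralizer_singleton_iff.2 hc₁.symm.eq)) (inv_mem hg)
    obtain ⟨u₁, hu₁, e₁⟩ := conj_of_odd (order_two_of_mul_self (hRsq f₁ hf₁) h1) (hord hf₁ h1)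
      (odd_mul P R hRP hRc hRsq hclosed N hNR hNC hf₁ h1 hf₁ h1 hy)
    obtain ⟨u₂, hu₂, e₂⟩ := conj_of_odd (order_two_of_mul_self (hRsq f₂ hf₂) h2) (hord hf₁ h1)
      (odd_mul P R hRP hRc hRsq hclosed N hNR hNC hf₂ h2 hf₁ h1 hy)
    have hle : ∀ f : K, Commute b f → closure ({f, g * f₁ * g⁻¹} : Set K) ≤ centralizer ({b} : Set K) :=
      fun f hf => (closure_le _).2 (by
        rintro z (rfl | rfl)
        · exact mem_centralizer_singleton_iff.2 hf.symm.eq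
        · exact hcy)
    refine hnc (u₂⁻¹ * u₁) (mem_centralizer_singleton_iff.1 (mul_mem (inv_mem (hle _ hc₂ hu₂)) (hle _ hc₁ hu₁))) ?_
    rw [show u₂⁻¹ * u₁ * f₁ * (u₂⁻¹ * u₁)⁻¹ = u₂⁻¹ * (u₁ * f₁ * u₁⁻¹) * u₂ by group, e₁, ← e₂]
    group
  obtain ⟨b, hbP, hb2, hbR⟩ := hb
  obtain ⟨r, hr, -, -, hr1, -⟩ := hpair b hbP hb2 hbR
  have hyN : g₀ * r * g₀⁻¹ ∉ N := fun h => hg₀ (mem_of_conj_mem P R hRP hRc hclosed N hNR hNC hr hr1 h)
  have hbo : orderOf b = 2 := order_two_of_mul_self hb2 fun e => hbR (e ▸ one_mem _)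
  have hev : Even (orderOf (b * (g₀ * r * g₀⁻¹))) := by
    rw [← Nat.not_odd_iff_even]
    intro ho
    obtain ⟨u, -, hu⟩ := conj_of_odd hbo (hord hr hr1) ho
    have e : b = u⁻¹ * g₀ * r * (u⁻¹ * g₀)⁻¹ := by
      rw [show u⁻¹ * g₀ * r * (u⁻¹ * g₀)⁻¹ = u⁻¹ * (g₀ * r * g₀⁻¹) * u by group, ← hu]
      group
    refine hbR (e ▸ hclosed _ r hr ?_)
    exact e ▸ hbP
  obtain ⟨hz, hzb, hzy⟩ := central_spec hbo (hord hr hr1) hev
  set z := (b * (g₀ * r * g₀⁻¹)) ^ (orderOf (b * (g₀ * r * g₀⁻¹)) / 2)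
  have hzN : z ∈ N := hbC b hbP hb2 hbR (mem_centralizer_singleton_iff.2 hzb.eq)
  obtain ⟨n, hn, hnP⟩ := Cfsg.Lib.TwoFusion.exists_sylow_conj P hPN
    (IsPGroup.of_card (n := 1) (by rw [Nat.card_zpowers, hz, pow_one])) (zpowers_le.2 hzN)
  have hC : centralizer ({n * z * n⁻¹} : Set K) ≤ N := by
    have h2 : n * z * n⁻¹ * (n * z * n⁻¹) = 1 := by
      rw [← MulAut.conj_apply, ← map_mul, sq_of_order_two hz, map_one]
    by_cases hR : n * z * n⁻¹ ∈ R
    · exact hNC _ hR fun e => ne_one_of_order_two hz (conj_eq_one_iff.1 e)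
    · exact hbC _ (hnP z (mem_zpowers z)) h2 hR
  have h := hC (mem_centralizer_singleton_iff.2 (hzy.symm.map (MulAut.conj n).toMonoidHom).eq)
  have h' := mul_mem (mul_mem (inv_mem hn) h) hn
  refine hyN ?_
  simpa [mul_assoc] using h'

end Local

theorem map_core (g x : K) {o : K} (ho : o ∈ Cfsg.centralizerPPrimeCore 2 x) :
    g * o * g⁻¹ ∈ Cfsg.centralizerPPrimeCore 2 (g * x * g⁻¹) := by
  have h := Cfsg.Lib.Components.centralizerPPrimeCore_map_equiv (p := 2) (MulAut.conj g) x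
  rw [MulAut.conj_apply] at h
  rw [← h]
  exact ⟨o, ho, rfl⟩

end Strong

open Strong in
/-- **The strongly closed subgroup is normal.** -/
theorem normal_of_closed {K : Type u} [Group K] [Finite K] (P : Sylow 2 K) (R : Subgroup K)
    (hRP : R ≤ (P : Subgroup K)) (hRc : ∀ a ∈ R, ∀ b ∈ R, a * b = b * a) (hRsq : ∀ a ∈ R, a * a = 1)
    (hRcard : Nat.card R = 16)
    (hclosed : ∀ (g : K), ∀ x ∈ R, g * x * g⁻¹ ∈ (P : Subgroup K) → g * x * g⁻¹ ∈ R)
    (hone : ∀ x ∈ R, ∀ y ∈ R, x ≠ 1 → y ≠ 1 → IsConj x y)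
    (hnc : ∀ x ∈ R, x ≠ 1 → Cfsg.HasNormalPComplement 2 ↥(centralizer ({x} : Set K)))
    (hb : ∃ b ∈ (P : Subgroup K), b * b = 1 ∧ b ∉ R)
    (hpair : ∀ b ∈ (P : Subgroup K), b * b = 1 → b ∉ R → ∃ f₁ ∈ R, ∃ f₂ ∈ R, f₁ ≠ 1 ∧ f₂ ≠ 1 ∧
      Commute b f₁ ∧ Commute b f₂ ∧ ∀ g : K, Commute g b → g * f₁ * g⁻¹ ≠ f₂)
    (hO : ∀ N : Subgroup K, N.Normal → Odd (Nat.card N) → N = ⊥) :
    R.Normal ∧ ∀ x ∈ R, x ≠ 1 → IsPGroup 2 ↥(centralizer ({x} : Set K)) := by
  haveI : Fact (Nat.Prime 2) := ⟨Nat.prime_two⟩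
  have hodd : ∀ x : K, Odd (Nat.card (Cfsg.centralizerPPrimeCore 2 x)) := fun x =>
    Nat.coprime_two_right.1 (Cfsg.Lib.Components.centralizerPPrimeCore_card_coprime x)
  obtain ⟨hWodd, hWC⟩ := Cfsg.Agent.S0217.result (p := 2) R hRc
    (fun a ha => by rw [pow_two]; exact hRsq a ha) (by omega) (Cfsg.centralizerPPrimeCore 2)
    (fun a _ _ => Cfsg.Lib.Components.centralizerPPrimeCore_le_centralizer a)
    (fun a _ _ => (hodd a).not_two_dvd_nat)
    (fun a ha _ b hb' x hx => (mem_normalizer_iff.1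
      (Cfsg.Lib.Components.centralizer_le_normalizer_centralizerPPrimeCore a
        (mem_centralizer_singleton_iff.2 (hRc b hb' a ha))) x).1 hx)
    (fun a _ _ => Cfsg.Agent.PF.isSolvable_of_odd _ (hodd a))
    (fun a ha _ b hb' hb1 x hx => odd_mem_core (hnc b hb' hb1) hx.2 (by
      have h := (hodd a).of_dvd_nat (Subgroup.orderOf_dvd_natCard _ hx.1)
      exact h))
  set W := ⨆ a : {a : K // a ∈ R ∧ a ≠ 1}, Cfsg.centralizerPPrimeCore 2 (a : K) with hW
  have hmem : ∀ x ∈ R, x ≠ 1 → Cfsg.centralizerPPrimeCore 2 x ≤ W := fun x hx hx1 =>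
    le_iSup (fun a : {a : K // a ∈ R ∧ a ≠ 1} => Cfsg.centralizerPPrimeCore 2 (a : K)) ⟨x, hx, hx1⟩
  have hnorm : normalizer (R : Set K) ≤ normalizer (W : Set K) := fun g hg => by
    refine Cfsg.Lib.ZStarApps.mem_normalizer_of_maps fun w hw => ?_
    have hle : W ≤ W.comap (MulAut.conj g).toMonoidHom := iSup_le fun a o ho =>
      hmem _ ((mem_normalizer_iff.1 hg _).1 a.2.1) (fun e => a.2.2 (conj_eq_one_iff.1 e)) (map_core g a.1 ho)
    exact hle hw
  have hcent : ∀ x ∈ R, x ≠ 1 → centralizer ({x} : Set K) ≤ normalizer (W : Set K) := fun x hx hx1 y hy => by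
    obtain ⟨o, ho, hoy⟩ := exists_decomp P R hRP hclosed hx (fun a ha => hRc a ha x hx) (hnc x hx hx1) hy
    have h := mul_mem (le_normalizer (hmem x hx hx1 ho)) (hnorm hoy)
    rwa [mul_inv_cancel_left] at h
  have htop := eq_top_of_local P R hRP hRc hRsq hclosed _ hnorm hcent hb hpair
  have hW1 : W = ⊥ := hO W (normalizer_eq_top_iff.1 htop) (Nat.odd_iff.2 (by omega))
  have hθ : ∀ x ∈ R, x ≠ 1 → Cfsg.centralizerPPrimeCore 2 x = ⊥ := fun x hx hx1 =>
    le_bot_iff.1 (hW1 ▸ hmem x hx hx1)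
  have hcent' : ∀ x ∈ R, x ≠ 1 → centralizer ({x} : Set K) ≤ normalizer (R : Set K) := fun x hx hx1 y hy => by
    obtain ⟨o, ho, hoy⟩ := exists_decomp P R hRP hclosed hx (fun a ha => hRc a ha x hx) (hnc x hx hx1) hy
    rw [hθ x hx hx1, mem_bot] at ho
    subst ho
    simpa using hoy
  refine ⟨normalizer_eq_top_iff.1 (eq_top_of_local P R hRP hRc hRsq hclosed _ le_rfl hcent' hb hpair),
    fun x hx hx1 => ?_⟩
  obtain ⟨n, hn⟩ := core_index (hnc x hx hx1)
  have h0 : Cfsg.pPrimeCore 2 ↥(centralizer ({x} : Set K)) = ⊥ :=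
    Subgroup.map_injective (centralizer ({x} : Set K)).subtype_injective ((hθ x hx hx1).trans (Subgroup.map_bot _).symm)
  rw [h0, index_bot] at hn
  exact IsPGroup.of_card hn

end Cfsg.Lib.HSType
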