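import Cfsg.Agent.HSType.CentComp
import Cfsg.Agent.HSType.Isolated
import Cfsg.Agent.HSType.Strong

/-!
# The centraliser of the root modulo the root and the odd core

It is an extension of an elementary group of order 16 by a group of order 60.
-/

set_option autoImplicit false
set_option linter.unusedSectionVars false
set_option linter.style.haveILetI false
set_option maxRecDepth 100000
set_option maxHeartbeats 800000

namespace Cfsg.Lib.HSType

open Subgroup Mdl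
open Cfsg.Lib.Walter (Oc)

universe u

/-- Congruent 2-elements modulo an odd normal subgroup are conjugate. -/
theorem conj_of_cong {X : Type*} [Group X] [Finite X] {N : Subgroup X} [N.Normal] (hN : Odd (Nat.card N))
    {a b : X} {i j : ℕ} (ha : a ^ 2 ^ i = 1) (hb : b ^ 2 ^ j = 1) (h : a * b⁻¹ ∈ N) :
    ∃ o ∈ N, o * a * o⁻¹ = b := by
  haveI : Fact (Nat.Prime 2) := ⟨Nat.prime_two⟩
  set H := N ⊔ zpowers b with hH
  have hpg : ∀ {c : X} {k : ℕ}, c ^ 2 ^ k = 1 → IsPGroup 2 (zpowers c) := fun {c k} hc ⟨y, hy⟩ => by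
    obtain ⟨z, rfl⟩ := mem_zpowers_iff.1 hy
    refine ⟨k, Subtype.ext ?_⟩
    show (c ^ z) ^ 2 ^ k = 1
    rw [← zpow_natCast, ← zpow_mul, mul_comm z, zpow_mul, zpow_natCast, hc, one_zpow]
  have hbH : b ∈ H := mem_sup_right (mem_zpowers b)
  have haH : a ∈ H := by
    rw [show a = a * b⁻¹ * b by group]
    exact mul_mem (mem_sup_left h) hbH
  have triv : ∀ {k : ℕ} {c : X}, c ∈ N → c ^ 2 ^ k = 1 → c = 1 := fun {k c} hc hk =>
    orderOf_eq_one_iff.1 (Nat.eq_one_of_dvd_coprimes ((Nat.coprime_two_left.2 hN).pow_left k)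
      (orderOf_dvd_of_pow_eq_one hk) (Subgroup.orderOf_dvd_natCard _ hc))
  obtain ⟨P, hP⟩ := ((hpg hb).of_equiv (subgroupOfEquivOfLe (zpowers_le.2 hbH)).symm).exists_le_sylow
  obtain ⟨Q, hQ⟩ := ((hpg ha).of_equiv (subgroupOfEquivOfLe (zpowers_le.2 haH)).symm).exists_le_sylow
  have hPb : ∀ p ∈ (P : Subgroup H), (p : X) ∈ zpowers b := fun p hp => by
    obtain ⟨n, hn, z, hz, e⟩ := mem_sup_of_normal_left.1 p.2
    have hzP : (⟨z, mem_sup_right hz⟩ : H) ∈ (P : Subgroup H) := hP (mem_subgroupOf.2 hz)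
    obtain ⟨k, hk⟩ := P.2 ⟨p * ⟨z, mem_sup_right hz⟩⁻¹, mul_mem hp (inv_mem hzP)⟩
    have hk' : ((p : X) * z⁻¹) ^ 2 ^ k = 1 := congrArg (fun y : (P : Subgroup H) => ((y : H) : X)) hk
    have : n = 1 := by
      refine triv hn (k := k) ?_
      rw [← hk', ← e, mul_inv_cancel_right]
    rw [← e, this, one_mul]
    exact hz
  obtain ⟨g, hg⟩ := MulAction.exists_smul_eq H Q P
  have hga : g * ⟨a, haH⟩ * g⁻¹ ∈ (P : Subgroup H) := by
    rw [← hg, Sylow.coe_subgroup_smul]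
    exact ⟨⟨a, haH⟩, hQ (mem_subgroupOf.2 (mem_zpowers a)), rfl⟩
  obtain ⟨n, hn, z, hz, e⟩ := mem_sup_of_normal_left.1 g.2
  obtain ⟨m, hm⟩ := mem_zpowers_iff.1 hz
  have hc : (g : X) * a * (g : X)⁻¹ * b⁻¹ = 1 := by
    obtain ⟨r, hr⟩ := mem_zpowers_iff.1 (hPb _ hga)
    have hN' : (g : X) * a * (g : X)⁻¹ * b⁻¹ ∈ N := by
      rw [← e, ← hm, show n * b ^ m * a * (n * b ^ m)⁻¹ * b⁻¹ =
        n * (b ^ m * (a * b⁻¹) * (b ^ m)⁻¹) * (b * n⁻¹ * b⁻¹) by group]
      exact mul_mem (mul_mem hn (Normal.conj_mem inferInstance _ h _)) (Normal.conj_mem inferInstance _ (inv_mem hn) _)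
    refine triv hN' (k := j) ?_
    rw [show (g : X) * a * (g : X)⁻¹ = b ^ r from hr.symm, ← zpow_sub_one, ← zpow_natCast, ← zpow_mul,
      mul_comm, zpow_mul, zpow_natCast, hb, one_zpow]
  have hc' := mul_inv_eq_one.1 hc
  refine ⟨(b ^ m)⁻¹ * n * b ^ m, by simpa using Normal.conj_mem (H := N) inferInstance n hn (b ^ m)⁻¹, ?_⟩
  calc (b ^ m)⁻¹ * n * b ^ m * a * ((b ^ m)⁻¹ * n * b ^ m)⁻¹
      = (b ^ m)⁻¹ * ((g : X) * a * (g : X)⁻¹) * b ^ m := by rw [← e, ← hm]; group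
    _ = b := by rw [hc']; group

/-- The centraliser of the root in the model. -/
def Cm : Subgroup Mdl := centralizer ({gc} : Set Mdl)

theorem mem_Cm {q : Mdl} : q ∈ Cm ↔ q * gc = gc * q := mem_centralizer_singleton_iff

theorem Cm_card : Nat.card Cm = 256 := by
  classical
  rw [Nat.card_congr (Equiv.subtypeEquivRight fun q : Mdl => mem_Cm (q := q)), Nat.card_eq_fintype_card,
    Fintype.card_subtype]
  exact root_witness.2.2.2.2.2.2.2.2.2.2.2

/-- The large subgroup in the model. -/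
def Rm : Subgroup Cm where
  carrier := {q | InR (q : Mdl) = true}
  one_mem' := show InR 1 = true by decide +kernel
  mul_mem' := fun {p q} hp hq => ((large_facts hp).2.2.2 _ hq).1
  inv_mem' := fun {p} hp => by
    obtain ⟨-, h2, -, hm⟩ := large_facts hp
    have h4 : (p : Mdl) * p * ((p : Mdl) * p) = 1 := by
      rcases h2 with e | e <;> rw [e]
      · exact one_mul 1
      · exact t0_facts.1
    show InR ((p : Mdl)⁻¹) = true
    rw [inv_eq_of_mul_eq_one_right (show (p : Mdl) * ((p : Mdl) * p * p) = 1 by rw [← h4]; group)]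
    exact ((large_facts ((large_facts hp).2.2.2 _ hp).1).2.2.2 _ hp).1

theorem root_pow_cases : ∀ i : ZMod 4,
    gc ^ i.val = 1 ∨ gc ^ i.val = gc ∨ gc ^ i.val = t0 ∨ gc ^ i.val = gc⁻¹ := by decide +kernel

theorem swap_check : (centC.all fun q => Nat.beq (mulN q (code v6)) (mulN (code v6) q) ||
    Nat.beq (mulN q (code v6)) (mulN (mulN (code v6) (code t0)) q)) = true := by decide +kernel

/-- The first vector has two conjugates in the centraliser of the root. -/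
theorem swap_facts {q : Mdl} (hq : q * gc = gc * q) : q * v6 = v6 * q ∨ q * v6 = v6 * t0 * q := by
  have hm : code q ∈ centC := by
    rw [centC, List.mem_filter, List.mem_range, ← code_mul, ← code_mul, Nat.beq_eq, code_inj]
    exact ⟨code_lt q, hq⟩
  have h := List.all_eq_true.1 swap_check _ hm
  simp only [← code_mul, Bool.or_eq_true, Nat.beq_eq, code_inj] at h
  exact h

namespace Typed

variable {G : Type u} [Group G] [Finite G] (c : Typed G)

/-- The root, inside its centraliser. -/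
def γW : ↥c.W := ⟨c.ι gc, ι_mem_W rfl⟩

instance γW_normal : (zpowers c.γW).Normal := ⟨fun u hu g => by
  obtain ⟨i, rfl⟩ := mem_zpowers_iff.1 hu
  have h : Commute g c.γW := Subtype.ext (mem_W.1 g.2)
  rw [(h.zpow_right i).eq, mul_inv_cancel_right]
  exact zpow_mem (mem_zpowers _) i⟩

/-- The root and the odd core. -/
def Ker : Subgroup ↥c.W := zpowers c.γW ⊔ Cfsg.pPrimeCore 2 ↥c.W

instance Ker_normal : c.Ker.Normal := by unfold Ker; infer_instance

/-- The centraliser of the root modulo the root and the odd core. -/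
abbrev K : Type u := ↥c.W ⧸ c.Ker

/-- The projection. -/
def ψ : ↥c.W →* c.K := QuotientGroup.mk' c.Ker

/-- The Sylow subgroup of the centraliser of the root. -/
def embW : Cm →* ↥c.W where
  toFun q := ⟨c.ι q, ι_mem_W (mem_Cm.1 q.2)⟩
  map_one' := Subtype.ext (map_one c.ι)
  map_mul' _ _ := Subtype.ext (map_mul c.ι _ _)

theorem embW_inj : Function.Injective c.embW := fun p q h =>
  Subtype.ext (c.ι_inj (congrArg (fun y : ↥c.W => (y : G)) h))

/-- The Sylow subgroup of the quotient. -/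
def f : Cm →* c.K := c.ψ.comp c.embW

variable {c}

theorem ψ_surj : Function.Surjective c.ψ := QuotientGroup.mk'_surjective _

theorem embW_sylow : ∃ P : Sylow 2 ↥c.W, (P : Subgroup ↥c.W) = c.embW.range := by
  haveI : Fact (Nat.Prime 2) := ⟨Nat.prime_two⟩
  have hc : Nat.card c.embW.range = 256 := by
    rw [← Nat.card_congr (MonoidHom.ofInjective c.embW_inj).toEquiv, Cm_card]
  obtain ⟨P, hP⟩ := (IsPGroup.of_card (p := 2) (n := 8) hc).exists_le_sylow
  refine ⟨P, (Subgroup.eq_of_le_of_card_ge hP ?_).symm⟩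
  obtain ⟨k, hk, hkP⟩ := W_conj (c := c) (P.2.map c.W.subtype) (map_subtype_le _)
  rw [hc, ← card_map_of_injective (K := (P : Subgroup ↥c.W)) c.W.subtype_injective,
    ← card_map_of_injective (K := (P : Subgroup ↥c.W).map c.W.subtype) (f := (MulAut.conj k).toMonoidHom)
      (MulEquiv.injective _), ← Cm_card, ← card_map_of_injective (K := Cm) c.ι_inj]
  refine Subgroup.card_le_of_le ?_
  rintro _ ⟨x, hx, rfl⟩
  obtain ⟨q, hq, e⟩ := hkP x hx
  exact ⟨q, mem_Cm.2 hq, e⟩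

theorem ψ_eq_one {w : ↥c.W} (h : c.ψ w = 1) :
    ∃ i : ℤ, ∃ o ∈ Cfsg.pPrimeCore 2 ↥c.W, w = c.γW ^ i * o := by
  have h' : w ∈ c.Ker := (QuotientGroup.eq_one_iff w).1 h
  obtain ⟨z, hz, o, ho, e⟩ := mem_sup_of_normal_left.1 h'
  obtain ⟨i, rfl⟩ := mem_zpowers_iff.1 hz
  exact ⟨i, o, ho, e.symm⟩

theorem embW_gc : c.embW ⟨gc, mem_Cm.2 rfl⟩ = c.γW := rfl

theorem ψ_core {o : ↥c.W} (ho : o ∈ Cfsg.pPrimeCore 2 ↥c.W) : c.ψ o = 1 :=
  (QuotientGroup.eq_one_iff o).2 (mem_sup_right ho)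

theorem f_gc : c.f ⟨gc, mem_Cm.2 rfl⟩ = 1 := (QuotientGroup.eq_one_iff _).2 (mem_sup_left (mem_zpowers _))

theorem f_ker {q : Cm} (h : c.f q = 1) :
    (q : Mdl) = 1 ∨ (q : Mdl) = gc ∨ (q : Mdl) = t0 ∨ (q : Mdl) = gc⁻¹ := by
  obtain ⟨i, o, ho, e⟩ := ψ_eq_one h
  have ho' : o = c.embW ((⟨gc, mem_Cm.2 rfl⟩ : Cm) ^ (-i) * q) := by
    rw [map_mul, map_zpow, embW_gc, e, zpow_neg, inv_mul_cancel_left]
  set r := (⟨gc, mem_Cm.2 rfl⟩ : Cm) ^ (-i) * q with hr
  have hr1 : r = 1 := by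
    refine c.embW_inj ((?_ : c.embW r = 1).trans (map_one _).symm)
    obtain ⟨j, hj⟩ := (IsPGroup.of_card (p := 2) (n := 8) Cm_card) r
    rw [← ho']
    refine orderOf_eq_one_iff.1 (Nat.eq_one_of_dvd_coprimes
      ((Nat.coprime_two_left.2 Cfsg.Lib.ZStarApps.odd_card_pPrimeCore).pow_left j)
      (orderOf_dvd_of_pow_eq_one (by rw [ho', ← map_pow, hj, map_one])) (Subgroup.orderOf_dvd_natCard _ ho))
  have hq : (q : Mdl) = gc ^ i := by
    rw [hr, zpow_neg, inv_mul_eq_one] at hr1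
    rw [← hr1, SubgroupClass.coe_zpow]
  have h4 : gc ^ (4 : ℕ) = 1 := by decide +kernel
  rw [hq, zpow_eq_zpow_emod' i h4]
  have hm : 0 ≤ i % ((4 : ℕ) : ℤ) ∧ i % ((4 : ℕ) : ℤ) < 4 := ⟨Int.emod_nonneg _ (by norm_num),
    Int.emod_lt_of_pos _ (by norm_num)⟩
  obtain ⟨n, hn⟩ := Int.eq_ofNat_of_zero_le hm.1
  rw [hn, zpow_natCast]
  have hn4 : n < 4 := by omega
  have := root_pow_cases (n : ZMod 4)
  rwa [ZMod.val_natCast_of_lt hn4] at this

theorem two_pow (q : Cm) : (c.embW q) ^ 2 ^ 8 = 1 := by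
  rw [← map_pow, show q ^ 2 ^ 8 = 1 from ?_, map_one]
  rw [show (2 : ℕ) ^ 8 = Nat.card Cm from Cm_card.symm]
  exact pow_card_eq_one'

/-- **Lifting the fusion of the quotient.** -/
theorem lift {g : ↥c.W} {x y : Cm} (h : c.ψ g * c.f x * (c.ψ g)⁻¹ = c.f y) :
    ∃ o : ↥c.W, o ∈ Cfsg.pPrimeCore 2 ↥c.W ∧
      ∃ i : ℤ, c.Img ((o * g : ↥c.W) : G) (x : Mdl) ((y : Mdl) * gc ^ i) := by
  have h1 : c.ψ ((c.embW y)⁻¹ * (g * c.embW x * g⁻¹)) = 1 := by
    rw [map_mul, map_mul, map_mul, map_inv, map_inv]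
    exact inv_mul_eq_one.2 h.symm
  obtain ⟨i, o, ho, e⟩ := ψ_eq_one h1
  set b : Cm := y * (⟨gc, mem_Cm.2 rfl⟩ : Cm) ^ i with hb
  have hgx : g * c.embW x * g⁻¹ = c.embW b * o := by
    rw [hb, map_mul, map_zpow, embW_gc, mul_assoc (c.embW y), ← e, mul_inv_cancel_left]
  obtain ⟨n, hn, en⟩ := conj_of_cong (N := Cfsg.pPrimeCore 2 ↥c.W) Cfsg.Lib.ZStarApps.odd_card_pPrimeCore
    (a := g * c.embW x * g⁻¹) (b := c.embW b) (i := 8) (j := 8)
    (by rw [← MulAut.conj_apply, ← map_pow, two_pow, map_one]) (two_pow b) (by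
      rw [hgx]; exact Normal.conj_mem inferInstance o ho _)
  refine ⟨n, hn, i, ?_⟩
  have e' := congrArg (fun y : ↥c.W => (y : G)) en
  show c.ι ((y : Mdl) * gc ^ i) = ((n : G) * g) * c.ι x * ((n : G) * g)⁻¹
  calc c.ι ((y : Mdl) * gc ^ i) = c.ι (b : Mdl) := by rw [hb, Subgroup.coe_mul, SubgroupClass.coe_zpow]
    _ = (n : G) * ((g : G) * c.ι x * (g : G)⁻¹) * (n : G)⁻¹ := e'.symm
    _ = _ := by group

/-- **The odd core of the quotient is trivial.** -/
theorem K_core (N : Subgroup c.K) [N.Normal] (ho : Odd (Nat.card N)) : N = ⊥ := by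
  set L := N.comap c.ψ with hL
  have hKer : c.Ker ≤ L := fun w hw => by
    show c.ψ w ∈ N
    rw [show c.ψ w = 1 from (QuotientGroup.eq_one_iff w).2 hw]
    exact one_mem _
  have h1 : Odd (c.Ker.relIndex L) := by
    have := relIndex_ker L c.ψ
    rw [show c.ψ.ker = c.Ker from QuotientGroup.ker_mk' _, hL, map_comap_eq_self_of_surjective ψ_surj] at this
    rwa [this]
  have h2 : Odd ((zpowers c.γW).relIndex c.Ker) := by
    rw [Ker, sup_comm, relIndex_sup_right]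
    exact (Cfsg.Lib.ZStarApps.odd_card_pPrimeCore).of_dvd_nat (relIndex_dvd_card _ _)
  have h3 : Odd ((zpowers c.γW).relIndex L) := by
    rw [← relIndex_mul_relIndex _ _ _ le_sup_left hKer]
    exact h2.mul h1
  have hZp : IsPGroup 2 (zpowers c.γW) := by
    rintro ⟨y, hy⟩
    refine ⟨8, Subtype.ext ?_⟩
    obtain ⟨i, rfl⟩ := mem_zpowers_iff.1 hy
    show (c.γW ^ i) ^ 2 ^ 8 = 1
    rw [← embW_gc, ← map_zpow]
    exact two_pow _
  rw [eq_bot_iff]
  intro k hk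
  obtain ⟨w, rfl⟩ := ψ_surj k
  obtain ⟨o, ho', hz⟩ := Cfsg.Lib.AltEightType.split_central (le_sup_left.trans hKer) (fun z hz v _ => by
    obtain ⟨i, rfl⟩ := mem_zpowers_iff.1 hz
    exact ((show Commute c.γW v from Subtype.ext (mem_W.1 v.2).symm).zpow_left i).eq) hZp h3 hk
  have hoc : o ∈ Cfsg.pPrimeCore 2 ↥c.W := by
    refine Cfsg.Lib.Components.le_pPrimeCore (hn := ⟨fun u hu g => ?_⟩)
      (Nat.coprime_two_right.2 (Cfsg.Lib.AltEightType.odd_core L)) ho'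
    refine Cfsg.Lib.AltEightType.le_core (U := (Cfsg.Lib.AltEightType.core L).map (MulAut.conj g).toMonoidHom)
      ?_ ?_ ?_ ⟨u, hu, rfl⟩
    · rintro _ ⟨v, hv, rfl⟩
      exact Normal.conj_mem (inferInstance : L.Normal) v (Cfsg.Lib.AltEightType.core_le L hv) g
    · rintro v hv _ ⟨x, hx, rfl⟩
      refine ⟨g⁻¹ * v * g * x * (g⁻¹ * v * g)⁻¹, (mem_normalizer_iff.1
        (Cfsg.Lib.AltEightType.core_normalized ?_) x).1 hx, ?_⟩
      · simpa using Normal.conj_mem (inferInstance : L.Normal) v hv g⁻¹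
      · show g * (g⁻¹ * v * g * x * (g⁻¹ * v * g)⁻¹) * g⁻¹ = v * (g * x * g⁻¹) * v⁻¹
        group
    · rw [card_map_of_injective (MulEquiv.injective _)]
      exact Cfsg.Lib.AltEightType.odd_core L
  rw [mem_bot, show w = o * (o⁻¹ * w) by group, map_mul, ψ_core hoc, one_mul]
  exact (QuotientGroup.eq_one_iff _).2 (mem_sup_left hz)

end Typed

end Cfsg.Lib.HSType
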