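import Cfsg.Agent.HSType.CentMain

/-!
# The centraliser of the central involution modulo its odd core

It is the product of the odd core and the normaliser of the large subgroup.
-/

set_option autoImplicit false
set_option linter.unusedSectionVars false
set_option linter.style.haveILetI false
set_option maxRecDepth 100000
set_option maxHeartbeats 800000

namespace Cfsg.Lib.HSType

open Subgroup Mdl
open Cfsg.Lib.Walter (Oc)

universe u

theorem large_move : ((largeN.all fun q => InR (dec (mulN (mulN (code gs) q) (code gs)))) = true) ∧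
    gs * gs = 1 := by decide +kernel

/-- The complement normalises the large subgroup. -/
theorem large_flip {q : Mdl} (h : InR q = true) : InR (gs * q * gs⁻¹) = true := by
  have h' := List.all_eq_true.1 large_move.1 _ (mem_largeN h)
  rw [← code_mul, ← code_mul, dec_code] at h'
  rwa [inv_eq_of_mul_eq_one_right large_move.2]

namespace Typed

variable {G : Type u} [Group G] [Finite G] (c : Typed G)

/-- The large subgroup. -/
def RG : Subgroup G := (Rm.map c.embW).map c.W.subtype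

variable {c}

theorem mem_RG {g : G} : g ∈ c.RG ↔ ∃ q : Mdl, InR q = true ∧ c.ι q = g := by
  constructor
  · rintro ⟨_, ⟨q, hq, rfl⟩, rfl⟩
    exact ⟨q, hq, rfl⟩
  · rintro ⟨q, hq, rfl⟩
    exact ⟨c.embW ⟨q, mem_Cm.2 (large_facts hq).1⟩, ⟨_, hq, rfl⟩, rfl⟩

theorem T_mem_RG : c.T ∈ c.RG := mem_RG.2 ⟨t0, outer_witness.2.1, rfl⟩

theorem Oc_conj {g o : G} (hg : g ∈ centralizer ({c.T} : Set G)) (ho : o ∈ Oc c.T) : g * o * g⁻¹ ∈ Oc c.T := by
  obtain ⟨y, hy, rfl⟩ := ho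
  exact ⟨⟨g, hg⟩ * y * ⟨g, hg⟩⁻¹, Normal.conj_mem inferInstance y hy _, rfl⟩

theorem Oc_le : Oc c.T ≤ centralizer ({c.T} : Set G) := map_subtype_le _

theorem odd_Oc : Odd (Nat.card ↥(Oc c.T)) :=
  Nat.coprime_two_right.1 (Cfsg.Lib.Components.centralizerPPrimeCore_card_coprime c.T)

/-- A normalising element normalises the centraliser of the root. -/
theorem W_norm {n y : G} (hn : n * c.ι gc * n⁻¹ = c.ι gc ∨ n * c.ι gc * n⁻¹ = c.ι gc⁻¹) (hy : y ∈ c.W) :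
    n * y * n⁻¹ ∈ c.W := by
  have h := (show Commute y (c.ι gc) from mem_W.1 hy).map (MulAut.conj n).toMonoidHom
  rw [mem_W]
  rcases hn with e | e
  · rw [← e]; exact h.eq
  · rw [show c.ι gc = (n * c.ι gc * n⁻¹)⁻¹ by rw [e, ← map_inv, inv_inv]]
    exact h.inv_right.eq

theorem norm_inv {n : G} (hn : n * c.ι gc * n⁻¹ = c.ι gc ∨ n * c.ι gc * n⁻¹ = c.ι gc⁻¹) :
    n⁻¹ * c.ι gc * n⁻¹⁻¹ = c.ι gc ∨ n⁻¹ * c.ι gc * n⁻¹⁻¹ = c.ι gc⁻¹ := by
  rcases hn with e | e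
  · left; conv_lhs => rw [← e]
    group
  · right
    rw [map_inv] at e ⊢
    have h : n * (c.ι gc)⁻¹ * n⁻¹ = c.ι gc := by rw [← conj_inv, e, inv_inv]
    calc n⁻¹ * c.ι gc * n⁻¹⁻¹ = n⁻¹ * (n * (c.ι gc)⁻¹ * n⁻¹) * n⁻¹⁻¹ := by rw [h]
      _ = (c.ι gc)⁻¹ := by group

/-- **The odd core of the centraliser of the root is inside that of the centre.** -/
theorem OW_le (hp : c.Pattern) : (Cfsg.pPrimeCore 2 ↥c.W).map c.W.subtype ≤ Oc c.T := by
  set C0 := centralizer ({c.T} : Set G) with hC0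
  set U := (Cfsg.pPrimeCore 2 ↥c.W).map c.W.subtype with hU
  have hUW : U ≤ c.W := map_subtype_le _
  have hUodd : Odd (Nat.card U) := by
    rw [hU, card_map_of_injective c.W.subtype_injective]; exact Cfsg.Lib.ZStarApps.odd_card_pPrimeCore
  -- normalised by the normaliser of the root
  have hnU : ∀ n : G, (n * c.ι gc * n⁻¹ = c.ι gc ∨ n * c.ι gc * n⁻¹ = c.ι gc⁻¹) → ∀ u ∈ U, n * u * n⁻¹ ∈ U := by
    intro n hn u hu
    set U' : Subgroup ↥c.W := (U.map (MulAut.conj n).toMonoidHom).subgroupOf c.W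
    haveI : U'.Normal := ⟨fun x hx w => by
      obtain ⟨v, hv, e⟩ := mem_subgroupOf.1 hx
      obtain ⟨y, hy, e'⟩ := hv
      have hw' : n⁻¹ * (w : G) * n ∈ c.W := by
        have := W_norm (norm_inv hn) w.2
        rwa [inv_inv] at this
      refine mem_subgroupOf.2 ⟨n⁻¹ * w * n * v * (n⁻¹ * w * n)⁻¹, ⟨⟨_, hw'⟩ * y * ⟨_, hw'⟩⁻¹,
        Normal.conj_mem inferInstance y hy _, by rw [← e']; rfl⟩, ?_⟩
      show n * (n⁻¹ * w * n * v * (n⁻¹ * w * n)⁻¹) * n⁻¹ = (w : G) * x * (w : G)⁻¹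
      rw [← e]
      show _ = (w : G) * (n * v * n⁻¹) * (w : G)⁻¹
      group⟩
    have hodd' : Odd (Nat.card U') := by
      rw [← card_map_of_injective (K := U') c.W.subtype_injective, subgroupOf_map_subtype]
      refine hUodd.of_dvd_nat ?_
      rw [← card_map_of_injective (K := U) (f := (MulAut.conj n).toMonoidHom) (MulEquiv.injective _)]
      exact card_dvd_of_le inf_le_left
    have hle := Cfsg.Lib.Components.le_pPrimeCore (hn := this) (Nat.coprime_two_right.2 hodd')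
    have hW : n * u * n⁻¹ ∈ c.W := W_norm hn (hUW hu)
    exact ⟨⟨_, hW⟩, hle (mem_subgroupOf.2 ⟨u, hu, rfl⟩), rfl⟩
  set X := (Oc c.T).subgroupOf C0 ⊔ U.subgroupOf C0 with hX
  haveI : ((Oc c.T).subgroupOf C0).Normal := ⟨fun x hx g => mem_subgroupOf.2 (Oc_conj g.2 (mem_subgroupOf.1 hx))⟩
  have hXn : X.Normal := ⟨fun x hx g => by
    obtain ⟨o, ho, u, hu, rfl⟩ := mem_sup_of_normal_left.1 hx
    obtain ⟨o₁, ho₁, hn⟩ := root_decomp hp g.2
    set n : G := o₁⁻¹ * (g : G) with hn'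
    have hnu := hnU n hn _ (mem_subgroupOf.1 hu)
    have h1 : (g : G) * o * (g : G)⁻¹ ∈ Oc c.T := Oc_conj g.2 (mem_subgroupOf.1 ho)
    have h2 : o₁ * ((n * u * n⁻¹) * o₁⁻¹ * (n * u * n⁻¹)⁻¹) ∈ Oc c.T :=
      mul_mem ho₁ (Oc_conj (W_le (hUW hnu)) (inv_mem ho₁))
    have e : (g : G) * (o * u : ↥C0) * (g : G)⁻¹ =
        (g : G) * o * (g : G)⁻¹ * (o₁ * ((n * u * n⁻¹) * o₁⁻¹ * (n * u * n⁻¹)⁻¹)) * (n * u * n⁻¹) := by
      rw [hn', Subgroup.coe_mul]; group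
    have hm : (⟨_, Oc_le (mul_mem h1 h2)⟩ : ↥C0) * ⟨_, W_le (hUW hnu)⟩ ∈ X :=
      mul_mem (mem_sup_left (mem_subgroupOf.2 (mul_mem h1 h2))) (mem_sup_right (mem_subgroupOf.2 hnu))
    convert hm using 1
    exact Subtype.ext e⟩
  have hXodd : Odd (Nat.card X) := by
    refine Odd.of_dvd_nat ((odd_Oc (c := c)).mul hUodd) ?_
    have h1 := relIndex_mul_relIndex ⊥ ((Oc c.T).subgroupOf C0) X bot_le le_sup_left
    rw [relIndex_bot_left, relIndex_bot_left, hX, sup_comm, relIndex_sup_right] at h1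
    rw [hX, sup_comm, ← h1, ← Nat.card_congr (subgroupOfEquivOfLe (Oc_le (c := c))).toEquiv,
      ← Nat.card_congr (subgroupOfEquivOfLe (hUW.trans W_le)).toEquiv]
    exact Nat.mul_dvd_mul_left _ (relIndex_dvd_card _ _)
  have hle := Cfsg.Lib.Components.le_pPrimeCore (hn := hXn) (Nat.coprime_two_right.2 hXodd)
  intro u hu
  exact ⟨⟨u, W_le (hUW hu)⟩, hle (mem_sup_right (mem_subgroupOf.2 hu)), rfl⟩

/-- **The centraliser of the root normalises the large subgroup modulo the core.** -/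
theorem W_decomp (hp : c.Pattern) (w : ↥c.W) :
    ∃ o ∈ Cfsg.pPrimeCore 2 ↥c.W, ((o⁻¹ * w : ↥c.W) : G) ∈ normalizer (c.RG : Set G) := by
  haveI : Fact (Nat.Prime 2) := ⟨Nat.prime_two⟩
  obtain ⟨hn, -⟩ := Rb_normal hp
  set L := c.Rb.comap c.ψ
  haveI : L.Normal := inferInstance
  have hRL : Rm.map c.embW ≤ L := by
    rintro _ ⟨q, hq, rfl⟩
    exact ⟨q, hq, rfl⟩
  have hR2 : IsPGroup 2 (Rm.map c.embW) := ((IsPGroup.of_card (p := 2) (n := 8) Cm_card).to_subgroup _).map _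
  obtain ⟨P, hP⟩ := (hR2.of_equiv (subgroupOfEquivOfLe hRL).symm).exists_le_sylow
  have hPle : ∀ y ∈ (P : Subgroup L), (y : ↥c.W) ∈ Rm.map c.embW := by
    intro y hy
    obtain ⟨q, hq, e⟩ := y.2
    have h1 : c.ψ ((c.embW q)⁻¹ * y) = 1 := by
      rw [map_mul, map_inv, inv_mul_eq_one]; exact e
    obtain ⟨i, o, ho, e'⟩ := ψ_eq_one h1
    set r : Cm := q * (⟨gc, mem_Cm.2 rfl⟩ : Cm) ^ i with hr
    have hrR : r ∈ Rm := mul_mem hq (zpow_mem local_witness.2.2.2.2.2.2.2.2.2.2.2.1 i)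
    have hy' : (y : ↥c.W) = c.embW r * o := by
      rw [hr, map_mul, map_zpow, embW_gc, mul_assoc (c.embW q), ← e', mul_inv_cancel_left]
    have hro : (⟨c.embW r, hRL ⟨r, hrR, rfl⟩⟩ : L)⁻¹ * y ∈ (P : Subgroup L) :=
      mul_mem (inv_mem (hP (mem_subgroupOf.2 ⟨r, hrR, rfl⟩))) hy
    obtain ⟨k, hk⟩ := P.2 ⟨_, hro⟩
    have hk' : ((c.embW r)⁻¹ * (y : ↥c.W)) ^ 2 ^ k = 1 :=
      congrArg (fun z : (P : Subgroup L) => ((z : L) : ↥c.W)) hk
    rw [hy', inv_mul_cancel_left] at hk'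
    have ho1 : o = 1 := orderOf_eq_one_iff.1 (Nat.eq_one_of_dvd_coprimes
      ((Nat.coprime_two_left.2 Cfsg.Lib.ZStarApps.odd_card_pPrimeCore).pow_left k)
      (orderOf_dvd_of_pow_eq_one hk') (Subgroup.orderOf_dvd_natCard _ ho))
    exact ⟨r, hrR, by rw [hy', ho1, mul_one]⟩
  have hPR : (P : Subgroup L).map L.subtype = Rm.map c.embW := le_antisymm
    (by rintro _ ⟨y, hy, rfl⟩; exact hPle y hy) fun x hx => ⟨⟨x, hRL hx⟩, hP (mem_subgroupOf.2 hx), rfl⟩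
  have htop := Sylow.normalizer_sup_eq_top P
  rw [hPR] at htop
  have hw : w ∈ normalizer ((Rm.map c.embW : Subgroup ↥c.W) : Set ↥c.W) ⊔ L := htop ▸ mem_top w
  rw [sup_comm] at hw
  obtain ⟨l, hl, n, hn', rfl⟩ := mem_sup_of_normal_left.1 hw
  obtain ⟨q, hq, e⟩ := hl
  have h1 : c.ψ ((c.embW q)⁻¹ * l) = 1 := by rw [map_mul, map_inv, inv_mul_eq_one]; exact e
  obtain ⟨i, o, ho, e'⟩ := ψ_eq_one h1
  set r : Cm := q * (⟨gc, mem_Cm.2 rfl⟩ : Cm) ^ i with hr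
  have hrR : r ∈ Rm := mul_mem hq (zpow_mem local_witness.2.2.2.2.2.2.2.2.2.2.2.1 i)
  have hl' : l = c.embW r * o := by
    rw [hr, map_mul, map_zpow, embW_gc, mul_assoc (c.embW q), ← e', mul_inv_cancel_left]
  refine ⟨c.embW r * o * (c.embW r)⁻¹, Normal.conj_mem inferInstance o ho _, ?_⟩
  rw [hl', show (c.embW r * o * (c.embW r)⁻¹)⁻¹ * (c.embW r * o * n) = c.embW r * n by group]
  have hN := mul_mem (le_normalizer (mem_map_of_mem c.embW hrR)) hn'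
  refine Cfsg.Lib.ZStarApps.mem_normalizer_of_maps fun x hx => ?_
  obtain ⟨y, hy, rfl⟩ := hx
  exact ⟨_, (mem_normalizer_iff.1 hN y).1 hy, rfl⟩

/-- **The centraliser of the centre.** -/
theorem C0_decomp (hp : c.Pattern) {g : G} (hg : g ∈ centralizer ({c.T} : Set G)) :
    ∃ o ∈ Oc c.T, o⁻¹ * g ∈ normalizer (c.RG : Set G) := by
  obtain ⟨o, ho, hn⟩ := root_decomp hp hg
  set n := o⁻¹ * g with hn'
  have hs : c.ι gs ∈ normalizer (c.RG : Set G) := Cfsg.Lib.ZStarApps.mem_normalizer_of_maps fun x hx => by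
    obtain ⟨q, hq, rfl⟩ := mem_RG.1 hx
    exact mem_RG.2 ⟨_, large_flip hq, by rw [map_mul, map_mul, map_inv]⟩
  obtain ⟨s, hs', hw⟩ : ∃ s ∈ normalizer (c.RG : Set G), n * s⁻¹ ∈ c.W := by
    rcases hn with e | e
    · exact ⟨1, one_mem _, by rw [inv_one, mul_one]; exact mem_W.2 (mul_inv_eq_iff_eq_mul.1 e)⟩
    · refine ⟨c.ι gs, hs, mem_W.2 ?_⟩
      obtain ⟨-, -, -, hsc, -⟩ := local_witness
      rw [← mul_inv_eq_iff_eq_mul]
      calc n * (c.ι gs)⁻¹ * c.ι gc * (n * (c.ι gs)⁻¹)⁻¹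
          = n * ((c.ι gs)⁻¹ * c.ι gc * c.ι gs) * n⁻¹ := by group
        _ = n * c.ι gc⁻¹ * n⁻¹ := by
          rw [← map_inv c.ι gs, ← map_mul, ← map_mul, show gs⁻¹ * gc * gs = gc⁻¹ from by
            rw [← hsc, inv_eq_of_mul_eq_one_right large_move.2]]
        _ = c.ι gc := by rw [map_inv c.ι gc, ← conj_inv, e, ← map_inv, inv_inv]
  obtain ⟨o', ho', hn'n⟩ := W_decomp hp ⟨_, hw⟩
  refine ⟨o * o', mul_mem ho (OW_le hp ⟨o', ho', rfl⟩), ?_⟩
  have := mul_mem hn'n hs'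
  simp only [Subgroup.coe_mul, Subgroup.coe_inv] at this
  rw [show (o * (o' : G))⁻¹ * g = (o' : G)⁻¹ * (n * s⁻¹) * s by rw [hn']; group]
  exact this

/-- **An odd element fixing an involution of the large subgroup is in the core.** -/
theorem odd_fix (hp : c.Pattern) {u : G} (hu : u ∈ centralizer ({c.T} : Set G)) {m : ℕ} (hm : Odd m)
    (hum : u ^ m ∈ Oc c.T) {r : Mdl} (hR : InR r = true) (h2 : r * r = 1) (h1 : r ≠ 1) (ht : r ≠ t0)
    (hur : u * c.ι r = c.ι r * u) : u ∈ Oc c.T := by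
  obtain ⟨o, ho, hn⟩ := root_decomp hp hu
  set n := o⁻¹ * u with hn'
  set C0 := centralizer ({c.T} : Set G)
  have hnC : n ∈ C0 := mul_mem (inv_mem (Oc_le ho)) hu
  set π := QuotientGroup.mk' (Cfsg.pPrimeCore 2 ↥C0)
  have hker : ∀ {x : ↥C0}, π x = 1 → (x : G) ∈ Oc c.T := fun {x} h =>
    ⟨x, (QuotientGroup.eq_one_iff x).1 h, rfl⟩
  have hker' : ∀ {x : ↥C0}, (x : G) ∈ Oc c.T → π x = 1 := fun {x} h => by
    obtain ⟨y, hy, e⟩ := h
    exact (QuotientGroup.eq_one_iff x).2 (by rwa [← show y = x from Subtype.ext e])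
  have hπn : π ⟨n, hnC⟩ = π ⟨u, hu⟩ := by
    rw [show (⟨n, hnC⟩ : ↥C0) = ⟨o, Oc_le ho⟩⁻¹ * ⟨u, hu⟩ from rfl, map_mul, map_inv,
      hker' (x := ⟨o, Oc_le ho⟩) ho, inv_one, one_mul]
  have hnm : n ^ m ∈ Oc c.T := hker (x := ⟨n, hnC⟩ ^ m) (by
    rw [map_pow, hπn, ← map_pow]; exact hker' hum)
  have hgcC : c.ι gc ∈ C0 := c.S_le (c.ι_mem gc)
  have hnW : n ∈ c.W := by
    rcases hn with e | e
    · exact mem_W.2 (mul_inv_eq_iff_eq_mul.1 e)
    exfalso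
    have e' : (MulAut.conj n) (c.ι gc) = (c.ι gc)⁻¹ := by rw [MulAut.conj_apply, ← map_inv]; exact e
    have hk : ∀ k : ℕ, n ^ (2 * k) * c.ι gc * (n ^ (2 * k))⁻¹ = c.ι gc := fun k => by
      induction k with
      | zero => simp
      | succ k ih =>
        rw [show 2 * (k + 1) = 2 + 2 * k by ring, pow_add,
          show n ^ 2 * n ^ (2 * k) * c.ι gc * (n ^ 2 * n ^ (2 * k))⁻¹ =
            n ^ 2 * (n ^ (2 * k) * c.ι gc * (n ^ (2 * k))⁻¹) * (n ^ 2)⁻¹ by group, ih, pow_two,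
          show n * n * c.ι gc * (n * n)⁻¹ = n * (n * c.ι gc * n⁻¹) * n⁻¹ by group, e, map_inv, ← conj_inv, e,
          map_inv, inv_inv]
    obtain ⟨k, rfl⟩ := hm
    set y := n ^ (2 * k + 1) with hy
    have hyc : y * c.ι gc * y⁻¹ = (c.ι gc)⁻¹ := by
      rw [hy, pow_succ', show n * n ^ (2 * k) * c.ι gc * (n * n ^ (2 * k))⁻¹ =
        n * (n ^ (2 * k) * c.ι gc * (n ^ (2 * k))⁻¹) * n⁻¹ by group, hk, e, map_inv]
    have hT : c.T⁻¹ ∈ Oc c.T := by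
      have := mul_mem hnm (Oc_conj hgcC (inv_mem hnm))
      rwa [show y * (c.ι gc * y⁻¹ * (c.ι gc)⁻¹) = y * c.ι gc * y⁻¹ * (c.ι gc)⁻¹ by group, hyc, ← mul_inv_rev,
        ← map_mul, root_witness.1] at this
    have := (odd_Oc (c := c)).of_dvd_nat (Subgroup.orderOf_dvd_natCard _ (inv_mem_iff.1 hT))
    rw [c.orderOf_T] at this
    exact absurd this (by decide)
  set rW : Cm := ⟨r, mem_Cm.2 (large_facts hR).1⟩ with hrW
  set nW : ↥c.W := ⟨n, hnW⟩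
  have hcore : ∀ {x : ↥c.W}, (x : G) ∈ Oc c.T → x ∈ Cfsg.pPrimeCore 2 ↥c.W := fun {x} hx => by
    haveI : ((Oc c.T).subgroupOf c.W).Normal := ⟨fun y hy w =>
      mem_subgroupOf.2 (Oc_conj (W_le w.2) (mem_subgroupOf.1 hy))⟩
    refine Cfsg.Lib.Components.le_pPrimeCore (hn := this) (Nat.coprime_two_right.2 ?_) (mem_subgroupOf.2 hx)
    rw [← card_map_of_injective (K := (Oc c.T).subgroupOf c.W) c.W.subtype_injective, subgroupOf_map_subtype]
    exact (odd_Oc (c := c)).of_dvd_nat (card_dvd_of_le inf_le_left)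
  have hrC : c.ι r ∈ C0 := c.S_le (c.ι_mem r)
  have hc1 : c.ψ (nW * c.embW rW * nW⁻¹ * (c.embW rW)⁻¹) = 1 := by
    refine ψ_core (hcore (hker (x := ⟨n, hnC⟩ * ⟨_, hrC⟩ * ⟨n, hnC⟩⁻¹ * ⟨_, hrC⟩⁻¹) ?_))
    rw [map_mul, map_mul, map_mul, map_inv, map_inv, hπn, ← map_inv, ← map_inv, ← map_mul, ← map_mul, ← map_mul]
    rw [show (⟨u, hu⟩ : ↥C0) * ⟨_, hrC⟩ * ⟨u, hu⟩⁻¹ * ⟨_, hrC⟩⁻¹ = 1 from Subtype.ext (by
      show u * c.ι r * u⁻¹ * (c.ι r)⁻¹ = 1
      rw [hur]; group), map_one]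
  have hcom : c.ψ nW ∈ centralizer ({c.f rW} : Set c.K) := by
    rw [mem_centralizer_singleton_iff]
    show c.ψ nW * c.ψ (c.embW rW) = c.ψ (c.embW rW) * c.ψ nW
    rw [map_mul, map_mul, map_mul, map_inv, map_inv, mul_inv_eq_one] at hc1
    exact mul_inv_eq_iff_eq_mul.1 hc1
  have hr1 : c.f rW ≠ 1 := fun h => by
    rcases f_ker h with e | e | e | e
    · exact h1 e
    · rw [show r = gc from e] at h2; exact absurd h2 (by decide +kernel)
    · exact ht e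
    · rw [show r = gc⁻¹ from e] at h2; exact absurd h2 (by decide +kernel)
  obtain ⟨j, hj⟩ := (Rb_normal hp).2 _ ⟨rW, hR, rfl⟩ hr1 ⟨_, hcom⟩
  have hj' : c.ψ nW ^ 2 ^ j = 1 := congrArg Subtype.val hj
  have hψ : c.ψ nW = 1 := by
    refine orderOf_eq_one_iff.1 (Nat.eq_one_of_dvd_coprimes ((Nat.coprime_two_left.2 hm).pow_left j)
      (orderOf_dvd_of_pow_eq_one hj') (orderOf_dvd_of_pow_eq_one ?_))
    rw [← map_pow]
    exact ψ_core (hcore hnm)
  obtain ⟨i, o₂, ho₂, e₂⟩ := ψ_eq_one hψ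
  haveI : Fact (Nat.Prime 2) := ⟨Nat.prime_two⟩
  set π' := QuotientGroup.mk' (Cfsg.pPrimeCore 2 ↥c.W)
  have hγ : π' (c.γW ^ i) = 1 := by
    have h4 : (π' (c.γW ^ i)) ^ 2 ^ 8 = 1 := by
      rw [← map_pow, ← embW_gc, ← map_zpow, two_pow, map_one]
    have hm' : (π' (c.γW ^ i)) ^ m = 1 := by
      have h := congrArg (fun z : ↥c.W => π' (z ^ m)) e₂
      simp only [map_pow, map_mul] at h
      rw [show π' o₂ = 1 from (QuotientGroup.eq_one_iff o₂).2 ho₂, mul_one, ← map_pow,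
        show π' (nW ^ m) = 1 from (QuotientGroup.eq_one_iff _).2 (hcore hnm)] at h
      exact h.symm
    exact orderOf_eq_one_iff.1 (Nat.eq_one_of_dvd_coprimes ((Nat.coprime_two_left.2 hm).pow_left 8)
      (orderOf_dvd_of_pow_eq_one h4) (orderOf_dvd_of_pow_eq_one hm'))
  have hnO : n ∈ Oc c.T := OW_le hp ⟨nW, by
    rw [e₂]; exact mul_mem ((QuotientGroup.eq_one_iff _).1 hγ) ho₂, rfl⟩
  have := mul_mem ho hnO
  rwa [hn', mul_inv_cancel_left] at this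

end Typed

end Cfsg.Lib.HSType
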