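import Cfsg.Agent.HSType.Code

/-!
# The involutions of the Sylow model: classes and small facts
-/

set_option autoImplicit false
set_option maxRecDepth 100000
set_option synthInstance.maxSize 4096
set_option maxHeartbeats 1000000

namespace Cfsg.Lib.HSType

open Mdl

/-- The central involution. -/
def t0 : Mdl := ⟨(2, 0, 0), (0, false)⟩
/-- The first class of the kernel of the homocyclic part. -/
def v6 : Mdl := ⟨(0, 2, 2), (0, false)⟩
/-- The second class of the kernel of the homocyclic part. -/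
def v7 : Mdl := ⟨(0, 2, 0), (0, false)⟩
/-- An outer involution of the class swapped by the automorphism. -/
def i0 : Mdl := ⟨0, (0, true)⟩
/-- An outer involution of the extraspecial part. -/
def i1 : Mdl := ⟨0, (1, true)⟩
/-- The outer involution centralising the homocyclic part modulo four-groups. -/
def i2 : Mdl := ⟨0, (2, false)⟩
/-- The other class swapped by the automorphism. -/
def i3 : Mdl := ⟨(1, 0, 0), (0, true)⟩
/-- An involution with the largest rigid centraliser. -/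
def i4 : Mdl := ⟨(0, 1, 1), (2, false)⟩
/-- The translate of the involution of the extraspecial part. -/
def i5 : Mdl := ⟨(0, 1, 0), (1, true)⟩

/-- The class of an involution. -/
def cls (q : Mdl) : ℕ := clsN (code q)

/-- The representatives of the classes. -/
def rep (n : ℕ) : Mdl := [i0, i1, i2, i3, i4, i5, v6, v7, t0].getD n t0

theorem code_dec : ∀ a < 512, code (dec a) = a := by decide +kernel

theorem cls_spec_check : (invN.all fun w =>
    Nat.blt (clsN w) 9 && (List.range 512).any fun g =>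
      Nat.beq (mulN g (code (rep (clsN w)))) (mulN w g)) = true := by decide +kernel

theorem cls_spec {w : Mdl} (h : w * w = 1) (h1 : w ≠ 1) : cls w < 9 ∧ ∃ g : Mdl, g * rep (cls w) * g⁻¹ = w := by
  have hw := List.all_eq_true.1 cls_spec_check _ (mem_invN h h1)
  rw [Bool.and_eq_true] at hw
  refine ⟨Nat.le_of_ble_eq_true hw.1, ?_⟩
  obtain ⟨g, hg, e⟩ := List.any_eq_true.1 hw.2
  rw [List.mem_range] at hg
  have hgc : code (dec g) = g := code_dec g hg
  refine ⟨dec g, mul_inv_eq_iff_eq_mul.2 (code_inj.1 ?_)⟩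
  rw [code_mul, code_mul, hgc]
  exact Nat.eq_of_beq_eq_true e

theorem rep_cls : ∀ n : Fin 9, cls (rep n) = n ∧ rep n * rep n = 1 ∧ rep n ≠ 1 := by decide +kernel

theorem t0_central_check : ((List.range 512).all fun a =>
    Nat.beq (mulN a (code t0)) (mulN (code t0) a)) = true := by decide +kernel

theorem t0_central (q : Mdl) : q * t0 = t0 * q := code_inj.1 (by
  rw [code_mul, code_mul]; exact Nat.eq_of_beq_eq_true (of_all t0_central_check q))

theorem t0_facts : t0 * t0 = 1 ∧ t0 ≠ 1 := by decide +kernel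

theorem cls_t0_check : (invN.all fun w => (Nat.beq (clsN w) 8 == Nat.beq w (code t0)) &&
    (Nat.beq w (code t0) || Nat.beq (clsN (mulN (code t0) w)) (clsN w))) = true := by decide +kernel

theorem cls_t0 {w : Mdl} (h : w * w = 1) (h1 : w ≠ 1) : cls w = 8 ↔ w = t0 := by
  have hw := List.all_eq_true.1 cls_t0_check _ (mem_invN h h1)
  rw [Bool.and_eq_true, beq_iff_eq, Bool.eq_iff_iff, Nat.beq_eq, Nat.beq_eq] at hw
  exact hw.1.trans code_inj

/-- The multiplication by the central involution fixes every class. -/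
theorem cls_mul_t0 {w : Mdl} (h : w * w = 1) (h1 : w ≠ 1) (h2 : w ≠ t0) :
    cls (t0 * w) = cls w ∧ t0 * w * (t0 * w) = 1 ∧ t0 * w ≠ 1 := by
  have hw := List.all_eq_true.1 cls_t0_check _ (mem_invN h h1)
  rw [Bool.and_eq_true, Bool.or_eq_true, Nat.beq_eq, Nat.beq_eq] at hw
  refine ⟨?_, ?_, fun e => h2 ?_⟩
  · rw [cls, code_mul]
    exact hw.2.resolve_left fun e => h2 (code_inj.1 e)
  · rw [show t0 * w * (t0 * w) = t0 * (w * t0) * w by group, t0_central, ← mul_assoc t0 t0, t0_facts.1, one_mul, h]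
  · rw [← one_mul w, ← t0_facts.1, mul_assoc, e, mul_one]

/-- A partner in a fusing pair. -/
def y32 : Mdl := ⟨(1, 0, 0), (2, true)⟩
/-- A partner in a fusing pair. -/
def y34 : Mdl := ⟨(0, 1, 1), (2, true)⟩
/-- A partner in a fusing pair. -/
def y54 : Mdl := ⟨(0, 0, 3), (3, true)⟩
/-- A partner in a fusing pair. -/
def y12 : Mdl := ⟨0, (3, true)⟩

/-- The pairs which fuse the classes. -/
theorem pair_facts :
    i0 * v6 = v6 * i0 ∧ cls (i0 * v6) = 0 ∧
    i1 * v7 = v7 * i1 ∧ cls (i1 * v7) = 1 ∧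
    i2 * v6 = v6 * i2 ∧ cls (i2 * v6) = 2 ∧
    i3 * v6 = v6 * i3 ∧ cls (i3 * v6) = 3 ∧
    i5 * v7 = v7 * i5 ∧ cls (i5 * v7) = 5 ∧
    v7 * v6 = v6 * v7 ∧ cls (v7 * v6) = 7 ∧
    i0 * i2 = i2 * i0 ∧ cls (i0 * i2) = 0 ∧
    (cls y32 = 3 ∧ y32 * y32 = 1 ∧ i3 * y32 = y32 * i3 ∧ cls (i3 * y32) = 2) ∧
    (cls y34 = 3 ∧ y34 * y34 = 1 ∧ i0 * y34 = y34 * i0 ∧ cls (i0 * y34) = 4) ∧
    (cls y54 = 5 ∧ y54 * y54 = 1 ∧ i5 * y54 = y54 * i5 ∧ cls (i5 * y54) = 4) ∧
    (cls y12 = 1 ∧ y12 * y12 = 1 ∧ i1 * y12 = y12 * i1 ∧ cls (i1 * y12) = 2) := by decide +kernel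

/-- The elements of order eight. -/
def eightN : List ℕ :=
  (List.range 512).filter fun q =>
    !Nat.beq (mulN (mulN q q) (mulN q q)) 0 && !Nat.beq (mulN (mulN q q) (mulN q q)) (code t0)

theorem eight_check : (eightN.all fun q => invN.all fun u =>
    !Nat.beq (mulN (mulN (mulN u q) u) q) 0) = true := by decide +kernel

/-- An element of order eight inverted by an involution has the central involution as fourth power. -/
theorem eight_facts {q u : Mdl} (hu : u * u = 1) (hu1 : u ≠ 1) (h : u * q * u = q⁻¹)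
    (h4 : q * q * (q * q) ≠ 1) : q * q * (q * q) = t0 := by
  by_contra hne
  have hq : code q ∈ eightN := by
    rw [eightN, List.mem_filter, List.mem_range]
    refine ⟨code_lt q, ?_⟩
    rw [← code_mul, ← code_mul, Bool.and_eq_true, Bool.not_eq_true', Bool.not_eq_true', ← Bool.not_eq_true,
      ← Bool.not_eq_true, Nat.beq_eq, Nat.beq_eq]
    exact ⟨fun e => h4 (code_inj.1 (e.trans code_one.symm)), fun e => hne (code_inj.1 e)⟩
  have hw := List.all_eq_true.1 (List.all_eq_true.1 eight_check _ hq) _ (mem_invN hu hu1)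
  rw [← code_mul, ← code_mul, ← code_mul, Bool.not_eq_true', ← Bool.not_eq_true, Nat.beq_eq] at hw
  exact hw (by rw [h, inv_mul_cancel, code_one])

theorem rigid_witness :
    let q : Mdl := ⟨(0, 1, 0), (1, false)⟩
    let u : Mdl := i0
    q * i4 = i4 * q ∧ u * i4 = i4 * u ∧ u * q * u = q⁻¹ ∧ u * u = 1 ∧ q * q * (q * q) = t0 ∧ i4 ≠ t0 := by
  decide +kernel

/-- Membership in a short list. -/
def inN (a : ℕ) (l : List ℕ) : Bool := l.any fun b => Nat.beq a b

theorem inN_iff {a : ℕ} {l : List ℕ} : inN a l = true ↔ a ∈ l := by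
  simp [inN, List.any_eq_true, Nat.beq_eq]

/-- The test on three images. -/
def dihN (a b p : ℕ) : Bool :=
  !Nat.beq (mulN p a) (mulN (mulN a p) (mulN (mulN a b) (mulN a b))) ||
    !Nat.beq (mulN p b) (mulN (mulN b p) (mulN (mulN a b) (mulN a b))) ||
    inN p [code t0, mulN (mulN a b) (mulN a b), mulN (code t0) (mulN (mulN a b) (mulN a b))] ||
    inN (clsN p) [clsN a, clsN (mulN (mulN a b) a), 4, 5, 7] ||
    inN (clsN a) [2, 6, 8] || inN (clsN (mulN (mulN a b) a)) [2, 6, 8]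

/-- The test on a pair of images. -/
def pairN (a b : ℕ) : Bool :=
  inN (mulN (mulN a b) (mulN a b)) [0, code t0] ||
    !Nat.beq (mulN (mulN (mulN a b) (mulN a b)) (mulN (mulN a b) (mulN a b))) 0

theorem dihedral_check : (invN.all fun a => invN.all fun b =>
    pairN a b || invN.all fun p => dihN a b p) = true := by decide +kernel

/-- Three involutions whose images decide the class of the extraspecial involution. -/
theorem dihedral_facts {q₁ q₂ p : Mdl} (ha : q₁ * q₁ = 1) (ha1 : q₁ ≠ 1) (hb : q₂ * q₂ = 1) (hb1 : q₂ ≠ 1)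
    (hw1 : q₁ * q₂ * (q₁ * q₂) ≠ 1) (hw2 : q₁ * q₂ * (q₁ * q₂) * (q₁ * q₂ * (q₁ * q₂)) = 1)
    (hw : q₁ * q₂ * (q₁ * q₂) ≠ t0) (hp : p * p = 1) (hp1 : p ≠ 1) (hc1 : p * q₁ = q₁ * p * (q₁ * q₂ * (q₁ * q₂)))
    (hc2 : p * q₂ = q₂ * p * (q₁ * q₂ * (q₁ * q₂))) (hpt : p ≠ t0) (hpw : p ≠ q₁ * q₂ * (q₁ * q₂))
    (hpw' : p ≠ t0 * (q₁ * q₂ * (q₁ * q₂))) :
    cls p = cls q₁ ∨ cls p = cls (q₁ * q₂ * q₁) ∨ cls p = 4 ∨ cls p = 5 ∨ cls p = 7 ∨
      cls q₁ = 2 ∨ cls q₁ = 6 ∨ cls q₁ = 8 ∨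
      cls (q₁ * q₂ * q₁) = 2 ∨ cls (q₁ * q₂ * q₁) = 6 ∨ cls (q₁ * q₂ * q₁) = 8 := by
  have h := List.all_eq_true.1 (List.all_eq_true.1 dihedral_check _ (mem_invN ha ha1)) _ (mem_invN hb hb1)
  rw [Bool.or_eq_true] at h
  rcases h with h | h
  · simp only [pairN, ← code_mul, ← code_one, Bool.or_eq_true, inN_iff, List.mem_cons, List.not_mem_nil, or_false,
      Bool.not_eq_true', code_inj] at h
    rw [← Bool.not_eq_true, Nat.beq_eq, code_inj] at h
    exact absurd h (not_or.2 ⟨not_or.2 ⟨hw1, hw⟩, not_not.2 hw2⟩)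
  · have h := List.all_eq_true.1 h _ (mem_invN hp hp1)
    simp only [dihN, ← code_mul, Bool.or_eq_true, inN_iff, List.mem_cons, List.not_mem_nil, or_false,
      Bool.not_eq_true', code_inj] at h
    rw [← Bool.not_eq_true, Nat.beq_eq, code_inj, ← Bool.not_eq_true, Nat.beq_eq, code_inj] at h
    simp only [cls]
    tauto

/-- The second generator of the dihedral group in the centraliser of the third class. -/
def j1 : Mdl := ⟨(1, 2, 2), (1, true)⟩

theorem dihedral_witness : i1 * i2 = i2 * i1 ∧ j1 * i2 = i2 * j1 ∧ v6 * i2 = i2 * v6 ∧ v6 * i1 = i1 * v6 * t0 ∧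
    v6 * j1 = j1 * v6 * t0 ∧ j1 * j1 = 1 ∧ cls j1 = 1 ∧ cls (i1 * j1 * i1) = 1 ∧ (i1 * j1 * i1) * (i1 * j1 * i1) = 1 ∧
    i1 * j1 * (i1 * j1) = t0 ∧ v6 ≠ t0 ∧ v6 ≠ i2 ∧ v6 ≠ t0 * i2 ∧ i0 * i2 = i2 * i0 ∧
    i1 * j1 * i1 ≠ 1 := by decide +kernel

end Cfsg.Lib.HSType
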