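import Cfsg.Agent.HSType.Coord

/-!
# The Sylow model on natural numbers

Elements are coded below 512, so that the searches in the model run on the built-in natural numbers.
-/

set_option autoImplicit false
set_option maxRecDepth 100000

namespace Cfsg.Lib.HSType

open Mdl

/-- The code of an element. -/
def code (q : Mdl) : ℕ :=
  q.v.1.val + 4 * q.v.2.1.val + 16 * q.v.2.2.val + 64 * (q.d.1.val + 4 * (bif q.d.2 then 1 else 0))

/-- The element of a code. -/
def dec (a : ℕ) : Mdl :=
  ⟨((a : ZMod 4), ((a / 4 : ℕ) : ZMod 4), ((a / 16 : ℕ) : ZMod 4)), (((a / 64 : ℕ) : ZMod 4), Nat.ble 256 a)⟩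

/-- The table of the action. -/
def actT : ℕ := 0x3437363519181b1a3e3d3c3f131211100407060529282b2a0e0d0c0f232221201417161539383b3a1e1d1c1f333231302427262509080b0a2e2d2c2f03020100151617140e0f0c0d373435362c2d2e2f30313233292a2b28121310110b08090a1f1c1d1e040506073d3e3f3c262724253a3b38392320212218191a1b010203001e1d1c1f12111013161514171a19181b2524272629282b2a2d2c2f2e212023223c3f3e3d3033323134373635383b3a39070605040b0a09080f0e0d0c030201003d3e3f3c2d2e2f2c1d1e1f1c0d0e0f0c393a3b38292a2b28191a1b18090a0b083536373425262724151617140506070431323330212223201112131001020300363734350607040516171415262724251b18191a2b28292a3b38393a0b08090a3c3d3e3f0c0d0e0f1c1d1e1f2c2d2e2f1112131021222320313233300102030017161514323130331d1c1f1e383b3a390c0f0e0d2b2a2928060504072120232235343736101312113f3e3d3c1a19181b2e2d2c2f09080b0a24272625030201001c1d1e1f272425263e3f3c3d05060704101112132b28292a32333031090a0b08141516172f2c2d2e363734350d0e0f0c18191a1b232021223a3b3839010203003f3e3d3c3b3a393837363534333231302f2e2d2c2b2a292827262524232221201f1e1d1c1b1a191817161514131211100f0e0d0c0b0a09080706050403020100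

/-- The table of the dihedral product. -/
def dmT : ℕ := 0x123456730127456230167451230567465472103547610324765032176543210

/-- The table of the classes of involutions. -/
def clT : ℕ := 0x5050000005050000101000000101000050500000050500001010000001010303000000000000000030300000000000000000030300000000000000003030000000000000000050501010505010100000000000000000050501010505010100000000303000000000303000000000303000000000000000000000000030300000000000000000000000000000000000000000000000000000000000000000040400004040000000000202000020204040000004040000000020200000020200000000000000000000000000000000000000000000000000000000000000000000000000000000000006060000070700000000000000000000070700000800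

/-- The sum of two coded vectors. -/
def addN (a b : ℕ) : ℕ :=
  (a + b) % 4 + 4 * ((a / 4 + b / 4) % 4) + 16 * ((a / 16 + b / 16) % 4)

/-- The action on coded vectors. -/
def actN (d v : ℕ) : ℕ := (actT >>> (8 * (64 * d + v))) % 256

/-- The product of codes. -/
def mulN (a b : ℕ) : ℕ :=
  addN (a % 64) (actN (a / 64) (b % 64)) + 64 * ((dmT >>> (4 * (8 * (a / 64) + b / 64))) % 16)

/-- The class of a coded involution. -/
def clsN (a : ℕ) : ℕ := (clT >>> (4 * a)) % 16

/-- The code of a vector. -/
def cv (v : E4) : ℕ := v.1.val + 4 * v.2.1.val + 16 * v.2.2.val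

/-- The code of a dihedral part. -/
def cd (d : D8) : ℕ := d.1.val + 4 * (bif d.2 then 1 else 0)

theorem code_eq (q : Mdl) : code q = cv q.v + 64 * cd q.d := rfl

theorem tables_ok : (∀ v w : E4, addN (cv v) (cv w) = cv (v + w)) ∧ (∀ v : E4, cv v < 64) ∧
    (∀ (d : D8) (v : E4), actN (cd d) (cv v) = cv (act d v)) ∧
    (∀ d d' : D8, (dmT >>> (4 * (8 * cd d + cd d'))) % 16 = cd (dmul d d')) := by decide +kernel

theorem code_lt : ∀ q : Mdl, code q < 512 := by decide +kernel

theorem dec_code : ∀ q : Mdl, dec (code q) = q := by decide +kernel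

theorem code_inj {p q : Mdl} : code p = code q ↔ p = q :=
  ⟨fun h => by rw [← dec_code p, h, dec_code], fun h => h ▸ rfl⟩

theorem code_one : code 1 = 0 := by decide +kernel

theorem code_mul (p q : Mdl) : code (p * q) = mulN (code p) (code q) := by
  obtain ⟨ha, hv, hact, hd⟩ := tables_ok
  have hp : (cv p.v + 64 * cd p.d) % 64 = cv p.v ∧ (cv p.v + 64 * cd p.d) / 64 = cd p.d := by
    have := hv p.v; omega
  have hq : (cv q.v + 64 * cd q.d) % 64 = cv q.v ∧ (cv q.v + 64 * cd q.d) / 64 = cd q.d := by
    have := hv q.v; omega
  rw [mul_def, code_eq, code_eq, code_eq, mulN, hp.1, hp.2, hq.1, hq.2, hact, ha, hd]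

/-- A check on all the codes holds at every element. -/
theorem of_all {f : ℕ → Bool} (h : (List.range 512).all f = true) (q : Mdl) : f (code q) = true :=
  List.all_eq_true.1 h _ (List.mem_range.2 (code_lt q))

/-- The involutions among the codes. -/
def invN : List ℕ :=
  (List.range 512).filter fun a => Nat.beq (mulN a a) 0 && !Nat.beq a 0

theorem mem_invN {q : Mdl} (h : q * q = 1) (h1 : q ≠ 1) : code q ∈ invN := by
  rw [invN, List.mem_filter, List.mem_range]
  refine ⟨code_lt q, ?_⟩
  rw [← code_mul, h, code_one, Bool.and_eq_true, Bool.not_eq_true', Nat.beq_eq, ← Bool.not_eq_true, Nat.beq_eq]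
  exact ⟨rfl, fun e => h1 (code_inj.1 (e.trans code_one.symm))⟩

end Cfsg.Lib.HSType
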