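import Mathlib

/-!
# The Sylow 2-subgroups of the Higman-Sims group in coordinates

A homocyclic group of rank three and exponent four extended by a dihedral group of order eight.
-/

set_option autoImplicit false
set_option maxRecDepth 100000

namespace Cfsg.Lib.HSType

/-- Vectors over the integers modulo four. -/
abbrev E4 : Type := ZMod 4 × ZMod 4 × ZMod 4

/-- An element of the dihedral group: a power of the element of order four and the involution. -/
abbrev D8 : Type := ZMod 4 × Bool

/-- The action of the involution. -/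
def actS (v : E4) : E4 := (-v.1, v.2.2, v.2.1)

/-- The action of a power of the element of order four. -/
def actW (m : ZMod 4) (v : E4) : E4 :=
  if m = 0 then v
  else if m = 1 then (3 * v.1 + v.2.1, 2 * v.2.1 + 3 * v.2.2, 3 * v.2.1)
  else if m = 2 then (v.1 + v.2.1 + 3 * v.2.2, v.2.1 + 2 * v.2.2, 2 * v.2.1 + v.2.2)
  else (3 * v.1 + 3 * v.2.2, 3 * v.2.2, 3 * v.2.1 + 2 * v.2.2)

/-- The action of the dihedral group. -/
def act (d : D8) (v : E4) : E4 := actW d.1 (bif d.2 then actS v else v)

/-- The product in the dihedral group. -/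
def dmul (d d' : D8) : D8 := (bif d.2 then d.1 - d'.1 else d.1 + d'.1, xor d.2 d'.2)

/-- The inverse in the dihedral group. -/
def dinv (d : D8) : D8 := (bif d.2 then d.1 else -d.1, d.2)

theorem act_add : ∀ (d : D8) (v w : E4), act d (v + w) = act d v + act d w := by decide +kernel

theorem act_dmul : ∀ (d d' : D8) (v : E4), act d (act d' v) = act (dmul d d') v := by decide +kernel

theorem act_one : ∀ v : E4, act (0, false) v = v := by decide +kernel

theorem dmul_facts : (∀ a b c : D8, dmul (dmul a b) c = dmul a (dmul b c)) ∧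
    (∀ a : D8, dmul (0, false) a = a ∧ dmul a (0, false) = a ∧ dmul (dinv a) a = (0, false)) := by decide +kernel

/-- The model: a vector followed by an element of the dihedral group. -/
structure Mdl where
  /-- the homocyclic part -/
  v : E4
  /-- the dihedral part -/
  d : D8
deriving DecidableEq

namespace Mdl

/-- The pairs of the parts. -/
def equivProd : Mdl ≃ E4 × D8 :=
  ⟨fun q => (q.v, q.d), fun p => ⟨p.1, p.2⟩, fun _ => rfl, fun _ => rfl⟩

instance instFintype : Fintype Mdl := Fintype.ofEquiv _ equivProd.symm

instance instMul : Mul Mdl := ⟨fun p q => ⟨p.v + act p.d q.v, dmul p.d q.d⟩⟩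
instance instOne : One Mdl := ⟨⟨0, (0, false)⟩⟩
instance instInv : Inv Mdl := ⟨fun p => ⟨-act (dinv p.d) p.v, dinv p.d⟩⟩

theorem mul_def (p q : Mdl) : p * q = ⟨p.v + act p.d q.v, dmul p.d q.d⟩ := rfl
theorem one_def : (1 : Mdl) = ⟨0, (0, false)⟩ := rfl

theorem act_zero (d : D8) : act d 0 = 0 := by
  have h := act_add d 0 0
  rw [add_zero] at h
  exact left_eq_add.1 h

instance instGroup : Group Mdl :=
  Group.ofLeftAxioms
    (fun a b c => by
      simp only [mul_def, act_add, act_dmul, dmul_facts.1, add_assoc])
    (fun a => by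
      simp only [mul_def, one_def, act_one, (dmul_facts.2 a.d).1, zero_add])
    (fun a => by
      show (⟨-act (dinv a.d) a.v + act (dinv a.d) a.v, dmul (dinv a.d) a.d⟩ : Mdl) = ⟨0, (0, false)⟩
      rw [neg_add_cancel, (dmul_facts.2 a.d).2.2])

theorem card : Nat.card Mdl = 512 := by
  rw [Nat.card_congr equivProd, Nat.card_prod, Nat.card_prod, Nat.card_prod, Nat.card_prod, Nat.card_zmod,
    Nat.card_eq_fintype_card (α := Bool), Fintype.card_bool]

/-- The first basis vector. -/
def gc : Mdl := ⟨(1, 0, 0), (0, false)⟩
/-- The second basis vector. -/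
def ga : Mdl := ⟨(0, 1, 0), (0, false)⟩
/-- The third basis vector. -/
def gb : Mdl := ⟨(0, 0, 1), (0, false)⟩
/-- The element of order four of the complement. -/
def gw : Mdl := ⟨0, (1, false)⟩
/-- The involution of the complement. -/
def gs : Mdl := ⟨0, (0, true)⟩

end Mdl

end Cfsg.Lib.HSType
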