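import Cfsg.Agent.HSType.CentTop
import Cfsg.Agent.LFourType.Moved
import Cfsg.Agent.InvolCalc.StronglyEmbedded
import Cfsg.Agent.S1175

/-!
# The centraliser of the central involution has trivial odd core
-/

set_option autoImplicit false
set_option linter.unusedSectionVars false
set_option linter.style.haveILetI false
set_option maxRecDepth 100000
set_option maxHeartbeats 800000

namespace Cfsg.Lib.HSType

open Subgroup Mdl
open Cfsg.Lib.Walter (Oc)

universe u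

theorem partner_check : (invN.all fun p => largeN.any fun r =>
    Nat.beq (mulN r r) 0 && !inN r [0, code t0] && Nat.beq (mulN p r) (mulN r p)) = true := by decide +kernel

/-- Every involution commutes with one of the large subgroup. -/
theorem partner {p : Mdl} (h : p * p = 1) (h1 : p ≠ 1) :
    ∃ r : Mdl, InR r = true ∧ r * r = 1 ∧ r ≠ 1 ∧ r ≠ t0 ∧ p * r = r * p := by
  have h' := List.all_eq_true.1 partner_check _ (mem_invN h h1)
  simp only [List.any_eq_true, Bool.and_eq_true, Bool.not_eq_true', ← Bool.not_eq_true, inN_iff, List.mem_cons,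
    List.not_mem_nil, or_false, Nat.beq_eq] at h'
  obtain ⟨a, ha, ⟨e1, e2⟩, e3⟩ := h'
  rw [largeN, List.mem_filter, List.mem_range] at ha
  obtain ⟨hl, hR⟩ := ha
  rw [← code_dec a hl] at e1 e2 e3
  simp only [← code_mul, ← code_one, code_inj, not_or] at e1 e2 e3
  exact ⟨_, hR, e1, e2.1, e2.2, e3⟩

theorem four_check : (largeN.all fun u => !Nat.beq (mulN u u) 0 ||
    [code v6, code v7, code v67].any fun z => Nat.beq (mulN u z) (mulN z u)) = true := by decide +kernel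

theorem vectors_R : ∀ q : Mdl, InV q = true → InR q = true := by decide +kernel

theorem class_witness : InV t0 = true ∧ InV v7 = true ∧ InV v6 = true ∧ InV v67 = true ∧ i2 * v6 = v6 * i2 ∧
    i2 * v7 * (i2 * v7) = t0 ∧ i2 * i2 = 1 ∧ i2 ≠ 1 ∧ InR i2 = true ∧ i2 ≠ t0 ∧ v6 ≠ t0 ∧ v7 ≠ 1 ∧
    i0 * i0 = 1 ∧ i0 ≠ 1 ∧ (v67 * v67 = 1 ∧ v67 ≠ 1 ∧ v67 ≠ t0 ∧ v7 * v7 = 1 ∧ v7 ≠ t0) := by decide +kernel

/-- The four-group of the vectors centralised by an involution of the large subgroup. -/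
theorem four_facts {u : Mdl} (hR : InR u = true) (h2 : u * u = 1) :
    ∃ z : Mdl, InV z = true ∧ z * z = 1 ∧ z ≠ 1 ∧ z ≠ t0 ∧ u * z = z * u := by
  have h := List.all_eq_true.1 four_check _ (mem_largeN hR)
  simp only [← code_mul, h2, code_one, Bool.or_eq_true, Bool.not_eq_true', ← Bool.not_eq_true, Nat.beq_eq,
    not_true_eq_false, false_or, List.any_eq_true, List.mem_cons, List.not_mem_nil, or_false] at h
  obtain ⟨z, hz, e⟩ := h
  obtain ⟨-, hV7, hV6, hV67, -, -, -, -, -, -, h6t, h71, -, -, h672, h671, h67t, h72, h7t⟩ := class_witness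
  rcases hz with rfl | rfl | rfl <;> simp only [← code_mul, code_inj] at e
  · exact ⟨v6, hV6, ((InV_iff _).1 hV6).2, local_witness.2.2.2.2.2.2.2.2.2.2.2.2.2.1, h6t, e⟩
  · exact ⟨v7, hV7, h72, h71, h7t, e⟩
  · exact ⟨v67, hV67, h672, h671, h67t, e⟩

/-- The vectors as a subgroup. -/
def Vm : Subgroup Mdl where
  carrier := {q | InV q = true}
  one_mem' := show InV 1 = true by decide +kernel
  mul_mem' := fun {p q} hp hq => by
    obtain ⟨hp', hp2⟩ := (InV_iff p).1 hp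
    obtain ⟨hq', hq2⟩ := (InV_iff q).1 hq
    refine (InV_iff _).2 ⟨dmul_closed _ _ hp' hq', ?_⟩
    rw [show p * q * (p * q) = p * (q * p) * q by group, AM_comm (p := q) hq' hp',
      show p * (p * q) * q = (p * p) * (q * q) by group, hp2, hq2, one_mul]
  inv_mem' := fun {p} hp => by
    show InV p⁻¹ = true
    rw [inv_eq_of_mul_eq_one_right ((InV_iff p).1 hp).2]
    exact hp

namespace Typed

variable {G : Type u} [Group G] [Finite G] (c : Typed G)

/-- The vectors. -/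
def VG : Subgroup G := Vm.map c.ι

/-- The join of the cores at the vectors. -/
noncomputable def WV : Subgroup G := ⨆ a : {a : G // a ∈ c.VG ∧ a ≠ 1}, Oc (a : G)

variable {c}

theorem mem_VG {g : G} : g ∈ c.VG ↔ ∃ q : Mdl, InV q = true ∧ c.ι q = g := Iff.rfl

theorem VG_comm : ∀ a ∈ c.VG, ∀ b ∈ c.VG, a * b = b * a := by
  rintro _ ⟨p, hp, rfl⟩ _ ⟨q, hq, rfl⟩
  exact (c.ι_comm (AM_comm (p := p) ((InV_iff p).1 hp).1 ((InV_iff q).1 hq).1)).eq

theorem VG_sq : ∀ a ∈ c.VG, a ^ 2 = 1 := by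
  rintro _ ⟨p, hp, rfl⟩
  rw [pow_two, ← map_mul, ((InV_iff p).1 hp).2, map_one]

theorem VG_card : Nat.card c.VG = 8 := by
  classical
  rw [VG, card_map_of_injective c.ι_inj,
    show Nat.card ↥Vm = Nat.card {q : Mdl // InV q = true} from rfl, Nat.card_eq_fintype_card, Fintype.card_subtype]
  decide +kernel

theorem VG_tconj (hp : c.Pattern) {a : G} (ha : a ∈ c.VG) (ha1 : a ≠ 1) : IsConj a c.T := by
  obtain ⟨q, hq, rfl⟩ := ha
  have hq1 : q ≠ 1 := fun e => ha1 (by rw [e, map_one])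
  refine hp.conjT ((InV_iff q).1 hq).2 hq1 ?_
  rcases InV_cls q hq hq1 with e | e | e
  · exact Or.inr (Or.inr (Or.inr (Or.inl e)))
  · exact Or.inr (Or.inr (Or.inr (Or.inr (Or.inl e))))
  · exact Or.inr (Or.inr (Or.inr (Or.inr (Or.inr e))))

/-- An involution of the Sylow subgroup balances against the centre. -/
theorem balance_T (hp : c.Pattern) {p : Mdl} (h2 : p * p = 1) (h1 : p ≠ 1) {x : G} (hx : x ∈ Oc (c.ι p))
    (hxT : x ∈ centralizer ({c.T} : Set G)) : x ∈ Oc c.T := by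
  set C0 := centralizer ({c.T} : Set G) with hC0
  obtain ⟨r, hR, hr2, hr1, hrt, hpr⟩ := partner h2 h1
  have hodd : Odd (Nat.card ↥(Oc (c.ι p))) :=
    Nat.coprime_two_right.1 (Cfsg.Lib.Components.centralizerPPrimeCore_card_coprime _)
  have hrC : c.ι r ∈ C0 := c.S_le (c.ι_mem r)
  obtain ⟨m, hm, hxm⟩ : ∃ m : ℕ, Odd m ∧ x ^ m = 1 :=
    ⟨_, hodd.of_dvd_nat (Subgroup.orderOf_dvd_natCard _ hx), pow_orderOf_eq_one x⟩
  -- the commutator with the partner
  set y := x * c.ι r * x⁻¹ * (c.ι r)⁻¹ with hy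
  have hyp : y ∈ Oc (c.ι p) := by
    have h := (mem_normalizer_iff.1 (Cfsg.Lib.Components.centralizer_le_normalizer_centralizerPPrimeCore
      (p := 2) (c.ι p) (mem_centralizer_singleton_iff.2 (c.ι_comm hpr).eq.symm)) x⁻¹).1 (inv_mem hx)
    have := mul_mem hx h
    rwa [show x * (c.ι r * x⁻¹ * (c.ι r)⁻¹) = y by rw [hy]; group] at this
  have hyC : y ∈ C0 := mul_mem (mul_mem (mul_mem hxT hrC) (inv_mem hxT)) (inv_mem hrC)
  set π := QuotientGroup.mk' (Cfsg.pPrimeCore 2 ↥C0)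
  have hker : ∀ {z : ↥C0}, π z = 1 → (z : G) ∈ Oc c.T := fun {z} h =>
    ⟨z, (QuotientGroup.eq_one_iff z).1 h, rfl⟩
  have hker' : ∀ {z : ↥C0}, (z : G) ∈ Oc c.T → π z = 1 := fun {z} h => by
    obtain ⟨y, hy, e⟩ := h
    exact (QuotientGroup.eq_one_iff z).2 (by rwa [← show y = z from Subtype.ext e])
  -- it is in the large subgroup modulo the core
  obtain ⟨o, ho, hn⟩ := C0_decomp hp hxT
  have hnC : o⁻¹ * x ∈ C0 := mul_mem (inv_mem (Oc_le ho)) hxT
  have hrG : c.ι r ∈ c.RG := mem_RG.2 ⟨r, hR, rfl⟩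
  have hz : o⁻¹ * x * c.ι r * (o⁻¹ * x)⁻¹ * (c.ι r)⁻¹ ∈ c.RG :=
    mul_mem ((mem_normalizer_iff.1 hn _).1 hrG) (inv_mem hrG)
  obtain ⟨q, hq, eq⟩ := mem_RG.1 hz
  have hqC : c.ι q ∈ C0 := c.S_le (c.ι_mem q)
  have hπ : π ⟨y, hyC⟩ = π ⟨c.ι q, hqC⟩ := by
    have hx' : π ⟨x, hxT⟩ = π ⟨o⁻¹ * x, hnC⟩ := by
      rw [show (⟨o⁻¹ * x, hnC⟩ : ↥C0) = ⟨o, Oc_le ho⟩⁻¹ * ⟨x, hxT⟩ from rfl, map_mul, map_inv,
        hker' (z := ⟨o, Oc_le ho⟩) ho, inv_one, one_mul]
    rw [show (⟨y, hyC⟩ : ↥C0) = ⟨x, hxT⟩ * ⟨_, hrC⟩ * ⟨x, hxT⟩⁻¹ * ⟨_, hrC⟩⁻¹ from rfl,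
      show (⟨c.ι q, hqC⟩ : ↥C0) = ⟨o⁻¹ * x, hnC⟩ * ⟨_, hrC⟩ * ⟨o⁻¹ * x, hnC⟩⁻¹ * ⟨_, hrC⟩⁻¹ from
        Subtype.ext eq, map_mul, map_mul, map_mul, map_inv, map_inv, map_mul, map_mul, map_mul, map_inv, map_inv,
      hx']
  have hy1 : π ⟨y, hyC⟩ = 1 := by
    obtain ⟨k, hk⟩ := c.S.2 ⟨c.ι q, c.ι_mem q⟩
    have hk' : c.ι q ^ 2 ^ k = 1 := congrArg Subtype.val hk
    have hyo := hodd.of_dvd_nat (Subgroup.orderOf_dvd_natCard _ hyp)
    refine orderOf_eq_one_iff.1 (Nat.eq_one_of_dvd_coprimes ((Nat.coprime_two_left.2 hyo).pow_left k)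
      (orderOf_dvd_of_pow_eq_one ?_) (orderOf_dvd_of_pow_eq_one ?_))
    · rw [hπ, ← map_pow, show (⟨c.ι q, hqC⟩ : ↥C0) ^ 2 ^ k = 1 from Subtype.ext hk', map_one]
    · rw [← map_pow, show (⟨y, hyC⟩ : ↥C0) ^ orderOf y = 1 from Subtype.ext (pow_orderOf_eq_one y), map_one]
  have hyO : y ∈ Oc c.T := hker hy1
  obtain ⟨u, hu, e⟩ := conj_of_cong (N := Cfsg.pPrimeCore 2 ↥C0) Cfsg.Lib.ZStarApps.odd_card_pPrimeCore
    (a := (⟨x * c.ι r * x⁻¹, mul_mem (mul_mem hxT hrC) (inv_mem hxT)⟩ : ↥C0)) (b := ⟨c.ι r, hrC⟩)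
    (i := 1) (j := 1)
    (Subtype.ext (by
      show (x * c.ι r * x⁻¹) ^ 2 ^ 1 = 1
      rw [← MulAut.conj_apply, ← map_pow, pow_one, pow_two, ← map_mul, hr2, map_one, map_one]))
    (Subtype.ext (by show c.ι r ^ 2 ^ 1 = 1; rw [pow_one, pow_two, ← map_mul, hr2, map_one]))
    ((QuotientGroup.eq_one_iff _).1 (hker' (z := ⟨_, _⟩) hyO))
  have e' : (u : G) * (x * c.ι r * x⁻¹) * (u : G)⁻¹ = c.ι r := congrArg Subtype.val e
  have huO : (u : G) ∈ Oc c.T := ⟨u, hu, rfl⟩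
  have hux : (u : G) * x ∈ Oc c.T := by
    refine odd_fix hp (mul_mem u.2 hxT) hm (hker (z := (u * ⟨x, hxT⟩) ^ m) ?_) hR hr2 hr1 hrt ?_
    · rw [map_pow, map_mul, hker' (z := u) huO, one_mul, ← map_pow,
        show (⟨x, hxT⟩ : ↥C0) ^ m = 1 from Subtype.ext hxm, map_one]
    · rw [← mul_inv_eq_iff_eq_mul]
      calc (u : G) * x * c.ι r * ((u : G) * x)⁻¹ = (u : G) * (x * c.ι r * x⁻¹) * (u : G)⁻¹ := by group
        _ = c.ι r := e'
  have := mul_mem (inv_mem huO) hux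
  rwa [inv_mul_cancel_left] at this

theorem map_Oc (g x : G) {o : G} (ho : o ∈ Oc x) : g * o * g⁻¹ ∈ Oc (g * x * g⁻¹) := Strong.map_core g x ho

/-- **Balance.** -/
theorem balance (hp : c.Pattern) {a b : G} (ha2 : a * a = 1) (ha1 : a ≠ 1) (hb : IsConj b c.T)
    (hab : Commute a b) {x : G} (hx : x ∈ Oc a) (hxb : x ∈ centralizer ({b} : Set G)) : x ∈ Oc b := by
  obtain ⟨g, hg⟩ := isConj_iff.1 hb
  have haC : g * a * g⁻¹ ∈ centralizer ({c.T} : Set G) := by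
    rw [← hg]; exact mem_centralizer_singleton_iff.2 (hab.map (MulAut.conj g).toMonoidHom).eq
  obtain ⟨k, hk, hkS⟩ := Cfsg.Lib.TwoFusion.exists_sylow_conj c.S c.S_le (X := zpowers (g * a * g⁻¹))
    (IsPGroup.of_card (n := 1) (by
      rw [Nat.card_zpowers, ← MulAut.conj_apply, MulEquiv.orderOf_eq,
        Cfsg.Lib.InvolCalc.order_two_of_mul_self ha2 ha1, pow_one])) (zpowers_le.2 haC)
  obtain ⟨p, hp'⟩ := c.exists_ι (hkS _ (mem_zpowers _))
  have hpa : c.ι p = k * g * a * (k * g)⁻¹ := by rw [hp']; group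
  have hkb : k * g * b * (k * g)⁻¹ = c.T := by
    calc k * g * b * (k * g)⁻¹ = k * (g * b * g⁻¹) * k⁻¹ := by group
      _ = c.T := by rw [hg, mem_centralizer_singleton_iff.1 hk, mul_inv_cancel_right]
  have hp2 : p * p = 1 := c.ι_inj (by
    rw [map_mul, map_one, hpa, show k * g * a * (k * g)⁻¹ * (k * g * a * (k * g)⁻¹) =
      k * g * (a * a) * (k * g)⁻¹ by group, ha2, mul_one, mul_inv_cancel])
  have hp1 : p ≠ 1 := fun e => ha1 (by
    rw [e, map_one] at hpa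
    exact conj_eq_one_iff.1 hpa.symm)
  have h := balance_T hp hp2 hp1 (x := k * g * x * (k * g)⁻¹) (hpa ▸ map_Oc _ _ hx) (by
    rw [← hkb]
    exact mem_centralizer_singleton_iff.2
      ((show Commute x b from mem_centralizer_singleton_iff.1 hxb).map (MulAut.conj (k * g)).toMonoidHom).eq)
  have h' := map_Oc (k * g)⁻¹ c.T h
  rw [show (k * g)⁻¹ * c.T * (k * g)⁻¹⁻¹ = b by rw [← hkb]; group,
    show (k * g)⁻¹ * (k * g * x * (k * g)⁻¹) * (k * g)⁻¹⁻¹ = x by group] at h'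
  exact h'

theorem WV_odd (hp : c.Pattern) : Odd (Nat.card c.WV) := by
  haveI : Fact (Nat.Prime 2) := ⟨Nat.prime_two⟩
  have hodd : ∀ a : G, Odd (Nat.card ↥(Oc a)) := fun a =>
    Nat.coprime_two_right.1 (Cfsg.Lib.Components.centralizerPPrimeCore_card_coprime a)
  obtain ⟨h, -⟩ := Cfsg.Agent.S0217.result (p := 2) c.VG VG_comm VG_sq (by rw [VG_card]; norm_num) (Oc (G := G))
    (fun a _ _ => Cfsg.Lib.Components.centralizerPPrimeCore_le_centralizer a)
    (fun a _ _ => (hodd a).not_two_dvd_nat)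
    (fun a ha _ b hb x hx => (mem_normalizer_iff.1
      (Cfsg.Lib.Components.centralizer_le_normalizer_centralizerPPrimeCore a
        (mem_centralizer_singleton_iff.2 (VG_comm b hb a ha))) x).1 hx)
    (fun a _ _ => Cfsg.Agent.PF.isSolvable_of_odd _ (hodd a))
    (fun a ha ha1 b hb hb1 x hx => balance hp (by rw [← pow_two]; exact VG_sq a ha) ha1 (VG_tconj hp hb hb1)
      (VG_comm a ha b hb) hx.1 hx.2)
  exact Nat.odd_iff.2 (Nat.two_dvd_ne_zero.1 h)

theorem Oc_le_WV {a : G} (ha : a ∈ c.VG) (ha1 : a ≠ 1) : Oc a ≤ c.WV :=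
  le_iSup (fun a : {a : G // a ∈ c.VG ∧ a ≠ 1} => Oc (a : G)) ⟨a, ha, ha1⟩

theorem T_mem_VG : c.T ∈ c.VG := ⟨t0, class_witness.1, rfl⟩

/-- The cores of the involutions of the large subgroup are inside. -/
theorem large_le (hp : c.Pattern) {u : Mdl} (hR : InR u = true) (h2 : u * u = 1) (h1 : u ≠ 1) :
    Oc (c.ι u) ≤ c.WV := by
  obtain ⟨z, hzV, hz2, hz1, hzt, huz⟩ := four_facts hR h2
  set F : Subgroup G := closure {c.T, c.ι z} with hF
  have hFle : F ≤ c.VG := (closure_le _).2 (by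
    rintro w (rfl | rfl)
    exacts [T_mem_VG, ⟨z, hzV, rfl⟩])
  have hcu : ∀ e ∈ F, Commute e (c.ι u) := fun e he => by
    have hle : F ≤ centralizer ({c.ι u} : Set G) := (closure_le _).2 (by
      rintro w (rfl | rfl)
      · exact mem_centralizer_singleton_iff.2 (c.ι_comm (t0_central u).symm).eq
      · exact mem_centralizer_singleton_iff.2 (c.ι_comm huz.symm).eq)
    exact mem_centralizer_singleton_iff.1 (hle he)
  have h4 : 4 ≤ Nat.card F := by
    have h : ({1, c.T, c.ι z} : Set G).ncard < Nat.card F := by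
      rw [← SetLike.coe_sort_coe, Nat.card_coe_set_eq]
      refine Set.ncard_lt_ncard ⟨?_, fun hsub => ?_⟩ (Set.toFinite _)
      · rintro w (rfl | rfl | rfl)
        exacts [one_mem F, subset_closure (by simp), subset_closure (by simp)]
      · have hm : c.T * c.ι z ∈ F := mul_mem (subset_closure (by simp)) (subset_closure (by simp))
        rcases hsub hm with e | e | e
        · refine hzt (c.ι_inj ?_)
          rw [← inv_eq_of_mul_eq_one_right e,
            inv_eq_of_mul_eq_one_right (show c.T * c.T = 1 by rw [← map_mul, t0_facts.1, map_one])]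
        · exact c.ι_ne hz1 (mul_eq_left.1 e)
        · exact c.ι_ne t0_facts.2 (mul_eq_right.1 e)
    have h3 : ({1, c.T, c.ι z} : Set G).ncard = 3 := by
      rw [Set.ncard_eq_three]
      exact ⟨1, c.T, c.ι z, (c.ι_ne t0_facts.2).symm, (c.ι_ne hz1).symm, fun e => hzt (c.ι_inj e).symm, rfl⟩
    omega
  refine Cfsg.Lib.LFourType.le_of_four' h4 (fun a ha b hb => VG_comm a (hFle ha) b (hFle hb))
    (fun a ha => by rw [← pow_two]; exact VG_sq a (hFle ha))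
    (Nat.coprime_two_right.1 (Cfsg.Lib.Components.centralizerPPrimeCore_card_coprime _))
    (fun e he => Cfsg.Lib.Components.centralizer_le_normalizer_centralizerPPrimeCore _
      (mem_centralizer_singleton_iff.2 (hcu e he).eq))
    (fun e he he1 x hx => Oc_le_WV (hFle he) he1 (balance hp (by rw [← map_mul, h2, map_one]) (c.ι_ne h1)
      (VG_tconj hp (hFle he) he1) (hcu e he).symm hx.1 hx.2))

theorem WV_map {g : G} (h : ∀ a ∈ c.VG, a ≠ 1 → Oc (g * a * g⁻¹) ≤ c.WV) :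
    g ∈ normalizer (c.WV : Set G) := by
  refine Cfsg.Lib.ZStarApps.mem_normalizer_of_maps fun w hw => ?_
  have hle : c.WV ≤ c.WV.comap (MulAut.conj g).toMonoidHom := iSup_le fun a o ho =>
    h a.1 a.2.1 a.2.2 (map_Oc g a.1 ho)
  exact hle hw

/-- The centraliser of the centre normalises the join. -/
theorem C0_le (hp : c.Pattern) : centralizer ({c.T} : Set G) ≤ normalizer (c.WV : Set G) := by
  intro g hg
  obtain ⟨o, ho, hn⟩ := C0_decomp hp hg
  have h1 : o ∈ normalizer (c.WV : Set G) := le_normalizer (Oc_le_WV T_mem_VG (c.ι_ne t0_facts.2) ho)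
  have h2 : o⁻¹ * g ∈ normalizer (c.WV : Set G) := by
    refine WV_map fun a ha ha1 => ?_
    obtain ⟨q, hq, rfl⟩ := ha
    obtain ⟨u, hu, e⟩ := mem_RG.1 ((mem_normalizer_iff.1 hn _).1 (mem_RG.2 ⟨q, vectors_R q hq, rfl⟩))
    rw [← e]
    refine large_le hp hu (c.ι_inj ?_) fun h => ha1 (conj_eq_one_iff.1 (e.symm.trans (by rw [h, map_one])))
    rw [map_mul, map_one, e, show ∀ b : G, o⁻¹ * g * b * (o⁻¹ * g)⁻¹ * (o⁻¹ * g * b * (o⁻¹ * g)⁻¹) =
      o⁻¹ * g * (b * b) * (o⁻¹ * g)⁻¹ from fun b => by group, ← map_mul, ((InV_iff q).1 hq).2, map_one, mul_one,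
      mul_inv_cancel]
  have := mul_mem h1 h2
  rwa [mul_inv_cancel_left] at this

/-- A conjugation of a vector onto the centre normalises the join. -/
theorem move_mem {g : G} (hA : ∀ a ∈ AM, ∃ a', c.Img g a a') : g ∈ normalizer (c.WV : Set G) :=
  WV_map fun a ha ha1 => by
    obtain ⟨q, hq, rfl⟩ := ha
    obtain ⟨q', hq'⟩ := hA q ((InV_iff q).1 hq).1
    rw [← show c.ι q' = g * c.ι q * g⁻¹ from hq']
    exact Oc_le_WV ⟨q', c.img_InV hA hq hq', rfl⟩ fun e => ha1 (by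
      rw [show q = 1 from by_contra fun h => (hq'.ne_one h) (c.ι_inj (e.trans (map_one _).symm)), map_one])

theorem exists_six (hp : c.Pattern) : ∃ g ∈ normalizer (c.WV : Set G), c.Img g v6 t0 ∧
    ∀ q : Mdl, q * v6 = v6 * q → ∃ q', c.Img g q q' := by
  obtain ⟨g, hg, hgq⟩ := c.exists_move (hp.conjT local_witness.2.2.2.2.2.2.2.2.2.2.2.2.1
    local_witness.2.2.2.2.2.2.2.2.2.2.2.2.2.1 (Or.inr (Or.inr (Or.inr (Or.inl (by decide +kernel))))))
  exact ⟨g, move_mem fun a ha => hgq a (v7_check.2.2.1 a ha).2.1, hg, hgq⟩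

/-- **The join's normaliser fuses the class of the centre.** -/
theorem to_T (hp : c.Pattern) {w : Mdl} (h2 : w * w = 1) (h1 : w ≠ 1)
    (hc : cls w = 0 ∨ cls w = 1 ∨ cls w = 2 ∨ cls w = 6 ∨ cls w = 7 ∨ cls w = 8) :
    ∃ m ∈ normalizer (c.WV : Set G), m * c.ι w * m⁻¹ = c.T := by
  obtain ⟨g, hg, hgx, hgq⟩ := exists_six hp
  have inR : ∀ {w : Mdl}, InR w = true → w * w = 1 → w ≠ 1 →
      ∃ m ∈ normalizer (c.WV : Set G), m * c.ι w * m⁻¹ = c.T := by
    intro w hR h2 h1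
    by_cases ht : w = t0
    · subst ht; exact ⟨1, one_mem _, by group⟩
    obtain ⟨h, hht, hhw⟩ := cc_of_inR hp h2 h1 ht hR
    exact ⟨g * h, mul_mem hg (C0_le hp (cent_of_img_T hht)), (hhw.comp hgx).symm⟩
  rcases hc with e | e
  swap
  · exact inR ((InR_cls w h2 h1).2 e) h2 h1
  obtain ⟨-, hV7, -, -, hi6, hiv, hi2, hi1, hiR, -, h6t, h71, hz2, hz1, -⟩ := class_witness
  obtain ⟨d, hd⟩ := hgq i2 hi6
  obtain ⟨v, hv⟩ := hgq v7 (v7_check.2.2.1 v7 ((InV_iff v7).1 hV7).1).2.1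
  have hd0 : cls d = 0 := by
    rcases c.outer_image (fun a ha => hgq a (v7_check.2.2.1 a ha).2.1) hgx h6t hi2 hi1 hV7 h71 hiv hd hv with f | f
    · exact f
    · rcases hp.img_cases hd hi2 hi1 (Or.inr (Or.inr (Or.inl (by decide +kernel)))) with e' | e' | e' | e' | e' | e' <;>
        omega
  obtain ⟨x, hx⟩ := (cls_spec h2 h1).2
  obtain ⟨y, hy⟩ := (cls_spec (hd.sq hi2) (hd.ne_one hi1)).2
  rw [hd0] at hy
  rw [e] at hx
  obtain ⟨m, hm, hmT⟩ := inR hiR hi2 hi1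
  have hxy : y * x⁻¹ * w * (y * x⁻¹)⁻¹ = d := by rw [← hx, ← hy]; group
  refine ⟨m * g⁻¹ * c.ι (y * x⁻¹), mul_mem (mul_mem hm (inv_mem hg)) (C0_le hp (c.S_le (c.ι_mem _))), ?_⟩
  calc m * g⁻¹ * c.ι (y * x⁻¹) * c.ι w * (m * g⁻¹ * c.ι (y * x⁻¹))⁻¹
      = m * g⁻¹ * (c.ι (y * x⁻¹) * c.ι w * (c.ι (y * x⁻¹))⁻¹) * g * m⁻¹ := by group
    _ = m * g⁻¹ * (g * c.ι i2 * g⁻¹) * g * m⁻¹ := by
      rw [← map_inv, ← map_mul, ← map_mul, hxy, show c.ι d = g * c.ι i2 * g⁻¹ from hd]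
    _ = c.T := by rw [← hmT]; group

/-- **The centraliser of the central involution is core-free.** -/
theorem core_trivial [IsSimpleGroup G] (hp : c.Pattern) : Oc c.T = ⊥ := by
  haveI : Fact (Nat.Prime 2) := ⟨Nat.prime_two⟩
  by_contra hO
  set N := normalizer (c.WV : Set G) with hN
  have hWle : Oc c.T ≤ c.WV := Oc_le_WV T_mem_VG (c.ι_ne t0_facts.2)
  have hNtop : N ≠ ⊤ := fun h => by
    haveI : c.WV.Normal := normalizer_eq_top_iff.1 h
    rcases (‹c.WV.Normal›).eq_bot_or_eq_top with e | e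
    · exact hO (le_bot_iff.1 (e ▸ hWle))
    · have hodd := WV_odd hp
      rw [e, card_top] at hodd
      have h2 : 2 ∣ Nat.card G := c.orderOf_T ▸ orderOf_dvd_natCard c.T
      exact hodd.not_two_dvd_nat h2
  have hC0 := C0_le hp
  have hSN : (c.S : Subgroup G) ≤ N := c.S_le.trans hC0
  have hT2 := c.orderOf_T
  have into : ∀ y ∈ N, orderOf y = 2 → IsConj y c.T → ∃ m ∈ N, m * y * m⁻¹ = c.T := by
    intro y hy ho hc
    obtain ⟨n, hn, hnS⟩ := Cfsg.Lib.TwoFusion.exists_sylow_conj c.S hSN (X := zpowers y)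
      (IsPGroup.of_card (n := 1) (by rw [Nat.card_zpowers, ho, pow_one])) (zpowers_le.2 hy)
    obtain ⟨w, hw⟩ := c.exists_ι (hnS _ (mem_zpowers y))
    have how : orderOf (c.ι w) = 2 := by rw [hw, ← MulAut.conj_apply, MulEquiv.orderOf_eq, ho]
    obtain ⟨hw2, hw1⟩ := c.inv_pre how
    obtain ⟨m, hm, hmT⟩ := to_T hp hw2 hw1
      (hp.cases hw2 hw1 ((isConj_iff.2 ⟨n, hw.symm⟩ : IsConj y (c.ι w)).symm.trans hc))
    refine ⟨m * n, mul_mem hm hn, ?_⟩
    rw [← hmT, hw]; group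
  suffices hh : (∀ g : G, g * c.T * g⁻¹ ∈ N → g ∈ N) ∧ (∀ g : G, Commute c.T (g * c.T * g⁻¹) →
      g * c.T * g⁻¹ ≠ c.T → centralizer ({c.T * (g * c.T * g⁻¹)} : Set G) ≤ N) by
    obtain ⟨H, hH⟩ := Cfsg.Agent.S1175.result N hNtop c.T hT2 (hSN (c.ι_mem t0))
      ⟨c.S, c.ι_mem t0, fun s hs => mem_centralizer_singleton_iff.1 (c.S_le hs)⟩ hh.1 hh.2
    exact not_four (c := c)
      (Cfsg.Lib.StrongEmb.all_conj hH (c.order_ι (rep_cls 4).2.1 (rep_cls 4).2.2) hT2)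
  refine ⟨fun g hg => ?_, fun g hc hne => ?_⟩
  · obtain ⟨m, hm, hmT⟩ := into _ hg (by rw [← MulAut.conj_apply, MulEquiv.orderOf_eq, hT2])
      (isConj_iff.2 ⟨g, rfl⟩ : IsConj c.T _).symm
    have hC : m * g ∈ centralizer ({c.T} : Set G) :=
      cent_of_img_T (show c.T = m * g * c.T * (m * g)⁻¹ from hmT.symm.trans (by group))
    exact (mul_mem_cancel_left hm).1 (hC0 hC)
  · -- commuting conjugates
    have hyC : g * c.T * g⁻¹ ∈ centralizer ({c.T} : Set G) := mem_centralizer_singleton_iff.2 hc.symm.eq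
    obtain ⟨k, hk, hkS⟩ := Cfsg.Lib.TwoFusion.exists_sylow_conj c.S c.S_le (X := zpowers (g * c.T * g⁻¹))
      (IsPGroup.of_card (n := 1) (by rw [Nat.card_zpowers, ← MulAut.conj_apply, MulEquiv.orderOf_eq, hT2, pow_one]))
      (zpowers_le.2 hyC)
    obtain ⟨w, hw⟩ := c.exists_ι (hkS _ (mem_zpowers _))
    obtain ⟨hw2, hw1⟩ := c.inv_pre (q := w) (by
      rw [hw, ← MulAut.conj_apply, MulEquiv.orderOf_eq, ← MulAut.conj_apply, MulEquiv.orderOf_eq, hT2])
    have hkT : k * c.T * k⁻¹ = c.T := by rw [mem_centralizer_singleton_iff.1 hk, mul_inv_cancel_right]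
    have hwt : w ≠ t0 := fun e => hne (mul_left_cancel (mul_right_cancel
      (show k * (g * c.T * g⁻¹) * k⁻¹ = k * c.T * k⁻¹ by rw [hkT, ← hw, e])))
    have hcw := hp.cases hw2 hw1 (isConj_iff.2 ⟨k * g, by rw [hw]; group⟩ : IsConj c.T (c.ι w)).symm
    obtain ⟨e, he2, he1⟩ := cls_mul_t0 hw2 hw1 hwt
    obtain ⟨m, hm, hmT⟩ := to_T hp he2 he1 (e.symm ▸ hcw)
    intro z hz
    have hmk : m * k ∈ N := mul_mem hm (hC0 hk)
    have hzC : m * k * z * (m * k)⁻¹ ∈ centralizer ({c.T} : Set G) := by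
      rw [← hmT, map_mul, hw, show c.T * (k * (g * c.T * g⁻¹) * k⁻¹) = k * c.T * k⁻¹ * (k * (g * c.T * g⁻¹) * k⁻¹) by
        rw [hkT], show m * (k * c.T * k⁻¹ * (k * (g * c.T * g⁻¹) * k⁻¹)) * m⁻¹ =
          m * k * (c.T * (g * c.T * g⁻¹)) * (m * k)⁻¹ by group]
      exact mem_centralizer_singleton_iff.2
        ((show Commute z (c.T * (g * c.T * g⁻¹)) from mem_centralizer_singleton_iff.1 hz).map
          (MulAut.conj (m * k)).toMonoidHom).eq
    have := mul_mem (mul_mem (inv_mem hmk) (hC0 hzC)) hmk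
    rwa [show (m * k)⁻¹ * (m * k * z * (m * k)⁻¹) * (m * k) = z by group] at this

end Typed

end Cfsg.Lib.HSType
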