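import Cfsg.Agent.Classical.Misc.SixtyGroup
import Cfsg.Agent.SolvStruct.AltAut
import Cfsg.Agent.SolvStruct.AltEight.GLFour
import Cfsg.Agent.Components.Cores
import Cfsg.Prelude.Def_Transfer

/-!
# The two quotients of the local subgroups

A group of order 120 recognised as symmetric of degree five, and the normaliser of an elementary group
of order eight recognised as an extension by the linear group.
-/

set_option autoImplicit false
set_option linter.unusedSectionVars false
set_option linter.style.haveILetI false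

namespace Cfsg.Lib.HSType

open Subgroup

universe u

namespace Quot120

variable {X : Type u} [Group X] [Finite X]

/-- An element of order five of the normal subgroup generates a subgroup that is not normal. -/
theorem five_not_normal (L : Subgroup X) [L.Normal] (hidx : L.index = 2)
    (h5 : ∀ a ∈ L, ∀ w ∈ L, orderOf a = 2 → orderOf w = 5 → ¬ Commute a w)
    (hS : ∃ P : Subgroup X, IsPGroup 2 P ∧ ∃ a ∈ P, ∃ b ∈ P, a * b ≠ b * a) {w : X} (hw : w ∈ L)
    (ho : orderOf w = 5) (hn : (zpowers w).Normal) : False := by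
  obtain ⟨P, hP, a, ha, b, hb, hab⟩ := hS
  obtain ⟨i, hi⟩ := mem_zpowers_iff.1 (hn.conj_mem w (mem_zpowers w) a)
  obtain ⟨j, hj⟩ := mem_zpowers_iff.1 (hn.conj_mem w (mem_zpowers w) b)
  set c := a * b * a⁻¹ * b⁻¹ with hc
  have h1 : a * b * w * (a * b)⁻¹ = b * a * w * (b * a)⁻¹ := by
    rw [show a * b * w * (a * b)⁻¹ = a * (b * w * b⁻¹) * a⁻¹ by group, ← hj, ← conj_zpow, ← hi, ← zpow_mul,
      show b * a * w * (b * a)⁻¹ = b * (a * w * a⁻¹) * b⁻¹ by group, ← hi, ← conj_zpow, ← hj, ← zpow_mul,
      mul_comm]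
  have hcw : Commute c w := by
    refine mul_inv_eq_iff_eq_mul.1 ?_
    calc c * w * c⁻¹ = a * b * ((b * a)⁻¹ * w * (b * a)) * (a * b)⁻¹ := by rw [hc]; group
      _ = a * b * ((b * a)⁻¹ * w * (b * a)) * (a * b)⁻¹ := rfl
      _ = w := by
        obtain ⟨k, hk⟩ := mem_zpowers_iff.1 (hn.conj_mem w (mem_zpowers w) (b * a)⁻¹)
        rw [inv_inv] at hk
        rw [← hk, ← conj_zpow, h1, conj_zpow, hk]
        group
  have hcL : c ∈ L := by
    rw [hc, ← QuotientGroup.eq_one_iff]
    haveI : IsCyclic (X ⧸ L) := isCyclic_of_prime_card (p := 2) (by rw [← index_eq_card, hidx])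
    letI : CommGroup (X ⧸ L) := IsCyclic.commGroup
    simp only [QuotientGroup.mk_mul, QuotientGroup.mk_inv]
    rw [mul_comm (a : X ⧸ L), mul_inv_cancel_right, mul_inv_cancel]
  have hcP : c ∈ P := mul_mem (mul_mem (mul_mem ha hb) (inv_mem ha)) (inv_mem hb)
  have hc1 : c ≠ 1 := fun e => hab (by
    calc a * b = c * (b * a) := by rw [hc]; group
      _ = b * a := by rw [e, one_mul])
  obtain ⟨k, hk⟩ := IsPGroup.iff_orderOf.1 hP ⟨c, hcP⟩
  rw [Subgroup.orderOf_mk] at hk
  have hk0 : k ≠ 0 := fun e => hc1 (orderOf_eq_one_iff.1 (by rw [hk, e, pow_zero]))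
  refine h5 (c ^ 2 ^ (k - 1)) (pow_mem hcL _) w hw ?_ ho (hcw.pow_left _)
  rw [orderOf_pow, hk, Nat.gcd_eq_right (Nat.pow_dvd_pow 2 (Nat.sub_le k 1)),
    Nat.pow_div (Nat.sub_le k 1) (by norm_num)]
  rw [show k - (k - 1) = 1 by omega, pow_one]

/-- The normal subgroup of order sixty is simple. -/
theorem simple_sixty (L : Subgroup X) [L.Normal] (hX : Nat.card X = 120) (hL : Nat.card L = 60)
    (h5 : ∀ a ∈ L, ∀ w ∈ L, orderOf a = 2 → orderOf w = 5 → ¬ Commute a w)
    (hS : ∃ P : Subgroup X, IsPGroup 2 P ∧ ∃ a ∈ P, ∃ b ∈ P, a * b ≠ b * a) : IsSimpleGroup L := by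
  classical
  haveI : Fact (Nat.Prime 5) := ⟨by norm_num⟩
  have hidx : L.index = 2 := by
    have := L.card_mul_index; rw [hL, hX] at this; omega
  obtain ⟨W⟩ : Nonempty (Sylow 5 L) := inferInstance
  have hW : Nat.card (W : Subgroup L) = 5 :=
    Cfsg.Lib.Classical.SixtyGroup.sylow_card_of (m := 12) (by omega) (by norm_num) W
  haveI : Nontrivial ↥(W : Subgroup L) := Finite.one_lt_card_iff_nontrivial.1 (by omega)
  obtain ⟨⟨w, hwW⟩, hw1⟩ := exists_ne (1 : ↥(W : Subgroup L))
  have how : orderOf w = 5 := by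
    have h := Subgroup.orderOf_dvd_natCard _ hwW
    rw [hW] at h
    exact ((Nat.dvd_prime (by norm_num)).1 h).resolve_left fun e => hw1 (Subtype.ext (orderOf_eq_one_iff.1 e))
  have hWz : zpowers w = (W : Subgroup L) :=
    eq_of_le_of_card_ge (zpowers_le.2 hwW) (by rw [Nat.card_zpowers, how, hW])
  have hnW : ¬ (W : Subgroup L).Normal := fun hn => by
    haveI := W.characteristic_of_normal hn
    refine five_not_normal L hidx h5 hS w.2 (by rw [Subgroup.orderOf_coe]; exact how) ?_
    have e : ((W : Subgroup L).map L.subtype) = zpowers (w : X) := by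
      rw [← hWz, MonoidHom.map_zpowers]; rfl
    rw [← e]
    infer_instance
  have hn6 : (normalizer ((W : Subgroup L) : Set L)).index = 6 := by
    simp only [Sylow.coe_coe]
    rw [← W.card_eq_index_normalizer]
    have h1 : Nat.card (Sylow 5 L) % 5 = 1 := card_sylow_modEq_one 5 L
    have h2 : Nat.card (Sylow 5 L) ∣ 12 := by
      refine W.card_dvd_index.trans ?_
      have := (W : Subgroup L).index_mul_card
      rw [hW, hL] at this
      exact ⟨1, by omega⟩
    have h3 : Nat.card (Sylow 5 L) ≠ 1 := fun h => by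
      haveI : Subsingleton (Sylow 5 L) := (Nat.card_eq_one_iff_unique.mp h).1
      exact hnW W.normal_of_subsingleton
    have hle := Nat.le_of_dvd (by norm_num) h2
    obtain ⟨c, hc⟩ := h2
    interval_cases hN : Nat.card (Sylow 5 L) <;> omega
  refine Cfsg.Lib.Classical.SixtyGroup.simple_of_sixty hL fun N hN hcN => ?_
  haveI := hN
  simp only [Finset.mem_insert, Finset.mem_singleton] at hcN
  rcases eq_or_ne (Nat.card N) 5 with e | e
  · refine hnW ?_
    have hi : ¬ 5 ∣ N.index := by
      have := N.card_mul_index; rw [e, hL] at this; omega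
    have hwN := Cfsg.Lib.Classical.SixtyGroup.mem_of_prime_pow N (p := 5) (by norm_num) hi
      (x := w) (by rw [← how, pow_orderOf_eq_one])
    have : (W : Subgroup L) = N :=
      eq_of_le_of_card_ge (hWz ▸ zpowers_le.2 hwN) (by rw [e, hW])
    rw [this]; exact hN
  -- a small normal subgroup is centralised by `w`
  have hfix : ∀ n ∈ N, Commute w n := fun n hn => by
    have h1 : (MulAut.conjNormal w : MulAut N) = 1 := by
      let f : MulAut N →* Equiv.Perm N :=
        { toFun := fun α => α.toEquiv, map_one' := rfl, map_mul' := fun _ _ => rfl }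
      have hd : orderOf (f (MulAut.conjNormal w)) ∣ 5 := by
        refine orderOf_dvd_of_pow_eq_one ?_
        rw [← map_pow, ← map_pow, ← how, pow_orderOf_eq_one, map_one, map_one]
      have hP : orderOf (f (MulAut.conjNormal w)) ∣ (Nat.card N).factorial := by
        rw [← Nat.card_perm]; exact orderOf_dvd_natCard _
      have h := orderOf_eq_one_iff.1 (((Nat.dvd_prime (by norm_num)).1 hd).resolve_right fun e5 => by
        rw [e5, (Fact.out : Nat.Prime 5).dvd_factorial] at hP
        omega)
      exact MulEquiv.ext fun x => congrArg (fun σ : Equiv.Perm N => σ x) h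
    have h2 := congrArg Subtype.val (DFunLike.congr_fun h1 (⟨n, hn⟩ : N))
    rw [MulAut.conjNormal_apply] at h2
    exact mul_inv_eq_iff_eq_mul.1 h2
  have hle : N ≤ normalizer ((W : Subgroup L) : Set L) := fun n hn => by
    refine mem_normalizer_iff.2 fun x => ?_
    have hx : ∀ x ∈ (W : Subgroup L), n * x * n⁻¹ = x := fun x hx => by
      rw [← hWz] at hx
      obtain ⟨i, rfl⟩ := mem_zpowers_iff.1 hx
      rw [((hfix n hn).zpow_left i).symm.eq, mul_inv_cancel_right]
    refine ⟨fun h => by rw [hx x h]; exact h, fun h => ?_⟩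
    have h' := hx _ h
    have : n * x * n⁻¹ = x := by
      calc n * x * n⁻¹ = n⁻¹ * (n * (n * x * n⁻¹) * n⁻¹) * n := by group
        _ = _ := by rw [h']; group
    rwa [this] at h
  have hd10 : Nat.card N ∣ 10 := by
    have h := card_dvd_of_le hle
    have hc := (normalizer ((W : Subgroup L) : Set L)).card_mul_index
    rw [hn6, hL] at hc
    rwa [show Nat.card (normalizer ((W : Subgroup L) : Set L)) = 10 by omega] at h
  have h2 : Nat.card N = 2 := by
    rcases hcN with e' | e' | e' | e' <;> first | exact e' | exact absurd e' e | (rw [e'] at hd10; omega)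
  haveI : Nontrivial N := Finite.one_lt_card_iff_nontrivial.1 (by omega)
  obtain ⟨⟨n, hn⟩, hn1⟩ := exists_ne (1 : N)
  have hon : orderOf n = 2 := by
    have h := Subgroup.orderOf_dvd_natCard _ hn
    rw [h2] at h
    exact ((Nat.dvd_prime Nat.prime_two).1 h).resolve_left fun e' => hn1 (Subtype.ext (orderOf_eq_one_iff.1 e'))
  exact h5 n n.2 w w.2 (by rw [Subgroup.orderOf_coe]; exact hon) (by rw [Subgroup.orderOf_coe]; exact how)
    ((hfix n hn).symm.map L.subtype)

end Quot120

open Quot120 in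
/-- A group of order 120 with these local properties is symmetric of degree five. -/
theorem iso_perm_five {X : Type u} [Group X] [Finite X] (L : Subgroup X) [L.Normal] (hX : Nat.card X = 120)
    (hL : Nat.card L = 60) (h5 : ∀ a ∈ L, ∀ w ∈ L, orderOf a = 2 → orderOf w = 5 → ¬ Commute a w)
    (hS : ∃ P : Subgroup X, IsPGroup 2 P ∧ ∃ a ∈ P, ∃ b ∈ P, a * b ≠ b * a) :
    Nonempty (X ≃* Equiv.Perm (Fin 5)) := by
  classical
  haveI : Fact (Nat.Prime 2) := ⟨Nat.prime_two⟩
  have hs := simple_sixty L hX hL h5 hS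
  obtain ⟨e⟩ := Cfsg.Lib.Classical.SixtyGroup.iso_alt_five hs hL
  let E : Equiv.Perm (Fin 5) ≃* MulAut ↥(alternatingGroup (Fin 5)) :=
    MulEquiv.ofBijective MulAut.conjNormal (Cfsg.Lib.SolvStruct.AltAut.conjNormal_bijective (by norm_num) (by norm_num))
  let f : X →* Equiv.Perm (Fin 5) :=
    (E.symm.toMonoidHom.comp (MulAut.congr e).toMonoidHom).comp MulAut.conjNormal
  by_cases hinj : Function.Injective f
  · refine ⟨MulEquiv.ofBijective f ((Nat.bijective_iff_injective_and_card f).2 ⟨hinj, ?_⟩)⟩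
    rw [hX, Nat.card_perm, Nat.card_fin]; rfl
  exfalso
  rw [← MonoidHom.ker_eq_bot_iff] at hinj
  set C := f.ker with hC
  have hcomm : ∀ c ∈ C, ∀ l ∈ L, c * l = l * c := fun c hc l hl => by
    rw [hC, MonoidHom.mem_ker] at hc
    have h1 : (MulAut.conjNormal c : MulAut L) = 1 :=
      (MulAut.congr e).map_eq_one_iff.1 (E.symm.map_eq_one_iff.1 hc)
    have h2 := congrArg Subtype.val (DFunLike.congr_fun h1 (⟨l, hl⟩ : L))
    rw [MulAut.conjNormal_apply] at h2
    exact mul_inv_eq_iff_eq_mul.1 h2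
  have hCL : ∀ c ∈ C, c ∈ L → c = 1 := fun c hc hcL => by
    have hz : (⟨c, hcL⟩ : L) ∈ center L := mem_center_iff.2 fun l => Subtype.ext (hcomm c hc l l.2).symm
    rcases hs.eq_bot_or_eq_top_of_normal (center L) inferInstance with h | h
    · rw [h, mem_bot] at hz; exact congrArg Subtype.val hz
    · exfalso
      haveI := Fact.mk (show Nat.Prime 5 by norm_num)
      obtain ⟨w, hw⟩ := exists_prime_orderOf_dvd_card' (G := L) 5 (by rw [hL]; norm_num)
      obtain ⟨a, ha⟩ := exists_prime_orderOf_dvd_card' (G := L) 2 (by rw [hL]; norm_num)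
      refine h5 a a.2 w w.2 (by rw [Subgroup.orderOf_coe]; exact ha) (by rw [Subgroup.orderOf_coe]; exact hw)
        ((show Commute a w from (mem_center_iff.1 (h ▸ mem_top w) a)).map L.subtype)
  have hidx : L.index = 2 := by
    have := L.card_mul_index; rw [hL, hX] at this; omega
  have hC2 : Nat.card C = 2 := by
    have hle : Nat.card C ≤ 2 := by
      rw [← hidx, index_eq_card]
      exact Nat.card_le_card_of_injective (fun c : C => ((c : X) : X ⧸ L)) fun a b h =>
        Subtype.ext (inv_mul_eq_one.1 (hCL _ (mul_mem (inv_mem a.2) b.2) (QuotientGroup.eq.1 h)))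
    have h1 : Nat.card C ≠ 1 := fun h => hinj (card_eq_one.1 h)
    have := Nat.card_pos (α := C)
    omega
  obtain ⟨P, hP, a, ha, b, hb, hab⟩ := hS
  apply hab
  set π := QuotientGroup.mk' C with hπ
  have hQ : Nat.card (P.map π) ∣ 4 := by
    obtain ⟨n, hn⟩ := IsPGroup.iff_card.1 (hP.map π)
    have h60 : Nat.card (X ⧸ C) = 60 := by
      rw [← index_eq_card]
      have := C.card_mul_index; rw [hC2, hX] at this; omega
    have h := card_subgroup_dvd_card (P.map π)
    rw [h60, hn] at h
    rw [hn]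
    exact ((Nat.Coprime.pow_left n (by norm_num : Nat.Coprime 2 15)).dvd_of_dvd_mul_right
      (show 2 ^ n ∣ 4 * 15 from h))
  have hQc : π a * π b = π b * π a := by
    have hm : IsMulCommutative (P.map π) := by
      rcases (Nat.dvd_prime_pow Nat.prime_two).1 (show Nat.card (P.map π) ∣ 2 ^ 2 from hQ) with ⟨k, hk, e⟩
      interval_cases k
      · haveI : Subsingleton ↥(P.map π) := (Nat.card_eq_one_iff_unique.1 (by rw [e]; rfl)).1
        exact ⟨⟨fun _ _ => Subsingleton.elim _ _⟩⟩
      · haveI : IsCyclic ↥(P.map π) := isCyclic_of_prime_card (p := 2) (by rw [e]; rfl)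
        letI : CommGroup ↥(P.map π) := IsCyclic.commGroup
        exact ⟨⟨mul_comm⟩⟩
      · exact IsPGroup.isMulCommutative_of_card_eq_prime_sq (p := 2) (G := ↥(P.map π)) (by rw [e])
    exact congrArg Subtype.val (hm.is_comm.comm (⟨π a, a, ha, rfl⟩ : ↥(P.map π)) ⟨π b, b, hb, rfl⟩)
  have h1 : a * b * a⁻¹ * b⁻¹ ∈ C := by
    rw [← QuotientGroup.eq_one_iff]
    show π (a * b * a⁻¹ * b⁻¹) = 1
    rw [map_mul, map_mul, map_mul, map_inv, map_inv, hQc, mul_inv_cancel_right, mul_inv_cancel]
  have h2 : a * b * a⁻¹ * b⁻¹ ∈ L := by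
    rw [← QuotientGroup.eq_one_iff]
    haveI : IsCyclic (X ⧸ L) := isCyclic_of_prime_card (p := 2) (by rw [← index_eq_card, hidx])
    letI : CommGroup (X ⧸ L) := IsCyclic.commGroup
    simp only [QuotientGroup.mk_mul, QuotientGroup.mk_inv]
    rw [mul_comm (a : X ⧸ L), mul_inv_cancel_right, mul_inv_cancel]
  calc a * b = a * b * a⁻¹ * b⁻¹ * (b * a) := by group
    _ = b * a := by rw [hCL _ h1 h2, one_mul]

namespace Quot168

/-- The automorphisms of an elementary group of order eight as matrices. -/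
theorem exists_matrix_hom {E : Type u} [CommGroup E] [Finite E] (hsq : ∀ x : E, x * x = 1)
    (hcard : Nat.card E = 8) : ∃ f : MulAut E →* GL (Fin 3) (ZMod 2), Function.Injective f := by
  letI : Module (ZMod 2) (Additive E) := AddCommGroup.zmodModule fun x => by
    rw [two_nsmul]
    exact Additive.toMul.injective (hsq x.toMul)
  haveI : Finite (Additive E) := Finite.of_equiv E Additive.ofMul
  haveI : Module.Finite (ZMod 2) (Additive E) := Module.Finite.of_finite
  have hrk : Module.finrank (ZMod 2) (Additive E) = 3 := by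
    have h := Module.natCard_eq_pow_finrank (K := ZMod 2) (V := Additive E)
    rw [Nat.card_zmod, ← Nat.card_congr (Additive.ofMul (α := E)), hcard, show (8 : ℕ) = 2 ^ 3 by norm_num] at h
    exact (Nat.pow_right_injective le_rfl h).symm
  let b := Module.finBasisOfFinrankEq (ZMod 2) (Additive E) hrk
  let lin : MulAut E →* Module.End (ZMod 2) (Additive E) :=
    { toFun := fun γ => (MonoidHom.toAdditive γ.toMonoidHom).toZModLinearMap 2
      map_one' := LinearMap.ext fun _ => rfl
      map_mul' := fun _ _ => LinearMap.ext fun _ => rfl }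
  refine ⟨(Units.map (LinearMap.toMatrixAlgEquiv b).toMulEquiv.toMonoidHom).comp lin.toHomUnits,
    fun γ γ' h => MulEquiv.ext fun x => ?_⟩
  have h1 : LinearMap.toMatrixAlgEquiv b (lin γ) = LinearMap.toMatrixAlgEquiv b (lin γ') := congrArg Units.val h
  exact congrArg Additive.toMul (LinearMap.congr_fun ((LinearMap.toMatrixAlgEquiv b).injective h1) (Additive.ofMul x))

theorem simple_gl : IsSimpleGroup (GL (Fin 3) (ZMod 2)) := by
  obtain ⟨e⟩ := Cfsg.Lib.SolvStruct.AltEight.gl_equiv_psl 3
  haveI := Cfsg.Lib.Classical.isSimpleGroup_PSL_fin (F := ZMod 2) (n := 3) (by norm_num) (by omega)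
  exact e.isSimpleGroup

theorem card_gl : Nat.card (GL (Fin 3) (ZMod 2)) = 168 := by
  rw [Matrix.card_GL_field, ZMod.card, Fin.prod_univ_three]; norm_num

end Quot168

open Quot168 in
/-- The normaliser of an elementary group of order eight with transitive action and a large 2-part. -/
theorem quot_gl_three {G : Type u} [Group G] [Finite G] (V A M : Subgroup G)
    (hVc : ∀ a ∈ V, ∀ b ∈ V, a * b = b * a) (hVsq : ∀ a ∈ V, a * a = 1) (hV8 : Nat.card V = 8)
    (hA : A = centralizer (V : Set G)) (hM : M = normalizer (V : Set G)) (hA2 : IsPGroup 2 A)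
    (htrans : ∀ v ∈ V, ∀ w ∈ V, v ≠ 1 → w ≠ 1 → ∃ g ∈ M, g * v * g⁻¹ = w) (h8 : 8 ∣ A.relIndex M) :
    (Cfsg.pCore 2 M).map M.subtype = A ∧ Nonempty (M ⧸ Cfsg.pCore 2 M ≃* GL (Fin 3) (ZMod 2)) := by
  classical
  subst hA hM
  haveI := simple_gl
  haveI : Fact (Nat.Prime 2) := ⟨Nat.prime_two⟩
  letI : CommGroup ↥V := { (inferInstance : Group ↥V) with mul_comm := fun a b => Subtype.ext (hVc a a.2 b b.2) }
  obtain ⟨ψ, hψ⟩ := exists_matrix_hom (E := ↥V) (fun x => Subtype.ext (hVsq x x.2)) hV8
  set M := normalizer (V : Set G) with hM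
  let ρ : ↥M →* GL (Fin 3) (ZMod 2) := ψ.comp V.normalizerMonoidHom
  have hker : ρ.ker = (centralizer (V : Set G)).subgroupOf M := by
    rw [← normalizerMonoidHom_ker]
    ext g
    simp only [MonoidHom.mem_ker]
    exact map_eq_one_iff ψ hψ
  -- the orbit on the involutions
  haveI : Nontrivial ↥V := Finite.one_lt_card_iff_nontrivial.1 (by omega)
  obtain ⟨v, hv⟩ := exists_ne (1 : ↥V)
  letI : MulAction ↥M ↥V := MulAction.compHom ↥V V.normalizerMonoidHom
  have horb : MulAction.orbit ↥M v = {w : ↥V | w ≠ 1} := by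
    ext w
    constructor
    · rintro ⟨g, rfl⟩
      show V.normalizerMonoidHom g v ≠ 1
      exact fun e => hv ((map_eq_one_iff _ (V.normalizerMonoidHom g).injective).1 e)
    · intro hw
      obtain ⟨g, hg, e⟩ := htrans v v.2 w w.2 (fun e => hv (Subtype.ext e)) (fun e => hw (Subtype.ext e))
      exact ⟨⟨g, hg⟩, Subtype.ext e⟩
  have h7 : 7 ∣ ρ.ker.index := by
    have h := MulAction.index_stabilizer ↥M v
    rw [horb] at h
    have hc : Set.ncard {w : ↥V | w ≠ 1} = 7 := by
      rw [show {w : ↥V | w ≠ 1} = ({1} : Set ↥V)ᶜ from rfl, Set.ncard_compl, Set.ncard_singleton, hV8]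
    rw [← hc, ← h]
    refine index_dvd_of_le fun g hg => ?_
    rw [MonoidHom.mem_ker] at hg
    show V.normalizerMonoidHom g v = v
    rw [(map_eq_one_iff ψ hψ).1 hg]
    rfl
  have hcardK : 56 ∣ Nat.card ρ.range := by
    rw [← index_ker]
    exact Nat.Coprime.mul_dvd_of_dvd_of_dvd (show Nat.Coprime 8 7 by norm_num) (by rw [hker]; exact h8) h7
  have hsurj : Function.Surjective ρ := by
    rw [← MonoidHom.range_eq_top]
    set K := ρ.range
    obtain ⟨r, hr⟩ := hcardK
    have hKi := K.card_mul_index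
    rw [card_gl, hr, mul_assoc] at hKi
    have hr3 : r * K.index = 3 := by omega
    rcases (Nat.dvd_prime Nat.prime_three).1 (Dvd.intro_left _ hr3) with h | h
    · exact index_eq_one.1 h
    exfalso
    have hk := (inferInstance : K.normalCore.Normal).eq_bot_or_eq_top
    rcases hk with hk | hk
    · rw [K.normalCore_eq_ker] at hk
      have h1 := card_dvd_of_injective _ ((MonoidHom.ker_eq_bot_iff _).1 hk)
      rw [card_gl, Nat.card_perm, ← index_eq_card, h] at h1
      revert h1; decide
    · have : K = ⊤ := top_le_iff.1 (hk.ge.trans K.normalCore_le)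
      rw [this, index_top] at h
      omega
  have hcore : Cfsg.pCore 2 ↥M = ρ.ker := by
    refine le_antisymm ?_ ?_
    · haveI hn : ((Cfsg.pCore 2 ↥M).map ρ).Normal :=
        (Cfsg.Lib.Components.pCore_normal_and_isPGroup (G := ↥M) 2).1.map ρ hsurj
      rcases hn.eq_bot_or_eq_top with h | h
      · exact (Subgroup.map_eq_bot_iff _).1 h
      · exfalso
        obtain ⟨n, hn'⟩ := IsPGroup.iff_card.1 ((Cfsg.Lib.Components.isPGroup_pCore (G := ↥M) 2).map ρ)
        rw [h, card_top, card_gl] at hn'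
        have h3 : 3 ∣ 2 ^ n := hn' ▸ (by norm_num : 3 ∣ 168)
        have := Nat.prime_three.dvd_of_dvd_pow h3
        norm_num at this
    · refine Cfsg.Lib.Components.le_pCore ?_
      rw [hker]
      exact hA2.comap_of_injective M.subtype M.subtype_injective
  refine ⟨?_, ⟨(QuotientGroup.quotientMulEquivOfEq hcore).trans (QuotientGroup.quotientKerEquivOfSurjective ρ hsurj)⟩⟩
  rw [hcore, hker, map_subgroupOf_eq_of_le]
  rw [hM, SetLike.le_def]
  intro g hg
  refine mem_normalizer_iff.2 fun x => ⟨fun hx => ?_, fun hx => ?_⟩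
  · rw [(mem_centralizer_iff.1 hg x hx).symm, mul_inv_cancel_right]; exact hx
  · have h1 := mem_centralizer_iff.1 hg _ hx
    rw [show g * x * g⁻¹ * g = g * x by group] at h1
    rw [mul_left_cancel h1]; exact hx

end Cfsg.Lib.HSType
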