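import Cfsg.Agent.HSType.CentTop
import Cfsg.Agent.HSType.Quotients
import Cfsg.Agent.JankoFour.ThreeTwelve.Generic
import Cfsg.Agent.Known.POver.Small

/-!
# The centraliser of the central involution when it is core-free
-/

set_option autoImplicit false
set_option linter.unusedSectionVars false
set_option linter.style.haveILetI false
set_option maxRecDepth 100000
set_option maxHeartbeats 800000

namespace Cfsg.Lib.HSType

open Subgroup Mdl
open Cfsg.Lib.Walter (Oc)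

universe u

theorem moved_check : (centC.all fun q => InR (dec q) || largeN.any fun r =>
    !inN (mulN q r) [mulN r q, mulN (mulN r q) (code gc), mulN (mulN r q) (code t0),
      mulN (mulN r q) (code gc⁻¹)]) = true := by decide +kernel

/-- An element outside the large subgroup moves one of its cosets. -/
theorem moved {q : Mdl} (hq : q * gc = gc * q) (hR : InR q ≠ true) :
    ∃ r, InR r = true ∧ q * r ≠ r * q ∧ q * r ≠ r * q * gc ∧ q * r ≠ r * q * t0 ∧ q * r ≠ r * q * gc⁻¹ := by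
  have hm : code q ∈ centC := by
    rw [centC, List.mem_filter, List.mem_range, ← code_mul, ← code_mul, Nat.beq_eq, code_inj]
    exact ⟨code_lt q, hq⟩
  have h := List.all_eq_true.1 moved_check _ hm
  simp only [Bool.or_eq_true, dec_code, List.any_eq_true, Bool.not_eq_true', ← Bool.not_eq_true, inN_iff,
    List.mem_cons, List.not_mem_nil, or_false] at h
  rcases h with h | ⟨a, ha, hne⟩
  · exact absurd h hR
  rw [largeN, List.mem_filter, List.mem_range] at ha
  rw [← code_dec a ha.1] at hne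
  simp only [← code_mul, code_inj, not_or] at hne
  exact ⟨dec a, ha.2, hne⟩

theorem quot_witness : gs * gc ≠ gc * gs ∧ InR (gs * ga * gs⁻¹ * ga⁻¹) = false := by decide +kernel

/-- An element of odd prime order without fixed points fixes no proper subgroup. -/
theorem whole_of_fpf {K : Type*} [Group K] [Finite K] {R F : Subgroup K} (hFR : F ≤ R) (hR : Nat.card R = 16)
    {w : K} (hw : w ^ 5 = 1) (hn : ∀ r ∈ F, w * r * w⁻¹ ∈ F) (hfix : ∀ r ∈ R, w * r = r * w → r = 1)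
    (hF : F ≠ ⊥) : R ≤ F := by
  haveI : Fact (Nat.Prime 5) := ⟨by norm_num⟩
  classical
  have hpn : ∀ k ∈ zpowers w, ∀ r ∈ F, k * r * k⁻¹ ∈ F := fun k hk r hr => by
    rw [mem_zpowers_iff] at hk
    obtain ⟨i, rfl⟩ := hk
    rw [zpow_eq_zpow_emod' i hw]
    obtain ⟨n, hn'⟩ := Int.eq_ofNat_of_zero_le (Int.emod_nonneg i (show ((5 : ℕ) : ℤ) ≠ 0 by norm_num))
    rw [hn', zpow_natCast]
    clear hn'
    induction n with
    | zero => simpa using hr
    | succ n ih =>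
      rw [pow_succ', show w * w ^ n * r * (w * w ^ n)⁻¹ = w * (w ^ n * r * (w ^ n)⁻¹) * w⁻¹ by group]
      exact hn _ ih
  letI : MulAction (zpowers w) F :=
    { smul := fun k r => ⟨(k : K) * r * (k : K)⁻¹, hpn k k.2 r r.2⟩
      one_smul := fun r => Subtype.ext (by show (1 : K) * r * (1 : K)⁻¹ = r; group)
      mul_smul := fun k l r => Subtype.ext (by
        show (k : K) * l * r * ((k : K) * l)⁻¹ = k * (l * r * (l : K)⁻¹) * (k : K)⁻¹
        group) }
  have hp : IsPGroup 5 (zpowers w) := by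
    rintro ⟨y, hy⟩
    obtain ⟨i, rfl⟩ := mem_zpowers_iff.1 hy
    refine ⟨1, Subtype.ext ?_⟩
    show (w ^ i) ^ 5 ^ 1 = 1
    rw [pow_one, ← zpow_natCast, ← zpow_mul, mul_comm i, zpow_mul, zpow_natCast, hw, one_zpow]
  have h := hp.card_modEq_card_fixedPoints F
  have hfp : MulAction.fixedPoints (zpowers w) F = {1} := by
    refine Set.eq_singleton_iff_unique_mem.2 ⟨fun k => Subtype.ext ?_, fun r hr => Subtype.ext ?_⟩
    · show (k : K) * 1 * (k : K)⁻¹ = 1
      group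
    · have h := congrArg Subtype.val (hr ⟨w, mem_zpowers w⟩)
      exact hfix r (hFR r.2) (mul_inv_eq_iff_eq_mul.1 h)
  rw [hfp, Nat.card_coe_set_eq, Set.ncard_singleton] at h
  have hd := card_dvd_of_le hFR
  rw [hR, show (16 : ℕ) = 2 ^ 4 from rfl] at hd
  obtain ⟨j, hj, e⟩ := (Nat.dvd_prime_pow Nat.prime_two).1 hd
  have h1 : 1 < Nat.card F := one_lt_card_iff_ne_bot F |>.2 hF
  refine (Subgroup.eq_of_le_of_card_ge hFR ?_).ge
  rw [hR, e]
  rw [e, Nat.ModEq] at h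
  rw [e] at h1
  interval_cases j <;> omega

namespace Typed

variable {G : Type u} [Group G] [Finite G] {c : Typed G} (hp : c.Pattern) (hO : Oc c.T = ⊥)

include hp hO

theorem root_norm {g : G} (hg : g ∈ centralizer ({c.T} : Set G)) :
    g * c.ι gc * g⁻¹ = c.ι gc ∨ g * c.ι gc * g⁻¹ = c.ι gc⁻¹ := by
  obtain ⟨o, ho, h⟩ := root_decomp hp hg
  rw [hO, mem_bot] at ho
  subst ho
  simpa using h

theorem RG_norm : centralizer ({c.T} : Set G) ≤ normalizer (c.RG : Set G) := fun g hg => by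
  obtain ⟨o, ho, h⟩ := C0_decomp hp hg
  rw [hO, mem_bot] at ho
  subst ho
  simpa using h

theorem W_core : Cfsg.pPrimeCore 2 ↥c.W = ⊥ := by
  refine Subgroup.map_injective c.W.subtype_injective ?_
  rw [Subgroup.map_bot, eq_bot_iff]
  exact (OW_le hp).trans hO.le

theorem ker_eq : c.ψ.ker = zpowers c.γW := by
  rw [show c.ψ.ker = c.Ker from QuotientGroup.ker_mk' _, Ker, W_core hp hO, sup_bot_eq]

theorem mem_RG_iff {w : ↥c.W} : (w : G) ∈ c.RG ↔ c.ψ w ∈ c.Rb := by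
  constructor
  · intro h
    obtain ⟨q, hq, e⟩ := mem_RG.1 h
    exact ⟨⟨q, mem_Cm.2 (large_facts hq).1⟩, hq, congrArg c.ψ (Subtype.ext e : c.embW ⟨q, _⟩ = w)⟩
  · rintro ⟨q, hq, e⟩
    have h1 : (c.embW q)⁻¹ * w ∈ zpowers c.γW := by
      rw [← ker_eq hp hO, MonoidHom.mem_ker, map_mul, map_inv, inv_mul_eq_one]; exact e
    obtain ⟨i, hi⟩ := mem_zpowers_iff.1 h1
    have hw : w = c.embW (q * (⟨gc, mem_Cm.2 rfl⟩ : Cm) ^ i) := by
      rw [map_mul, map_zpow, embW_gc, hi, mul_inv_cancel_left]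
    rw [hw]
    exact mem_RG.2 ⟨_, mul_mem hq (zpow_mem local_witness.2.2.2.2.2.2.2.2.2.2.2.1 i), rfl⟩

theorem x6_cent : centralizer ({c.x6} : Set c.K) = c.f.range := by
  haveI : Fact (Nat.Prime 2) := ⟨Nat.prime_two⟩
  obtain ⟨P, hP⟩ := f_sylow (c := c)
  have hle : c.f.range ≤ centralizer ({c.x6} : Set c.K) := by
    rintro _ ⟨q, rfl⟩
    rw [mem_centralizer_singleton_iff]
    show c.f q * c.f _ = c.f _ * c.f q
    rw [← map_mul, ← map_mul]
    rcases swap_facts (mem_Cm.1 q.2) with e | e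
    · exact congrArg c.f (Subtype.ext e)
    · refine f_zpow_gc (i := 2) ?_
      rw [zpow_two, root_witness.1]
      show (q : Mdl) * v6 = v6 * q * t0
      rw [e, mul_assoc, mul_assoc, t0_central]
  exact (P.3 ((Rb_normal hp).2 _ x6_mem x6_ne) (hP ▸ hle)).trans hP

theorem K_card : Nat.card c.K = 960 := by
  classical
  have hker : Nat.card c.f.ker = 4 := by
    have hk : c.f.ker = (zpowers c.γW).comap c.embW := by
      rw [← ker_eq hp hO]; rfl
    rw [hk, show (zpowers c.γW) = (zpowers (⟨gc, mem_Cm.2 rfl⟩ : Cm)).map c.embW by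
        rw [MonoidHom.map_zpowers]; rfl,
      comap_map_eq_self_of_injective c.embW_inj, Nat.card_zpowers, Subgroup.orderOf_mk]
    refine orderOf_eq_prime_pow (p := 2) (n := 1) ?_ ?_ <;> decide +kernel
  have hrange : Nat.card c.f.range = 64 := by
    have h := card_mul_index c.f.ker
    rw [hker, Cm_card, index_ker] at h
    omega
  have horb : MulAction.orbit (ConjAct c.K) c.x6 = {r | r ∈ c.Rb ∧ r ≠ 1} := by
    ext r
    constructor
    · rintro ⟨k, rfl⟩
      show k • c.x6 ∈ c.Rb ∧ k • c.x6 ≠ 1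
      rw [ConjAct.smul_def]
      exact ⟨(Rb_normal hp).1.conj_mem _ x6_mem _, fun e => x6_ne (conj_eq_one_iff.1 e)⟩
    · rintro ⟨hr, hr1⟩
      obtain ⟨k, hk⟩ := to_x6 hp hr hr1
      refine ⟨ConjAct.toConjAct k⁻¹, ?_⟩
      show ConjAct.toConjAct k⁻¹ • c.x6 = r
      rw [ConjAct.toConjAct_smul, ← hk]
      group
  have h15 : (MulAction.orbit (ConjAct c.K) c.x6).ncard = 15 := by
    rw [horb, show {r | r ∈ c.Rb ∧ r ≠ 1} = (c.Rb : Set c.K) \ {1} from rfl,
      Set.ncard_sdiff_singleton_of_mem (one_mem c.Rb), ← Nat.card_coe_set_eq]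
    show Nat.card c.Rb - 1 = 15
    rw [Rb_card]
  have h := card_mul_index (MulAction.stabilizer (ConjAct c.K) c.x6)
  rw [MulAction.index_stabilizer, h15, ← nat_card_centralizer_nat_card_stabilizer, x6_cent hp hO, hrange] at h
  exact h.symm

theorem W_card : Nat.card c.W = 3840 := by
  have h := card_mul_index c.ψ.ker
  rw [index_ker, MonoidHom.range_eq_top.2 ψ_surj, card_top, K_card hp hO, ker_eq hp hO, Nat.card_zpowers,
    show orderOf c.γW = 4 from ?_] at h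
  · exact h.symm
  rw [← embW_gc, orderOf_injective c.embW c.embW_inj, Subgroup.orderOf_mk]
  refine orderOf_eq_prime_pow (p := 2) (n := 1) ?_ ?_ <;> decide +kernel

theorem W_index : (c.W.subgroupOf (centralizer ({c.T} : Set G))).index = 2 := by
  rw [index_eq_two_iff]
  refine ⟨⟨c.ι gs, c.S_le (c.ι_mem gs)⟩, fun b => ?_⟩
  have hgs : c.ι gs * c.ι gc * (c.ι gs)⁻¹ = c.ι gc⁻¹ := by
    rw [← map_inv, ← map_mul, ← map_mul, local_witness.2.2.2.1]
  have hne : c.ι gc⁻¹ ≠ c.ι gc := fun e => root_witness.2.2.2.2.1 (c.ι_inj e).symm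
  have hW : ∀ {x : G}, x ∈ c.W ↔ x * c.ι gc * x⁻¹ = c.ι gc := fun {x} =>
    mem_W.trans mul_inv_eq_iff_eq_mul.symm
  simp only [mem_subgroupOf, Subgroup.coe_mul, hW]
  rcases root_norm hp hO b.2 with e | e
  · right
    refine ⟨e, fun h => hne ?_⟩
    calc c.ι gc⁻¹ = (b : G) * c.ι gc⁻¹ * (b : G)⁻¹ := by rw [map_inv, ← conj_inv, e]
      _ = (b : G) * c.ι gs * c.ι gc * ((b : G) * c.ι gs)⁻¹ := by rw [← hgs]; group
      _ = c.ι gc := h
  · left
    refine ⟨?_, fun h => hne (e.symm.trans h)⟩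
    calc (b : G) * c.ι gs * c.ι gc * ((b : G) * c.ι gs)⁻¹
        = (b : G) * (c.ι gs * c.ι gc * (c.ι gs)⁻¹) * (b : G)⁻¹ := by group
      _ = c.ι gc := by rw [hgs, map_inv, ← conj_inv, e, map_inv, inv_inv]

theorem C0_card : Nat.card ↥(centralizer ({c.T} : Set G)) = 7680 := by
  rw [← card_mul_index (c.W.subgroupOf (centralizer ({c.T} : Set G))), W_index hp hO,
    Nat.card_congr (subgroupOfEquivOfLe (W_le (c := c))).toEquiv, W_card hp hO]

theorem RG_le_W : c.RG ≤ c.W := map_subtype_le _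

theorem RG_card : Nat.card c.RG = 64 := by
  classical
  rw [show Nat.card c.RG = Nat.card {q : Mdl // InR q = true} from ?_, Nat.card_eq_fintype_card,
    Fintype.card_subtype]
  · exact local_witness.2.2.2.2.2.2.2.2.2.2.2.2.2.2.2.2.2.2.2.2.2
  · refine (Nat.card_congr (Equiv.ofBijective
      (fun q : {q : Mdl // InR q = true} => (⟨c.ι q.1, mem_RG.2 ⟨q.1, q.2, rfl⟩⟩ : c.RG)) ⟨?_, ?_⟩)).symm
    · exact fun p q h => Subtype.ext (c.ι_inj (congrArg (fun z : c.RG => (z : G)) h))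
    · rintro ⟨g, hg⟩
      obtain ⟨q, hq, rfl⟩ := mem_RG.1 hg
      exact ⟨⟨q, hq⟩, rfl⟩

/-- An element of order five of the quotient commutes with no involution. -/
theorem fpf_core {a w : ↥c.W} (ha : (a : G) ∉ c.RG) (ha2 : (a : G) * a ∈ c.RG) (hw : (w : G) ∉ c.RG)
    (hw5 : (w : G) ^ 5 ∈ c.RG) (hc : (a : G) * w * (a : G)⁻¹ * (w : G)⁻¹ ∈ c.RG) : False := by
  haveI : Fact (Nat.Prime 2) := ⟨Nat.prime_two⟩
  have hmem : ∀ {x : ↥c.W}, (x : G) ∈ c.RG ↔ c.ψ x ∈ c.Rb := mem_RG_iff hp hO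
  obtain ⟨hn, h2⟩ := Rb_normal hp
  haveI := hn
  set π := QuotientGroup.mk' c.Rb
  have hπ : ∀ {x : c.K}, π x = 1 ↔ x ∈ c.Rb := fun {x} => QuotientGroup.eq_one_iff x
  set a' := c.ψ a with ha'
  set u := (c.ψ w) ^ 6 with hu
  have hw5' : c.ψ w ^ 5 ∈ c.Rb := by rw [← map_pow]; exact hmem.1 (by rwa [SubgroupClass.coe_pow])
  have hu5 : u ^ 5 = 1 := by
    rw [hu, ← pow_mul, show 6 * 5 = 5 * 2 * 3 from rfl, pow_mul, pow_mul,
      show (c.ψ w ^ 5) ^ 2 = 1 by rw [pow_two]; exact Rb_sq _ hw5', one_pow]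
  have hπu : π u = π (c.ψ w) := by
    rw [hu, pow_succ, map_mul, hπ.2 hw5', one_mul]
  have hu1 : u ≠ 1 := fun h => hw (hmem.2 (hπ.1 (by rw [← hπu, h, map_one])))
  have hfix : ∀ r ∈ c.Rb, u * r = r * u → r = 1 := by
    intro r hr hur
    by_contra hr1
    obtain ⟨j, hj⟩ := h2 r hr hr1 ⟨u, mem_centralizer_singleton_iff.2 hur⟩
    exact hu1 (orderOf_eq_one_iff.1 (Nat.eq_one_of_dvd_coprimes
      ((Nat.coprime_two_left.2 (show Odd 5 by decide)).pow_left j)
      (orderOf_dvd_of_pow_eq_one (congrArg Subtype.val hj)) (orderOf_dvd_of_pow_eq_one hu5)))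
  -- a representative centralising the element of order five
  have hr0 : u⁻¹ * (a' * u * a'⁻¹) ∈ c.Rb := hπ.1 (by
    have h := hπ.2 ((hmem (x := a * w * a⁻¹ * w⁻¹)).1 hc)
    simp only [map_mul, map_inv] at h ⊢
    rw [hπu, mul_inv_eq_one.1 h, inv_mul_cancel])
  have hinj : Function.Injective (fun r : c.Rb =>
      (⟨u⁻¹ * (r : c.K) * u * r, mul_mem (by simpa using hn.conj_mem _ r.2 u⁻¹) r.2⟩ : c.Rb)) := by
    intro r s h
    have h' : u⁻¹ * (r : c.K) * u * r = u⁻¹ * s * u * s := congrArg Subtype.val h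
    have hrs : ((r : c.K) * s) = 1 := hfix _ (mul_mem r.2 s.2) (by
      have e : u⁻¹ * ((r : c.K) * s) * u = (r : c.K) * s := by
        calc u⁻¹ * ((r : c.K) * s) * u = u⁻¹ * r * u * r * (r : c.K)⁻¹ * (u⁻¹ * s * u) := by group
          _ = u⁻¹ * s * u * s * (r : c.K)⁻¹ * (u⁻¹ * s * u) := by rw [h']
          _ = u⁻¹ * s * u * ((s : c.K) * r * (u⁻¹ * s * u)) := by
            rw [inv_eq_of_mul_eq_one_right (Rb_sq _ r.2)]; group
          _ = u⁻¹ * s * u * (u⁻¹ * s * u) * ((s : c.K) * r) := by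
            rw [Rb_comm _ (mul_mem s.2 r.2) _ (by simpa using hn.conj_mem _ s.2 u⁻¹)]; group
          _ = _ := by rw [Rb_sq _ (by simpa using hn.conj_mem _ s.2 u⁻¹), one_mul, Rb_comm _ s.2 _ r.2]
      calc u * ((r : c.K) * s) = u * (u⁻¹ * ((r : c.K) * s) * u) := by rw [e]
        _ = _ := by group)
    refine Subtype.ext ?_
    rw [eq_inv_of_mul_eq_one_left hrs, inv_eq_of_mul_eq_one_right (Rb_sq _ s.2)]
  obtain ⟨⟨r, hr⟩, e⟩ := Finite.injective_iff_surjective.1 hinj ⟨_, hr0⟩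
  have e' : u⁻¹ * r * u * r = u⁻¹ * (a' * u * a'⁻¹) := congrArg Subtype.val e
  have hrr : r * r = 1 := Rb_sq r hr
  have e'' : r * u * r = a' * u * a'⁻¹ := by
    refine mul_left_cancel (a := u⁻¹) ?_
    rw [← e']; group
  set b := r * a' with hb
  have hbu : u * b = b * u := by
    refine (mul_inv_eq_iff_eq_mul.1 ?_).symm
    calc b * u * b⁻¹ = r * (a' * u * a'⁻¹) * r⁻¹ := by rw [hb]; group
      _ = r * (r * u * r) * r⁻¹ := by rw [e'']
      _ = (r * r) * u * (r * r⁻¹) := by group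
      _ = u := by rw [hrr, mul_inv_cancel, one_mul, mul_one]
  have hbR : b ∉ c.Rb := fun h => ha (hmem.2 (by
    have := mul_mem (inv_mem hr) h
    rwa [hb, inv_mul_cancel_left] at this))
  have hbb : b * b = 1 := by
    refine hfix _ (hπ.1 ?_) ((show Commute u b from hbu).mul_right hbu).eq
    rw [hb, map_mul, map_mul, hπ.2 hr, one_mul, ← map_mul]
    refine hπ.2 ?_
    rw [ha', ← map_mul]
    exact hmem.1 ha2
  -- its fixed points fill the subgroup
  set F := c.Rb ⊓ centralizer ({b} : Set c.K) with hF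
  have hFn : ∀ r ∈ F, u * r * u⁻¹ ∈ F := fun s hs => mem_inf.2 ⟨hn.conj_mem _ hs.1 u,
    mem_centralizer_singleton_iff.2 (((show Commute u b from hbu).mul_left
      (show Commute s b from mem_centralizer_singleton_iff.1 hs.2)).mul_left
      (show Commute u b from hbu).inv_left).eq⟩
  have hFne : F ≠ ⊥ := by
    have hx := x6_mem (c := c)
    have hbx : b * c.x6 * b⁻¹ ∈ c.Rb := hn.conj_mem _ hx b
    have hbinv : b⁻¹ = b := inv_eq_of_mul_eq_one_right hbb
    intro h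
    by_cases h1 : c.x6 * (b * c.x6 * b⁻¹) = 1
    · refine x6_ne (c := c) ((Subgroup.mem_bot).1 (h ▸ mem_inf.2 ⟨hx, mem_centralizer_singleton_iff.2 ?_⟩))
      have h2 : b * c.x6 * b⁻¹ = c.x6 :=
        (inv_eq_of_mul_eq_one_right h1).symm.trans (inv_eq_of_mul_eq_one_right (Rb_sq _ hx))
      exact (mul_inv_eq_iff_eq_mul.1 h2).symm
    · refine h1 ((Subgroup.mem_bot).1 (h ▸ mem_inf.2 ⟨mul_mem hx hbx, mem_centralizer_singleton_iff.2 ?_⟩))
      refine (mul_inv_eq_iff_eq_mul.1 ?_).symm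
      calc b * (c.x6 * (b * c.x6 * b⁻¹)) * b⁻¹ = b * c.x6 * b⁻¹ * ((b * b) * c.x6 * (b * b)⁻¹) := by group
        _ = _ := by rw [hbb, inv_one, one_mul, mul_one, Rb_comm _ hbx _ hx]
  have hall := whole_of_fpf inf_le_left Rb_card hu5 hFn hfix hFne
  obtain ⟨q, hq⟩ : b ∈ c.f.range := x6_cent hp hO ▸ mem_centralizer_singleton_iff.2
    ((show Commute c.x6 b from mem_centralizer_singleton_iff.1 (hall x6_mem).2).symm.eq)
  have hqR : InR (q : Mdl) ≠ true := fun h => hbR (hq ▸ ⟨q, h, rfl⟩)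
  obtain ⟨s, hs, n1, n2, n3, n4⟩ := moved (mem_Cm.1 q.2) hqR
  set sC : Cm := ⟨s, mem_Cm.2 (large_facts hs).1⟩
  have hcomm : c.f sC * b = b * c.f sC := mem_centralizer_singleton_iff.1 (hall ⟨sC, hs, rfl⟩).2
  rw [← hq, ← map_mul, ← map_mul] at hcomm
  have h1 : c.f ((sC * q)⁻¹ * (q * sC)) = 1 := by rw [map_mul, map_inv, hcomm, inv_mul_cancel]
  have e3 : (q : Mdl) * s = s * q * (((sC * q)⁻¹ * (q * sC) : Cm) : Mdl) := by
    simp only [Subgroup.coe_mul, Subgroup.coe_inv]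
    show _ = s * (q : Mdl) * ((s * (q : Mdl))⁻¹ * ((q : Mdl) * s))
    rw [mul_inv_cancel_left]
  rcases f_ker h1 with e | e | e | e <;> rw [e] at e3
  · exact n1 (e3.trans (mul_one _))
  · exact n2 e3
  · exact n3 e3
  · exact n4 e3

/-- **The centraliser of the central involution modulo its 2-core.** -/
theorem H_quot : (Cfsg.pCore 2 ↥(centralizer ({c.T} : Set G))).map (centralizer ({c.T} : Set G)).subtype = c.RG ∧
    Nonempty ((↥(centralizer ({c.T} : Set G)) ⧸ Cfsg.pCore 2 ↥(centralizer ({c.T} : Set G))) ≃*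
      Equiv.Perm (Fin 5)) := by
  haveI : Fact (Nat.Prime 2) := ⟨Nat.prime_two⟩
  set C0 := centralizer ({c.T} : Set G) with hC0
  have hRC : c.RG ≤ C0 := (RG_le_W hp hO).trans W_le
  set R' := c.RG.subgroupOf C0 with hR'
  haveI hn : R'.Normal := ⟨fun x hx g => mem_subgroupOf.2
    ((mem_normalizer_iff.1 (RG_norm hp hO g.2) _).1 (mem_subgroupOf.1 hx))⟩
  have hR'c : Nat.card R' = 64 := by rw [Nat.card_congr (subgroupOfEquivOfLe hRC).toEquiv, RG_card hp hO]
  have hX : Nat.card (↥C0 ⧸ R') = 120 := by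
    have h := card_mul_index R'
    rw [hR'c, C0_card hp hO, index_eq_card] at h
    omega
  set π := QuotientGroup.mk' R' with hπdef
  have hπ : ∀ {x : ↥C0}, π x = 1 ↔ (x : G) ∈ c.RG := fun {x} =>
    (QuotientGroup.eq_one_iff x).trans mem_subgroupOf
  set W' := c.W.subgroupOf C0 with hW'
  haveI : W'.Normal := normal_of_index_eq_two (W_index hp hO)
  set L := W'.map π with hL
  haveI : L.Normal := Subgroup.Normal.map inferInstance π (QuotientGroup.mk'_surjective _)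
  have hLc : Nat.card L = 60 := by
    have h := card_mul_index (R'.subgroupOf W')
    rw [Nat.card_congr (subgroupOfEquivOfLe (show R' ≤ W' from fun x hx => mem_subgroupOf.2
      (RG_le_W hp hO (mem_subgroupOf.1 hx)))).toEquiv, hR'c,
      Nat.card_congr (subgroupOfEquivOfLe (W_le (c := c))).toEquiv, W_card hp hO] at h
    rw [hL, ← relIndex_ker, QuotientGroup.ker_mk', relIndex]
    omega
  have h5 : ∀ a ∈ L, ∀ w ∈ L, orderOf a = 2 → orderOf w = 5 → ¬ Commute a w := by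
    rintro _ ⟨a, ha, rfl⟩ _ ⟨w, hw, rfl⟩ ha2 hw5 hc
    refine fpf_core hp hO (a := ⟨(a : G), ha⟩) (w := ⟨(w : G), hw⟩) (fun h => ?_) ?_ (fun h => ?_) ?_ ?_
    · rw [hπ.2 h, orderOf_one] at ha2; omega
    · refine (hπ (x := a * a)).1 ?_
      rw [map_mul, ← pow_two, ← ha2, pow_orderOf_eq_one]
    · rw [hπ.2 h, orderOf_one] at hw5; omega
    · show (w : G) ^ 5 ∈ c.RG
      rw [← SubgroupClass.coe_pow]
      refine hπ.1 ?_
      rw [map_pow, ← hw5, pow_orderOf_eq_one]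
    · refine (hπ (x := a * w * a⁻¹ * w⁻¹)).1 ?_
      rw [map_mul, map_mul, map_mul, map_inv, map_inv, hc.eq]
      group
  have hS : ∃ P : Subgroup (↥C0 ⧸ R'), IsPGroup 2 P ∧ ∃ a ∈ P, ∃ b ∈ P, a * b ≠ b * a := by
    refine ⟨((c.S : Subgroup G).subgroupOf C0).map π, (c.S.2.comap_of_injective _ C0.subtype_injective).map π,
      _, mem_map_of_mem π (x := ⟨c.ι gs, c.S_le (c.ι_mem _)⟩) (mem_subgroupOf.2 (c.ι_mem _)),
      _, mem_map_of_mem π (x := ⟨c.ι ga, c.S_le (c.ι_mem _)⟩) (mem_subgroupOf.2 (c.ι_mem _)), fun h => ?_⟩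
    have h1 : π (⟨c.ι gs, c.S_le (c.ι_mem _)⟩ * ⟨c.ι ga, c.S_le (c.ι_mem _)⟩ * (⟨c.ι gs, c.S_le (c.ι_mem _)⟩ : ↥C0)⁻¹ *
        (⟨c.ι ga, c.S_le (c.ι_mem _)⟩ : ↥C0)⁻¹) = 1 := by
      rw [map_mul, map_mul, map_mul, h, map_inv, map_inv]; group
    obtain ⟨q, hq, e⟩ := mem_RG.1 (hπ.1 h1)
    have e' : c.ι q = c.ι (gs * ga * gs⁻¹ * ga⁻¹) := by
      rw [e, map_mul, map_mul, map_mul, map_inv, map_inv]; rfl
    rw [c.ι_inj e'] at hq
    rw [quot_witness.2] at hq
    exact Bool.false_ne_true hq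
  obtain ⟨e⟩ := iso_perm_five L hX hLc h5 hS
  have hpc : Cfsg.pCore 2 ↥C0 = R' := by
    refine le_antisymm (fun x hx => ?_) (Cfsg.Lib.Known.POver.Small.le_pCore hn (IsPGroup.of_card (n := 6) hR'c))
    haveI : (Cfsg.pCore 2 ↥C0).Normal := inferInstance
    haveI : (((Cfsg.pCore 2 ↥C0).map π).map e.toMonoidHom).Normal :=
      Subgroup.Normal.map (Subgroup.Normal.map inferInstance π (QuotientGroup.mk'_surjective _)) _ e.surjective
    have h0 := Cfsg.Lib.JankoFour.ThreeTwelve.normal_two_perm_five (((Cfsg.pCore 2 ↥C0).map π).map e.toMonoidHom)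
      (((Cfsg.Lib.Components.isPGroup_pCore (G := ↥C0) 2).map π).map _)
    rw [Subgroup.map_eq_bot_iff_of_injective _ e.injective] at h0
    exact mem_subgroupOf.2 (hπ.1 ((mem_bot).1 (h0 ▸ mem_map_of_mem π hx)))
  refine ⟨?_, ⟨(QuotientGroup.quotientMulEquivOfEq hpc).trans e⟩⟩
  rw [hpc, hR', subgroupOf_map_subtype, inf_eq_left.2 hRC]

end Typed

end Cfsg.Lib.HSType
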