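import Cfsg.Agent.HSType.Classes

/-!
# The homocyclic subgroup of the model and its automorphism exchanging two classes
-/

set_option autoImplicit false
set_option maxRecDepth 100000

namespace Cfsg.Lib.HSType

open Mdl Subgroup

theorem dmul_closed : ∀ d d' : D8, d = (0, false) → d' = (0, false) → dmul d d' = (0, false) := by decide +kernel

theorem dinv_closed : ∀ d : D8, d = (0, false) → dinv d = (0, false) := by decide +kernel

/-- The homocyclic subgroup. -/
def AM : Subgroup Mdl where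
  carrier := {q | q.d = (0, false)}
  one_mem' := rfl
  mul_mem' := fun hp hq => dmul_closed _ _ hp hq
  inv_mem' := fun hp => dinv_closed _ hp

theorem mem_AM {q : Mdl} : q ∈ AM ↔ q.d = (0, false) := Iff.rfl

theorem AM_code : ∀ q : Mdl, q.d = (0, false) ↔ code q < 64 := by decide +kernel

theorem AM_facts : (∀ v w : E4, (⟨v, (0, false)⟩ : Mdl) * ⟨w, (0, false)⟩ = ⟨w, (0, false)⟩ * ⟨v, (0, false)⟩) ∧
    ∀ v : E4, (⟨v, (0, false)⟩ : Mdl) * ⟨v, (0, false)⟩ * (⟨v, (0, false)⟩ * ⟨v, (0, false)⟩) = 1 := by decide +kernel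

theorem AM_comm {p q : Mdl} (hp : p ∈ AM) (hq : q ∈ AM) : p * q = q * p := by
  obtain ⟨v, d⟩ := p
  obtain ⟨w, d'⟩ := q
  obtain rfl : d = (0, false) := hp
  obtain rfl : d' = (0, false) := hq
  exact AM_facts.1 v w

theorem card_AM : Nat.card AM = 64 := by
  rw [show Nat.card AM = Nat.card E4 from Nat.card_congr
    ⟨fun q => q.1.v, fun v => ⟨⟨v, (0, false)⟩, rfl⟩, fun q => Subtype.ext (by
      obtain ⟨⟨v, d⟩, hq⟩ := q
      obtain rfl : d = (0, false) := hq
      rfl), fun _ => rfl⟩]
  rw [Nat.card_prod, Nat.card_prod, Nat.card_zmod]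

/-- The fixed vectors are few. -/
theorem fix_facts : (∀ d : D8, d ≠ (0, false) → (Finset.univ.filter fun v : E4 => act d v = v).card ≤ 16) ∧
    ∀ d e : D8, d ≠ (0, false) → e ≠ (0, false) → d ≠ e → dmul d e = dmul e d →
      (Finset.univ.filter fun v : E4 => act d v = v ∧ act e v = v).card ≤ 8 := by decide +kernel

theorem dmul_not_comm : ∃ d e : D8, dmul d e ≠ dmul e d := ⟨(1, false), (0, true), by decide⟩

/-- The projection to the dihedral group. -/
theorem proj_mul (p q : Mdl) : (p * q).d = dmul p.d q.d := rfl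

/-- An element commuting with one of the homocyclic part fixes it. -/
theorem fix_of_comm {q : Mdl} {v : E4} (h : q * ⟨v, (0, false)⟩ = ⟨v, (0, false)⟩ * q) : act q.d v = v := by
  have h' : q.v + act q.d v = v + act (0, false) q.v := congrArg Mdl.v h
  rw [act_one, add_comm v] at h'
  exact add_left_cancel h'

/-- **The homocyclic subgroup is the only abelian subgroup of order 64.** -/
theorem eq_AM {B : Subgroup Mdl} (hB : Nat.card B = 64) (hc : ∀ p ∈ B, ∀ q ∈ B, p * q = q * p) : B = AM := by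
  classical
  suffices hle : B ≤ AM from Subgroup.eq_of_le_of_card_ge hle (by rw [hB, card_AM])
  by_contra hne
  obtain ⟨b, hbB, hb⟩ := SetLike.not_le_iff_exists.1 hne
  set K : Finset Mdl := Finset.univ.filter fun q => q ∈ B ∧ q.d = (0, false) with hK
  set I : Finset D8 := (Finset.univ.filter fun q : Mdl => q ∈ B).image Mdl.d with hI
  have hcardB : (Finset.univ.filter fun q : Mdl => q ∈ B).card = 64 := by
    rw [← hB, Nat.card_eq_fintype_card, Fintype.card_subtype]
  have hfib : ∀ d ∈ I, ((Finset.univ.filter fun q : Mdl => q ∈ B).filter fun q => q.d = d).card ≤ K.card := by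
    intro d hd
    obtain ⟨p, hp, rfl⟩ := Finset.mem_image.1 hd
    refine Finset.card_le_card_of_injOn (fun q => p⁻¹ * q) (fun q hq => ?_) (fun q _ q' _ h => mul_left_cancel h)
    simp only [Finset.coe_filter, Set.mem_setOf_eq, Finset.mem_filter, Finset.mem_univ, true_and] at hq hp
    simp only [hK, Finset.coe_filter, Set.mem_setOf_eq, Finset.mem_univ, true_and]
    refine ⟨mul_mem (inv_mem hp) hq.1, ?_⟩
    rw [proj_mul, hq.2]
    exact (dmul_facts.2 p.d).2.2
  have hle : 64 ≤ K.card * I.card := by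
    rw [← hcardB]
    exact Finset.card_le_mul_card_image _ _ hfib
  -- the kernel lies among the fixed vectors
  have hKv : ∀ (P : E4 → Prop) [DecidablePred P], (∀ v : E4, (⟨v, (0, false)⟩ : Mdl) ∈ B → P v) →
      K.card ≤ (Finset.univ.filter P).card := fun P _ hP => by
    refine Finset.card_le_card_of_injOn Mdl.v (fun q hq => ?_) ?_
    · simp only [hK, Finset.coe_filter, Set.mem_setOf_eq, Finset.mem_univ, true_and] at hq ⊢
      exact hP q.v (by obtain ⟨v, d⟩ := q; obtain rfl : d = (0, false) := hq.2; exact hq.1)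
    · intro q hq q' hq' h
      simp only [hK, Finset.coe_filter, Set.mem_setOf_eq, Finset.mem_univ, true_and] at hq hq'
      obtain ⟨v, d⟩ := q
      obtain ⟨v', d'⟩ := q'
      simp_all
  have hIB : ∀ d ∈ I, ∃ q ∈ B, q.d = d := fun d hd => by
    obtain ⟨q, hq, hqd⟩ := Finset.mem_image.1 hd
    exact ⟨q, (Finset.mem_filter.1 hq).2, hqd⟩
  have hfix : ∀ d ∈ I, ∀ v : E4, (⟨v, (0, false)⟩ : Mdl) ∈ B → act d v = v := fun d hd v hv => by
    obtain ⟨q, hq, rfl⟩ := hIB d hd
    exact fix_of_comm (hc q hq _ hv)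
  have hIcomm : ∀ d ∈ I, ∀ e ∈ I, dmul d e = dmul e d := fun d hd e he => by
    obtain ⟨p, hp, rfl⟩ := hIB d hd
    obtain ⟨q, hq, rfl⟩ := hIB e he
    exact congrArg Mdl.d (hc p hp q hq)
  have hbI : b.d ∈ I := Finset.mem_image_of_mem _ (Finset.mem_filter.2 ⟨Finset.mem_univ _, hbB⟩)
  have hbne : b.d ≠ (0, false) := hb
  have h16 : K.card ≤ 16 := (hKv _ (hfix _ hbI)).trans (fix_facts.1 _ hbne)
  by_cases h2 : ∃ e ∈ I, e ≠ (0, false) ∧ e ≠ b.d
  · obtain ⟨e, he, he1, heb⟩ := h2
    have h8 : K.card ≤ 8 := (hKv _ fun v hv => ⟨hfix _ hbI v hv, hfix _ he v hv⟩).trans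
      (fix_facts.2 _ _ hbne he1 heb.symm (hIcomm _ hbI _ he))
    have hI8 : I.card < 8 := by
      have hlt : I ⊂ Finset.univ := by
        refine Finset.ssubset_univ_iff.2 fun h => ?_
        obtain ⟨d, e, hde⟩ := dmul_not_comm
        exact hde (hIcomm d (h ▸ Finset.mem_univ _) e (h ▸ Finset.mem_univ _))
      exact lt_of_lt_of_le (Finset.card_lt_card hlt) (le_of_eq rfl)
    nlinarith
  · push_neg at h2
    have hI2 : I.card ≤ 2 := by
      refine (Finset.card_le_card (t := {(0, false), b.d}) fun e he => ?_).trans Finset.card_le_two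
      simp only [Finset.mem_insert, Finset.mem_singleton]
      by_cases h : e = (0, false)
      · exact Or.inl h
      · exact Or.inr (h2 e he h)
    nlinarith

/-- The vectors of order two. -/
def InV (q : Mdl) : Bool := decide (q.d = (0, false)) && ev' q.v
where
  /-- all the coordinates are even -/
  ev' (v : E4) : Bool := decide (v + v = 0)

theorem InV_cls : ∀ q : Mdl, InV q = true → q ≠ 1 → cls q = 6 ∨ cls q = 7 ∨ cls q = 8 := by decide +kernel

theorem cls_InV_check : (invN.all fun a => !(inN (clsN a) [6, 7, 8]) || Nat.blt a 64) = true := by decide +kernel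

theorem InV_iff : ∀ q : Mdl, InV q = true ↔ q.d = (0, false) ∧ q * q = 1 := by decide +kernel

theorem cls_V {q : Mdl} (h : q * q = 1) (h1 : q ≠ 1) (hc : cls q = 6 ∨ cls q = 7 ∨ cls q = 8) : InV q = true := by
  have hw := List.all_eq_true.1 cls_InV_check _ (mem_invN h h1)
  rw [Bool.or_eq_true, Bool.not_eq_true'] at hw
  refine (InV_iff q).2 ⟨(AM_code q).2 ?_, h⟩
  rcases hw with hw | hw
  · rw [← Bool.not_eq_true, inN_iff] at hw
    exact absurd (by simpa [cls] using hc) hw
  · exact Nat.le_of_ble_eq_true hw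

theorem move_check : (invN.all fun d => invN.all fun v => !Nat.blt v 64 ||
    inN (mulN (mulN d v) (mulN d v)) [0, code t0] || inN (clsN d) [0, 3]) = true := by decide +kernel

/-- An involution moving a vector of order two by a non-central element is outer. -/
theorem move_facts {d v : Mdl} (hd : d * d = 1) (hd1 : d ≠ 1) (hv : InV v = true) (hv1 : v ≠ 1)
    (h1 : d * v * (d * v) ≠ 1) (h2 : d * v * (d * v) ≠ t0) : cls d = 0 ∨ cls d = 3 := by
  obtain ⟨hvA, hvv⟩ := (InV_iff v).1 hv
  have h := List.all_eq_true.1 (List.all_eq_true.1 move_check _ (mem_invN hd hd1)) _ (mem_invN hvv hv1)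
  simp only [← code_mul, ← code_one, Bool.or_eq_true, inN_iff, List.mem_cons, List.not_mem_nil, or_false,
    Bool.not_eq_true', code_inj] at h
  rcases h with (h | h | h) | h
  · rw [← Bool.not_eq_true] at h
    exact absurd (Nat.ble_eq_true_of_le ((AM_code v).1 hvA)) h
  · exact absurd h h1
  · exact absurd h h2
  · exact h

theorem flip_check : (invN.all fun d => (List.range 64).all fun a =>
    !inN (clsN d) [0, 3] || !Nat.beq (mulN a a) (code t0) || !Nat.beq (mulN (mulN a d) (mulN a d)) 0 ||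
      !Nat.beq (clsN (mulN a d)) (clsN d)) = true := by decide +kernel

/-- A square root of the central involution exchanges the two outer classes. -/
theorem flip_facts {d a : Mdl} (hd : d * d = 1) (hd1 : d ≠ 1) (hc : cls d = 0 ∨ cls d = 3) (ha : a ∈ AM)
    (ha2 : a * a = t0) (h : a * d * (a * d) = 1) : cls (a * d) ≠ cls d := by
  have h' := List.all_eq_true.1 (List.all_eq_true.1 flip_check _ (mem_invN hd hd1)) (code a)
    (List.mem_range.2 ((AM_code a).1 ha))
  simp only [← code_mul, ← code_one, Bool.or_eq_true, Bool.not_eq_true', ← Bool.not_eq_true, inN_iff, List.mem_cons,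
    List.not_mem_nil, or_false, Nat.beq_eq, code_inj] at h'
  rcases h' with ((h' | h') | h') | h'
  · exact absurd hc h'
  · exact absurd ha2 h'
  · exact absurd h h'
  · exact h'

theorem flip_witness : (⟨(0, 1, 0), (0, false)⟩ : Mdl) * ⟨(0, 1, 0), (0, false)⟩ = v7 ∧
    (⟨(0, 1, 0), (0, false)⟩ : Mdl) * i1 = i5 ∧ i1 * v7 = v7 * i1 ∧ i5 * v7 = v7 * i5 ∧
    (let v : Mdl := ⟨(0, 0, 2), (0, false)⟩; InV v = true ∧ v ≠ 1 ∧ v * v7 = v7 * v ∧ i1 * v * (i1 * v) = t0) ∧
    (⟨(0, 1, 0), (0, false)⟩ : Mdl) * v7 = v7 * ⟨(0, 1, 0), (0, false)⟩ ∧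
    v7 * v6 = v6 * v7 ∧ i2 * v6 = v6 * i2 ∧ InV v7 = true ∧ i2 * v7 * (i2 * v7) = t0 ∧ InV v6 = true := by
  decide +kernel

end Cfsg.Lib.HSType
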