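import Cfsg.Agent.HSType.HGroup
import Cfsg.Agent.HSType.Core
import Cfsg.Agent.LargeExtra.Coprime
import Cfsg.Agent.S3346

/-!
# Simple groups with the Sylow 2-subgroups of the Higman-Sims group
-/

set_option autoImplicit false
set_option linter.unusedSectionVars false
set_option linter.style.haveILetI false
set_option maxRecDepth 100000
set_option maxHeartbeats 800000

namespace Cfsg.Lib.HSType

open Subgroup Mdl
open Cfsg.Lib.Walter (Oc)

universe u

/-- The extraspecial part of the large subgroup. -/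
def InE (q : Mdl) : Bool := InR q && decide (q.v.1 + q.v.1 = 0)

theorem InE_iff {q : Mdl} : InE q = true ↔ InR q = true ∧ q.v.1 + q.v.1 = 0 := by simp [InE]

/-- The codes of the extraspecial part. -/
def extraN : List ℕ := (List.range 512).filter fun q => InE (dec q)

theorem extra_check : (extraN.all fun p =>
    (inN p [0, code t0] || extraN.any fun q => !Nat.beq (mulN p q) (mulN q p)) &&
    extraN.all fun q => InE (dec (mulN p q))) = true := by decide +kernel

theorem mem_extraN {q : Mdl} (h : InE q = true) : code q ∈ extraN := by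
  rw [extraN, List.mem_filter, List.mem_range, dec_code]
  exact ⟨code_lt q, h⟩

theorem extra_split_check : (largeN.all fun q => InE (dec q) || InE (dec (mulN q (code gc)))) = true := by
  decide +kernel

theorem extra_witness : InE t0 = true ∧ InE (1 : Mdl) = true ∧ InE v7 = true ∧ InE i1 = true ∧
    InE gc = false ∧ InE gc⁻¹ = false ∧
    (Finset.univ.filter fun q : Mdl => InE q = true).card = 32 := by decide +kernel

/-- The extraspecial subgroup in the model. -/
def Em : Subgroup Mdl where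
  carrier := {q | InE q = true}
  one_mem' := extra_witness.2.1
  mul_mem' := fun {p q} hp hq => by
    have h := List.all_eq_true.1 extra_check _ (mem_extraN hp)
    rw [Bool.and_eq_true] at h
    have h' := List.all_eq_true.1 h.2 _ (mem_extraN hq)
    rwa [← code_mul, dec_code] at h'
  inv_mem' := fun {p} hp => by
    have hm : ∀ {x y : Mdl}, InE x = true → InE y = true → InE (x * y) = true := fun {x y} hx hy => by
      have h := List.all_eq_true.1 extra_check _ (mem_extraN hx)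
      rw [Bool.and_eq_true] at h
      have h' := List.all_eq_true.1 h.2 _ (mem_extraN hy)
      rwa [← code_mul, dec_code] at h'
    obtain ⟨-, h2, -⟩ := large_facts (InE_iff.1 hp).1
    show InE p⁻¹ = true
    have h4 : p * p * (p * p) = 1 := by
      rcases h2 with e | e <;> rw [e]
      · exact one_mul 1
      · exact t0_facts.1
    rw [inv_eq_of_mul_eq_one_right (show p * (p * p * p) = 1 by rw [← h4]; group)]
    exact hm (hm hp hp) hp

/-- The homocyclic subgroup in coordinates. -/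
def AMequiv : AM ≃* Multiplicative (ZMod 4 × ZMod 4 × ZMod 4) where
  toFun q := Multiplicative.ofAdd q.1.v
  invFun v := ⟨⟨Multiplicative.toAdd v, (0, false)⟩, rfl⟩
  left_inv q := Subtype.ext (by
    obtain ⟨⟨v, d⟩, hd⟩ := q
    obtain rfl : d = (0, false) := hd
    rfl)
  right_inv _ := rfl
  map_mul' p q := by
    obtain ⟨⟨v, d⟩, hd⟩ := p
    obtain rfl : d = (0, false) := hd
    show Multiplicative.ofAdd (v + act (0, false) q.1.v) = _
    rw [act_one]
    rfl

namespace Typed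

variable {G : Type u} [Group G] [Finite G] {c : Typed G}

theorem Img_ι_AM {a : Mdl} (ha : a ∈ AM) (q : Mdl) : ∃ a', c.Img (c.ι q) a a' := ⟨_, img_ι c q a⟩

theorem norm_VG {g : G} (hA : ∀ a ∈ AM, ∃ a', c.Img g a a') : g ∈ normalizer (c.VG : Set G) :=
  Cfsg.Lib.ZStarApps.mem_normalizer_of_maps fun x hx => by
    obtain ⟨q, hq, rfl⟩ := hx
    obtain ⟨q', hq'⟩ := hA q ((InV_iff q).1 hq).1
    exact ⟨q', c.img_InV hA hq hq', hq'⟩

theorem VG_trans (hp : c.Pattern) {v : G} (hv : v ∈ c.VG) (hv1 : v ≠ 1) :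
    ∃ g ∈ normalizer (c.VG : Set G), g * v * g⁻¹ = c.T := by
  have hconj := VG_tconj hp hv hv1
  obtain ⟨q, hq, rfl⟩ := hv
  obtain ⟨g, hg, hgq⟩ := c.exists_move hconj
  exact ⟨g, norm_VG fun a ha => hgq a (AM_comm (p := a) ha ((InV_iff q).1 hq).1), hg.symm⟩

variable (hp : c.Pattern) (hO : Oc c.T = ⊥)

include hp hO

theorem cent_VG : centralizer (c.VG : Set G) = AM.map c.ι ∧ IsPGroup 2 (AM.map c.ι : Subgroup G) := by
  haveI : Fact (Nat.Prime 2) := ⟨Nat.prime_two⟩
  set X := centralizer (c.VG : Set G) with hX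
  have hXT : X ≤ centralizer ({c.T} : Set G) :=
    centralizer_le (Set.singleton_subset_iff.2 (T_mem_VG (c := c)))
  have hX6 : X ≤ centralizer ({c.ι v6} : Set G) :=
    centralizer_le (Set.singleton_subset_iff.2 ⟨v6, class_witness.2.2.1, rfl⟩)
  have hX7 : X ≤ centralizer ({c.ι v7} : Set G) :=
    centralizer_le (Set.singleton_subset_iff.2 ⟨v7, class_witness.2.1, rfl⟩)
  have hodd : ∀ u ∈ X, ∀ m : ℕ, Odd m → u ^ m = 1 → u = 1 := fun u hu m hm hum => by
    have h := odd_fix hp (hXT hu) hm (by rw [hum]; exact one_mem _)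
      local_witness.2.2.2.2.2.2.2.2.1 local_witness.2.2.2.2.2.2.2.2.2.2.2.2.1
      local_witness.2.2.2.2.2.2.2.2.2.2.2.2.2.1 class_witness.2.2.2.2.2.2.2.2.2.2.1
      (mem_centralizer_singleton_iff.1 (hX6 hu))
    rwa [hO, mem_bot] at h
  have hXp : IsPGroup 2 X := by
    rintro ⟨x, hx⟩
    obtain ⟨i, n, hn, he⟩ := Nat.exists_eq_two_pow_mul_odd (orderOf_pos x).ne'
    refine ⟨i, Subtype.ext ?_⟩
    show x ^ 2 ^ i = 1
    exact hodd _ (pow_mem hx _) n hn (by rw [← pow_mul, ← he, pow_orderOf_eq_one])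
  have hAX : AM.map c.ι ≤ X := by
    rintro _ ⟨a, ha, rfl⟩
    rw [hX, mem_centralizer_iff]
    rintro _ ⟨q, hq, rfl⟩
    exact (c.ι_comm (AM_comm (p := q) ((InV_iff q).1 hq).1 ha)).eq
  refine ⟨le_antisymm (fun x hx => ?_) hAX, hXp.to_le hAX⟩
  obtain ⟨k, hk, hkS⟩ := Cfsg.Lib.TwoFusion.exists_sylow_conj c.S c.S_le hXp hXT
  have hA : ∀ a ∈ AM, ∃ a', c.Img k a a' := fun a ha => c.exists_ι (hkS _ (hAX ⟨a, ha, rfl⟩))
  choose f hf using hA
  have hfA : ∀ a (ha : a ∈ AM), f a ha ∈ AM := fun a ha => c.img_AM (fun b hb => ⟨_, hf b hb⟩) ha (hf a ha)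
  have hinj : Function.Injective (fun a : AM => (⟨f a.1 a.2, hfA a.1 a.2⟩ : AM)) := fun a b h => by
    by_contra hne
    exact Img.ne (hf a.1 a.2) (hf b.1 b.2) (fun e => hne (Subtype.ext e)) (congrArg Subtype.val h)
  have hsurj := Finite.injective_iff_surjective.1 hinj
  obtain ⟨q, hq⟩ := c.exists_ι (hkS x hx)
  have hcomm : ∀ b ∈ AM, q * b = b * q := fun b hb => by
    obtain ⟨⟨a, ha⟩, e⟩ := hsurj ⟨b, hb⟩
    have e' : f a ha = b := congrArg Subtype.val e
    subst e'
    refine c.ι_inj ?_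
    rw [map_mul, map_mul, hq, show c.ι (f a ha) = k * c.ι a * k⁻¹ from hf a ha]
    exact ((show Commute x (c.ι a) from
      vectors_comm hXp hXT hX6 hX7 hx (hAX ⟨a, ha, rfl⟩)).map (MulAut.conj k).toMonoidHom).eq
  have hqA : q ∈ AM :=
    v7_check.1 q (hcomm v6 (show v6.d = (0, false) from ((InV_iff _).1 class_witness.2.2.1).1))
      (hcomm v7 (show v7.d = (0, false) from ((InV_iff _).1 class_witness.2.1).1))
  obtain ⟨⟨a, ha⟩, e⟩ := hsurj ⟨q, hqA⟩
  refine ⟨a, ha, ?_⟩
  have h : c.ι q = k * c.ι a * k⁻¹ := by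
    rw [← show f a ha = q from congrArg Subtype.val e]; exact hf a ha
  exact (mul_left_cancel (mul_right_cancel (hq.symm.trans h))).symm

theorem V_local : Nonempty (Cfsg.pCore 2 ↥(normalizer (c.VG : Set G)) ≃*
      Multiplicative (ZMod 4 × ZMod 4 × ZMod 4)) ∧
    Nonempty (↥(normalizer (c.VG : Set G)) ⧸ Cfsg.pCore 2 ↥(normalizer (c.VG : Set G)) ≃*
      GL (Fin 3) (ZMod 2)) := by
  haveI : Fact (Nat.Prime 2) := ⟨Nat.prime_two⟩
  obtain ⟨hA, hA2⟩ := cent_VG hp hO
  set M := normalizer (c.VG : Set G) with hM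
  have hSM : (c.S : Subgroup G) ≤ M := fun s hs => by
    obtain ⟨q, rfl⟩ := c.exists_ι hs
    exact norm_VG fun a ha => Img_ι_AM ha q
  have hAS : AM.map c.ι ≤ (c.S : Subgroup G) := by
    rintro _ ⟨q, -, rfl⟩
    exact c.ι_mem q
  have h8 : 8 ∣ (AM.map c.ι).relIndex M := by
    refine ⟨(c.S : Subgroup G).relIndex M, ?_⟩
    rw [← relIndex_mul_relIndex _ _ _ hAS hSM]
    congr 1
    have h := card_mul_index ((AM.map c.ι).subgroupOf (c.S : Subgroup G))
    rw [Nat.card_congr (subgroupOfEquivOfLe hAS).toEquiv, card_map_of_injective c.ι_inj, card_AM,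
      ← Nat.card_congr c.e.toEquiv, Mdl.card] at h
    rw [relIndex]; omega
  obtain ⟨hOM, hGL⟩ := quot_gl_three c.VG (AM.map c.ι) M VG_comm
    (fun a ha => by rw [← pow_two]; exact VG_sq a ha) VG_card hA.symm hM hA2 (fun v hv w hw hv1 hw1 => by
      obtain ⟨g, hg, e⟩ := VG_trans hp hv hv1
      obtain ⟨k, hk, e'⟩ := VG_trans hp hw hw1
      refine ⟨k⁻¹ * g, mul_mem (inv_mem hk) hg, ?_⟩
      rw [show k⁻¹ * g * v * (k⁻¹ * g)⁻¹ = k⁻¹ * (g * v * g⁻¹) * k by group, e, ← e']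
      group) h8
  refine ⟨⟨?_⟩, hGL⟩
  exact ((equivMapOfInjective (Cfsg.pCore 2 ↥M) M.subtype M.subtype_injective).trans
    (MulEquiv.subgroupCongr hOM)).trans ((equivMapOfInjective AM c.ι c.ι_inj).symm.trans AMequiv)

theorem iso_HS : Cfsg.Spor.IsoHS G := by
  classical
  haveI : Fact (Nat.Prime 2) := ⟨Nat.prime_two⟩
  obtain ⟨hR, ⟨eH⟩⟩ := H_quot hp hO
  obtain ⟨⟨eOM⟩, ⟨eM⟩⟩ := V_local hp hO
  obtain ⟨hEt, -, hE7, hE1, hEc, hEc', hE32⟩ := extra_witness
  set Cy : Subgroup G := zpowers (c.ι gc) with hCy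
  set E : Subgroup G := Em.map c.ι with hE
  have hEmem : ∀ {g : G}, g ∈ E ↔ ∃ q, InE q = true ∧ c.ι q = g := fun {g} => Iff.rfl
  have hER : E ≤ c.RG := fun g hg => by
    obtain ⟨q, hq, rfl⟩ := hEmem.1 hg
    exact mem_RG.2 ⟨q, (InE_iff.1 hq).1, rfl⟩
  have hgR : c.ι gc ∈ c.RG := mem_RG.2 ⟨gc, local_witness.2.2.2.2.2.2.2.2.2.2.2.1, rfl⟩
  have hgc : c.ι gc ∈ c.RG ⊓ centralizer (c.RG : Set G) := by
    refine mem_inf.2 ⟨hgR, mem_centralizer_iff.2 fun g hg => ?_⟩
    obtain ⟨q, hq, rfl⟩ := mem_RG.1 hg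
    exact (c.ι_comm (large_facts hq).1).eq
  have hcomm : ∀ a ∈ E, ∀ b ∈ E, Commute a b ∨ a * b = b * a * c.T := by
    intro a ha b hb
    obtain ⟨p, hp', rfl⟩ := hEmem.1 ha
    obtain ⟨q, hq', rfl⟩ := hEmem.1 hb
    rcases ((large_facts (InE_iff.1 hp').1).2.2.2 q (InE_iff.1 hq').1).2 with e | e
    · exact Or.inl (c.ι_comm e)
    · right
      rw [← map_mul, ← map_mul, ← map_mul, e]
  have hcen : ∀ a ∈ E, (∀ b ∈ E, Commute b a) → a = 1 ∨ a = c.T := by
    intro a ha hc
    obtain ⟨p, hp', rfl⟩ := hEmem.1 ha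
    have h := List.all_eq_true.1 extra_check _ (mem_extraN hp')
    simp only [Bool.and_eq_true, Bool.or_eq_true, List.any_eq_true, Bool.not_eq_true', ← Bool.not_eq_true,
      inN_iff, List.mem_cons, List.not_mem_nil, or_false, Nat.beq_eq] at h
    rcases h.1 with (e | e) | ⟨b, hb, hne⟩
    · left; rw [code_inj.1 (e.trans code_one.symm), map_one]
    · right; rw [code_inj.1 e]
    · exfalso
      rw [extraN, List.mem_filter, List.mem_range] at hb
      obtain ⟨hl, hb⟩ := hb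
      rw [← code_dec b hl, ← code_mul, ← code_mul, code_inj] at hne
      exact hne (c.ι_inj (by rw [map_mul, map_mul]; exact (hc _ (hEmem.2 ⟨_, hb, rfl⟩)).eq.symm))
  have hTT : c.T * c.T = 1 := by rw [← map_mul, t0_facts.1, map_one]
  have hTE : c.T ∈ E := hEmem.2 ⟨t0, hEt, rfl⟩
  have hTcen : ∀ a ∈ E, Commute a c.T := fun a ha => by
    obtain ⟨p, -, rfl⟩ := hEmem.1 ha
    exact c.ι_comm (t0_central p)
  have hEex : Cfsg.IsExtraspecial 2 E := by
    refine Cfsg.Lib.LargeExtra.isExtraspecial_of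
      (c.S.2.to_le (by rintro _ ⟨q, -, rfl⟩; exact c.ι_mem q)) hTE (c.ι_ne t0_facts.2) hTT hTcen ?_ ?_ hcen ?_
    · intro a ha b hb
      rcases hcomm a ha b hb with e | e
      · exact Or.inl (commutatorElement_eq_one_iff_mul_comm.2 e.eq)
      · right
        rw [commutatorElement_def, e]
        calc b * a * c.T * a⁻¹ * b⁻¹ = b * (a * c.T) * a⁻¹ * b⁻¹ := by group
          _ = b * (c.T * a) * a⁻¹ * b⁻¹ := by rw [(hTcen a ha).eq]
          _ = b * c.T * b⁻¹ := by group
          _ = c.T := by rw [(hTcen b hb).eq, mul_inv_cancel_right]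
    · intro a ha
      obtain ⟨p, hp', rfl⟩ := hEmem.1 ha
      rw [← map_mul]
      rcases (large_facts (InE_iff.1 hp').1).2.1 with e | e <;> rw [e]
      · exact Or.inl (map_one _)
      · exact Or.inr rfl
    · refine ⟨c.ι i1, hEmem.2 ⟨_, hE1, rfl⟩, ?_⟩
      by_contra hall
      push Not at hall
      rcases hcen (c.ι i1) (hEmem.2 ⟨_, hE1, rfl⟩) (fun b hb => (hall b hb).symm) with e | e
      · exact c.ι_ne (show i1 ≠ 1 by decide +kernel) e
      · exact absurd (c.ι_inj e) (show i1 ≠ t0 by decide +kernel)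
  have hmeet : Cy ⊓ E = E ⊓ centralizer (E : Set G) := by
    refine le_antisymm (fun g hg => mem_inf.2 ⟨hg.2, mem_centralizer_iff.2 fun e he => ?_⟩) fun g hg => ?_
    · obtain ⟨i, rfl⟩ := mem_zpowers_iff.1 hg.1
      exact ((show Commute (c.ι gc) e from (mem_centralizer_iff.1 hgc.2 e (hER he)).symm).zpow_left i).eq.symm
    · rcases hcen g hg.1 (fun b hb => mem_centralizer_iff.1 hg.2 b hb) with e | e
      · rw [e]; exact one_mem _
      · rw [e]
        exact mem_inf.2 ⟨mem_zpowers_iff.2 ⟨2, by rw [zpow_two, ← map_mul, root_witness.1]⟩, hTE⟩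
  refine Cfsg.Agent.S3346.result c.T c.orderOf_T (centralizer ({c.T} : Set G)) rfl c.RG hR.symm Cy E
    inferInstance ?_ (zpowers_le.2 hgc) hER hEex ?_ ?_ hmeet eH c.VG ⟨⟨fun a b => ?_⟩⟩ VG_sq VG_card ?_
    (normalizer (c.VG : Set G)) rfl eOM eM
  · rw [hCy, Nat.card_zpowers, orderOf_injective c.ι c.ι_inj]
    refine orderOf_eq_prime_pow (p := 2) (n := 1) ?_ ?_ <;> decide +kernel
  · rw [hE, card_map_of_injective c.ι_inj,
      show Nat.card ↥Em = Nat.card {q : Mdl // InE q = true} from rfl, Nat.card_eq_fintype_card, Fintype.card_subtype]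
    exact hE32
  · refine le_antisymm (sup_le (zpowers_le.2 hgR) hER) fun g hg => ?_
    obtain ⟨q, hq, rfl⟩ := mem_RG.1 hg
    have h := List.all_eq_true.1 extra_split_check _ (mem_largeN hq)
    simp only [← code_mul, dec_code, Bool.or_eq_true] at h
    rcases h with e | e
    · exact mem_sup_right (hEmem.2 ⟨q, e, rfl⟩)
    · rw [show c.ι q = c.ι (q * gc) * (c.ι gc)⁻¹ by rw [map_mul, mul_inv_cancel_right]]
      exact mul_mem (mem_sup_right (hEmem.2 ⟨_, e, rfl⟩)) (inv_mem (mem_sup_left (mem_zpowers _)))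
  · exact Subtype.ext (VG_comm (c := c) (a : G) a.2 (b : G) b.2)
  · intro v hv
    obtain ⟨q, hq, rfl⟩ := hv
    exact mem_RG.2 ⟨q, vectors_R q hq, rfl⟩

end Typed

/-- A simple group with the Sylow 2-subgroups of the Higman-Sims group is that group. -/
theorem iso_of_sylow {G : Type u} [Group G] [Finite G] [IsSimpleGroup G] (S : Sylow 2 G)
    (P : Sylow 2 ↥Cfsg.Spor.HS) (hS : Nonempty (↥(S : Subgroup G) ≃* ↥(P : Subgroup ↥Cfsg.Spor.HS))) :
    Cfsg.Spor.IsoHS G := by
  obtain ⟨c, -⟩ := exists_typed S P hS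
  obtain ⟨c', -, hp⟩ := c.exists_pattern
  exact Typed.iso_HS hp (Typed.core_trivial hp)

end Cfsg.Lib.HSType
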