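import Cfsg.Agent.HSLocal.Model
import Cfsg.Agent.HSType.Coord

/-!
# The words of the coordinates in the permutations of the Higman-Sims group
-/

set_option autoImplicit false
set_option maxRecDepth 100000

namespace Cfsg.Lib.HSType

open Cfsg.Lib.HSLocal Cfsg.Lib.PermCert

/-- The word of the first basis vector. -/
def wC : List ℕ := [7]
/-- The word of the second basis vector. -/
def wA : List ℕ := [1, 4, 0, 6, 6]
/-- The word of the third basis vector. -/
def wB : List ℕ := [0, 4, 4, 1, 5, 6]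
/-- The word of the element of order four. -/
def wW : List ℕ := [1, 3, 4, 4, 0] ++ [0, 2, 3, 1, 6, 6]
/-- The word of the involution. -/
def wS : List ℕ := [0, 2, 3, 1, 6, 6]

/-- A power of a word. -/
def pW (w : List ℕ) : ℕ → List ℕ
  | 0 => []
  | n + 1 => w ++ pW w n

/-- The word of an element. -/
def eW (q : Mdl) : List ℕ :=
  pW wC q.v.1.val ++ pW wA q.v.2.1.val ++ pW wB q.v.2.2.val ++ pW wW q.d.1.val ++ (bif q.d.2 then wS else [])

theorem rel_checks :
    eqW (pW wC 4) [] = true ∧ eqW (pW wA 4) [] = true ∧ eqW (pW wB 4) [] = true ∧ eqW (pW wW 4) [] = true ∧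
    eqW (pW wS 2) [] = true ∧
    eqW (wC ++ wA) (wA ++ wC) = true ∧ eqW (wC ++ wB) (wB ++ wC) = true ∧ eqW (wA ++ wB) (wB ++ wA) = true ∧
    eqW (wW ++ wC) (pW wC 3 ++ wW) = true ∧ eqW (wW ++ wA) (wC ++ pW wA 2 ++ pW wB 3 ++ wW) = true ∧
    eqW (wW ++ wB) (pW wA 3 ++ wW) = true ∧
    eqW (wS ++ wC) (pW wC 3 ++ wS) = true ∧ eqW (wS ++ wA) (wB ++ wS) = true ∧ eqW (wS ++ wB) (wA ++ wS) = true ∧
    eqW (wS ++ wW) (pW wW 3 ++ wS) = true := by decide +kernel

theorem words_small : ∀ q : Mdl, ((eW q).all fun l => Nat.blt l 11) = true := by decide +kernel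

theorem words_ne : ∀ q : Mdl, q ≠ 1 →
    ((List.range 100).any fun x => Cfsg.Lib.CosetCert.evalW tabX (eW q) x != x) = true := by decide +kernel

end Cfsg.Lib.HSType
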